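import Cfsg.Agent.KSG55.Pres.Seven

set_option autoImplicit false

/-! Degree `p + 2`: the core alone. -/

namespace Cfsg.Agent.KSG55.Pres

open Equiv

variable {p : ℕ} [Fact p.Prime]

theorem exists_core_data (hp : p ≠ 2) :
    ∃ (γ : ZMod p) (s : ℕ), (γ - 1) * (s : ZMod p) = 1 ∧ ∀ a : ZMod p, a ≠ 0 → ∃ l : ℕ, γ ^ l = a := by
  obtain ⟨γu, hγu⟩ := IsCyclic.exists_generator (α := (ZMod p)ˣ)
  set γ : ZMod p := (γu : ZMod p) with hγdef
  have hγ : ∀ a : ZMod p, a ≠ 0 → ∃ l : ℕ, γ ^ l = a := fun a ha => by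
    obtain ⟨k, hk⟩ := (mem_powers_iff_mem_zpowers.mpr (hγu (Units.mk0 a ha)))
    exact ⟨k, by simpa using congrArg Units.val hk⟩
  have hγ1 : γ ≠ 1 := fun e => by
    obtain ⟨k, hk⟩ := hγ (-1) (by simp)
    rw [e, one_pow] at hk
    have : ((2 : ℕ) : ZMod p) = 0 := by push_cast; linear_combination hk
    exact hp ((Nat.prime_dvd_prime_iff_eq Fact.out Nat.prime_two).mp ((ZMod.natCast_eq_zero_iff 2 p).mp this))
  exact ⟨γ, ((γ - 1)⁻¹).val, by rw [ZMod.natCast_zmod_val, mul_inv_cancel₀ (sub_ne_zero.mpr hγ1)], hγ⟩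

/-- The core on all of `Fin (p + 2)`. -/
def exactCore (p : ℕ) [Fact p.Prime] : CoreSet (p + 2) p where
  a := ⟨0, by omega⟩
  b := ⟨1, by omega⟩
  pt i := ⟨i.val + 2, by have := i.val_lt; omega⟩
  a_ne_b := by simp [Fin.ext_iff]
  pt_inj i j h := ZMod.val_injective _ (by simpa [Fin.ext_iff] using h)
  pt_a i := by simp [Fin.ext_iff]
  pt_b i := by simp [Fin.ext_iff]

theorem exactCore_pts : (exactCore p).pts = Finset.univ :=
  Finset.eq_univ_of_card _ (by rw [CoreSet.card_pts, Fintype.card_fin])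

/-- The relations of the core, as words, together with what they give. -/
theorem core_words (hp : p ≠ 2) :
    ∃ ρ : Perm (Fin (p + 2)), Perm.sign ρ = 1 ∧ ρ (exactCore p).a = (exactCore p).a ∧
      ρ (exactCore p).b = (exactCore p).b ∧
      altOn Finset.univ ≤ Subgroup.closure {ρ, cyc3 (exactCore p).a (exactCore p).b ((exactCore p).pt 0)} ∧
      ρ ^ p = 1 ∧
      ∀ g : Perm (Fin (p + 2)), ∃ L : List (FreeGroup (Fin 3)), L.length = 4 ∧
        (∀ w ∈ L, FreeGroup.lift ![ρ, cyc3 (exactCore p).a (exactCore p).b ((exactCore p).pt 0), g] w = 1) ∧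
        ∀ (H : Type) [Group H] (U : Fin 3 → H) (φ : H →* Perm (Fin (p + 2))),
          φ.comp (FreeGroup.lift U) =
            FreeGroup.lift ![ρ, cyc3 (exactCore p).a (exactCore p).b ((exactCore p).pt 0), g] →
          (∀ w ∈ L, FreeGroup.lift U w = 1) →
          U 0 ^ p = 1 ∧ Commute (U 1 ^ 3) (U 0) ∧ (U 1 ^ 3) ^ 2 = 1 ∧
            ∀ x ∈ Subgroup.closure ({U 0, U 1} : Set H), φ x = 1 → x = 1 ∨ x = U 1 ^ 3 := by
  obtain ⟨γ, s, hs, hγ⟩ := exists_core_data hp
  set C := exactCore p with hC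
  obtain ⟨ρ, η, ha, hb, hpt, hρ, hη, ρp, ηp, hηρ, hηz⟩ := C.exists_model hp hγ hs
  set z0 := cyc3 C.a C.b (C.pt 0) with hz0
  refine ⟨ρ, hρ.1, ha, hb, ?_, ρp, fun g => ?_⟩
  · have h := map_closure_xs (φ := MonoidHom.id _) C (map_xs (φ := MonoidHom.id _) C ha hb hpt rfl rfl)
    rw [Subgroup.map_id, hC, exactCore_pts] at h
    rw [← h, Subgroup.closure_le]
    rintro _ ⟨i, rfl⟩
    have hρm : ρ ∈ Subgroup.closure ({ρ, z0} : Set (Perm (Fin (p + 2)))) := Subgroup.subset_closure (Or.inl rfl)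
    exact mul_mem (mul_mem (pow_mem hρm _) (Subgroup.subset_closure (Or.inr rfl))) (inv_mem (pow_mem hρm _))
  set P3 : Fin 3 → Perm (Fin (p + 2)) := ![ρ, z0, g] with hP3
  obtain ⟨Wh, mh, lh⟩ : ∃ W ∈ wordP p, FreeGroup.lift P3 W = η := exists_wordP C ha hb hpt hη
  let u : FreeGroup (Fin 3) := FreeGroup.of 0
  let z : FreeGroup (Fin 3) := FreeGroup.of 1
  refine ⟨[u ^ p * (Wh ^ (p - 1))⁻¹, Wh * u ^ s * Wh⁻¹ * (u ^ (s + 1))⁻¹, Wh * z * Wh⁻¹ * z,
      (z * (u * z * u⁻¹)) ^ 2 * (z ^ 3)⁻¹], rfl, ?_, ?_⟩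
  · have eu : FreeGroup.lift P3 u = ρ := by simp [u, hP3]
    have ez : FreeGroup.lift P3 z = z0 := by simp [z, hP3]
    have z3 : z0 ^ 3 = 1 := cyc3_cube C.a_ne_b (C.pt_a 0).symm (C.pt_b 0).symm
    intro w hw
    simp only [List.mem_cons, List.not_mem_nil, or_false] at hw
    rcases hw with rfl | rfl | rfl | rfl
    · simp only [map_mul, map_inv, map_pow, eu, lh, ρp, ηp, inv_one, one_mul]
    · simp only [map_mul, map_inv, map_pow, eu, lh, hηρ, mul_inv_cancel]
    · simp only [map_mul, map_inv, ez, lh, hηz, inv_mul_cancel]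
    · simp only [map_mul, map_inv, map_pow, eu, ez, z3, inv_one, mul_one]
      have e : ρ * z0 * ρ⁻¹ = cyc3 C.a C.b (C.pt 1) := by rw [hz0, cyc3_conj, ha, hb, hpt, zero_add]
      rw [e, hz0, cyc3_pair C.a_ne_b (C.pt_a 0).symm (C.pt_a 1).symm (C.pt_b 0).symm (C.pt_b 1).symm
        (fun e => zero_ne_one (C.pt_inj e))]
  · intro H _ U φ hφ hrel
    simp only [List.mem_cons, List.not_mem_nil, or_false, forall_eq_or_imp, forall_eq, map_mul, map_inv,
      map_pow, mul_inv_eq_one, FreeGroup.lift_apply_of, u, z] at hrel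
    obtain ⟨r1, r2, r3, r4⟩ := hrel
    have R : CoreRel p γ s (U 0) (U 1) (FreeGroup.lift U Wh) :=
      ⟨r1, r2, eq_inv_of_mul_eq_one_left r3, r4, map_wordP (p := p) U ▸ Subgroup.mem_map_of_mem _ mh⟩
    obtain ⟨c2, cu, -, -, -, hu⟩ := R.main hs hγ
    have e : ∀ i, φ (U i) = P3 i := fun i => by simpa using DFunLike.congr_fun hφ (FreeGroup.of i)
    refine ⟨R.pow_u, cu, c2, fun x hx hφx => ?_⟩
    refine kernel_core C le_rfl R hs hγ (map_xs C ha hb hpt (e 0) (e 1)) x ?_ hφx
    refine (Subgroup.closure_le _).mpr ?_ hx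
    rintro _ (rfl | rfl)
    · exact hu
    · exact Subgroup.subset_closure ⟨0, xs_zero⟩

theorem presOn_alt_exact (hp : p ≠ 2) :
    ∃ gens : Fin 3 → alternatingGroup (Fin (p + 2)), PresOn gens 7 ∧
      (gens 1 : Perm (Fin (p + 2))) = cyc3 (exactCore p).a (exactCore p).b ((exactCore p).pt 0) := by
  obtain ⟨ρ, hρ, -, -, hgen, -, hL⟩ := core_words hp
  set z0 := cyc3 (exactCore p).a (exactCore p).b ((exactCore p).pt 0) with hz0
  have hz : Perm.sign z0 = 1 := sign_cyc3 (exactCore p).a_ne_b ((exactCore p).pt_b 0).symm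
  obtain ⟨L, hlen, hrel, hinj⟩ := hL 1
  let gens : Fin 3 → alternatingGroup (Fin (p + 2)) :=
    ![⟨ρ, Perm.mem_alternatingGroup.mpr hρ⟩, ⟨z0, Perm.mem_alternatingGroup.mpr hz⟩, 1]
  have hgens : ∀ i, (gens i : Perm (Fin (p + 2))) = ![ρ, z0, 1] i := fun i => by fin_cases i <;> rfl
  have hcomp : (alternatingGroup (Fin (p + 2))).subtype.comp (FreeGroup.lift gens) = FreeGroup.lift ![ρ, z0, 1] :=
    FreeGroup.ext_hom _ _ fun i => by simp [hgens i]
  refine ⟨gens, presOn_of_inj gens (L ++ [FreeGroup.of 1 ^ 3, FreeGroup.of 2]) (by simp [hlen]) ?_ ?_ ?_, rfl⟩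
  · intro w hw
    refine Subtype.ext ?_
    show (alternatingGroup (Fin (p + 2))).subtype (FreeGroup.lift gens w) = 1
    rw [← MonoidHom.comp_apply, hcomp]
    rcases List.mem_append.mp hw with h | h
    · exact hrel w h
    · simp only [List.mem_cons, List.not_mem_nil, or_false] at h
      rcases h with rfl | rfl
      · simpa [hz0] using cyc3_cube (exactCore p).a_ne_b ((exactCore p).pt_a 0).symm ((exactCore p).pt_b 0).symm
      · simp
  · rw [eq_top_iff, ← Subgroup.map_le_map_iff_of_injective (alternatingGroup _).subtype_injective,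
      ← MonoidHom.range_eq_map, MonoidHom.map_closure]
    refine ((Subgroup.range_subtype _).trans altOn_univ.symm).trans_le (hgen.trans (Subgroup.closure_mono ?_))
    rintro _ (rfl | rfl)
    · exact ⟨gens 0, ⟨0, rfl⟩, rfl⟩
    · exact ⟨gens 1, ⟨1, rfl⟩, rfl⟩
  · intro H _ U φ hU hr hφ x hx
    set Φ := (alternatingGroup (Fin (p + 2))).subtype.comp φ
    have hΦ : Φ.comp (FreeGroup.lift U) = FreeGroup.lift ![ρ, z0, 1] :=
      FreeGroup.ext_hom _ _ fun i => by simp [Φ, hφ i, hgens i]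
    obtain ⟨-, -, -, hker⟩ := hinj H U Φ hΦ fun w hw => hr w (List.mem_append_left _ hw)
    have h3 : U 1 ^ 3 = 1 := by
      have := hr (FreeGroup.of 1 ^ 3) (by simp)
      rwa [map_pow, FreeGroup.lift_apply_of] at this
    have h2 : U 2 = 1 := by simpa using hr (FreeGroup.of 2) (by simp)
    have hmem : x ∈ Subgroup.closure ({U 0, U 1} : Set H) := by
      have : Subgroup.closure (Set.range U) ≤ Subgroup.closure ({U 0, U 1} : Set H) := by
        rw [Subgroup.closure_le]
        rintro _ ⟨i, rfl⟩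
        fin_cases i
        · exact Subgroup.subset_closure (Or.inl rfl)
        · exact Subgroup.subset_closure (Or.inr rfl)
        · show U 2 ∈ _; rw [h2]; exact one_mem _
      rw [hU] at this
      exact this trivial
    rcases hker x hmem (by simp [Φ, hx]) with h | h
    · exact h
    · exact h.trans h3

theorem presOn_sym_exact (hp : p ≠ 2) :
    ∃ gens : Fin 3 → Perm (Fin (p + 2)), PresOn gens 7 ∧
      gens 1 = cyc3 (exactCore p).a (exactCore p).b ((exactCore p).pt 0) := by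
  obtain ⟨ρ, hρ, ha, hb, hgen, -, hL⟩ := core_words hp
  set C := exactCore p with hC
  set z0 := cyc3 C.a C.b (C.pt 0) with hz0
  set τ := swap C.a C.b with hτ
  have z3 : z0 ^ 3 = 1 := cyc3_cube C.a_ne_b (C.pt_a 0).symm (C.pt_b 0).symm
  obtain ⟨L, hlen, hrel, hinj⟩ := hL τ
  let gens : Fin 3 → Perm (Fin (p + 2)) := ![ρ, z0, τ]
  let u : FreeGroup (Fin 3) := FreeGroup.of 0
  let z : FreeGroup (Fin 3) := FreeGroup.of 1
  let g : FreeGroup (Fin 3) := FreeGroup.of 2
  refine ⟨gens, presOn_of_inj gens (L ++ [g * g, g * u * g⁻¹ * (u * z ^ 3)⁻¹, g * z * g⁻¹ * z])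
    (by simp [hlen]) ?_ ?_ ?_, rfl⟩
  · intro w hw
    rcases List.mem_append.mp hw with h | h
    · exact hrel w h
    · simp only [List.mem_cons, List.not_mem_nil, or_false] at h
      have eu : FreeGroup.lift gens u = ρ := by simp [gens, u]
      have ez : FreeGroup.lift gens z = z0 := by simp [gens, z]
      have eg : FreeGroup.lift gens g = τ := by simp [gens, g]
      rcases h with rfl | rfl | rfl
      · simp [map_mul, eg, hτ]
      · simp only [map_mul, map_inv, map_pow, eu, ez, eg, z3, mul_one]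
        have : ρ * τ * ρ⁻¹ = τ := by rw [hτ, ← swap_apply_apply, ha, hb]
        rw [mul_inv_eq_iff_eq_mul] at this
        rw [← this]; group
      · simp only [map_mul, map_inv, ez, eg]
        rw [hz0, cyc3_conj, hτ, swap_apply_left, swap_apply_right,
          swap_apply_of_ne_of_ne (C.pt_a 0) (C.pt_b 0),
          ← cyc3_inv C.a_ne_b (C.pt_a 0).symm (C.pt_b 0).symm, inv_mul_cancel]
  · rw [eq_top_iff]
    intro σ _
    have hA : altOn Finset.univ ≤ Subgroup.closure (Set.range gens) := hgen.trans (Subgroup.closure_mono (by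
      rintro _ (rfl | rfl)
      · exact ⟨0, rfl⟩
      · exact ⟨1, rfl⟩))
    have hg2 : τ ∈ Subgroup.closure (Set.range gens) := Subgroup.subset_closure ⟨2, rfl⟩
    rcases Int.units_eq_one_or (Perm.sign σ) with h | h
    · exact hA ⟨h, fun x hx => absurd (Finset.mem_univ x) hx⟩
    · have : σ * τ⁻¹ ∈ Subgroup.closure (Set.range gens) :=
        hA ⟨by rw [map_mul, map_inv, h, hτ, Perm.sign_swap C.a_ne_b]; rfl, fun x hx => absurd (Finset.mem_univ x) hx⟩
      simpa using mul_mem this hg2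
  · intro H _ U φ hU hr hφ x hx
    have hΦ : φ.comp (FreeGroup.lift U) = FreeGroup.lift gens := FreeGroup.ext_hom _ _ fun i => by simp [hφ i]
    obtain ⟨up, cu, c2, hker⟩ := hinj H U φ hΦ fun w hw => hr w (List.mem_append_left _ hw)
    have rg : U 2 * U 2 = 1 := by simpa [g] using hr (g * g) (by simp)
    have ru := hr (g * u * g⁻¹ * (u * z ^ 3)⁻¹) (by simp)
    have rz := hr (g * z * g⁻¹ * z) (by simp)
    simp only [map_mul, map_inv, map_pow, g, u, z, FreeGroup.lift_apply_of, mul_inv_eq_one] at ru rz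
    have c1 : U 1 ^ 3 = 1 := by
      have := congrArg (· ^ p) ru
      simp only [conj_pow, up, mul_one, mul_inv_cancel] at this
      rw [cu.symm.mul_pow, up, one_mul] at this
      obtain ⟨k, hk⟩ := (Fact.out : p.Prime).odd_of_ne_two hp
      rw [hk, pow_succ (U 1 ^ 3), pow_mul (U 1 ^ 3), c2, one_pow, one_mul] at this
      exact this.symm
    rw [c1, mul_one] at ru
    set P := Subgroup.closure ({U 0, U 1} : Set H) with hP
    have hsign : ∀ y ∈ P, Perm.sign (φ y) = 1 := by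
      have : P ≤ (Perm.sign.comp φ).ker := by
        rw [hP, Subgroup.closure_le]
        rintro _ (rfl | rfl)
        · show Perm.sign (φ (U 0)) = 1; rw [hφ]; exact hρ
        · show Perm.sign (φ (U 1)) = 1; rw [hφ]; exact sign_cyc3 C.a_ne_b (C.pt_b 0).symm
      exact fun y hy => this hy
    have hcopy : copy₂ P (U 2) ≤ P := by
      rw [copy₂, hP, MonoidHom.map_closure, Subgroup.closure_le]
      rintro _ ⟨y, rfl | rfl, rfl⟩ <;> simp only [MulEquiv.coe_toMonoidHom, MulAut.conj_apply]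
      · rw [ru]; exact Subgroup.subset_closure (Or.inl rfl)
      · rw [eq_inv_of_mul_eq_one_left rz]; exact inv_mem (Subgroup.subset_closure (Or.inr rfl))
    refine odd_inj (φ := φ) (P := P) rg ?_ hsign (by rw [hφ]; exact Perm.sign_swap C.a_ne_b) (fun y hy hy1 => ?_) x hx
    · rw [eq_top_iff, ← hU, Subgroup.closure_le]
      rintro _ ⟨i, rfl⟩
      fin_cases i
      · exact Subgroup.subset_closure (Or.inl (Subgroup.subset_closure (Or.inl rfl)))
      · exact Subgroup.subset_closure (Or.inl (Subgroup.subset_closure (Or.inr rfl)))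
      · exact Subgroup.subset_closure (Or.inr rfl)
    · rcases hker y (sup_le le_rfl hcopy hy) hy1 with h | h
      · exact h
      · exact h.trans c1

end Cfsg.Agent.KSG55.Pres
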