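import Cfsg.Agent.KSG55.Pres.AltOn

set_option autoImplicit false

/-! Cycles and involutions given by functions on positions. -/

namespace Cfsg.Agent.KSG55.Pres

open Equiv

variable {n : ℕ}

/-- A permutation of `Fin n` from an involution of the positions. -/
def involPerm (f : ℕ → ℕ) (hlt : ∀ x, x < n → f x < n) (hinv : ∀ x, x < n → f (f x) = x) : Perm (Fin n) where
  toFun x := ⟨f x.1, hlt _ x.2⟩
  invFun x := ⟨f x.1, hlt _ x.2⟩
  left_inv x := Fin.ext (hinv _ x.2)
  right_inv x := Fin.ext (hinv _ x.2)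

@[simp] theorem involPerm_val (f : ℕ → ℕ) (hlt : ∀ x, x < n → f x < n) (hinv : ∀ x, x < n → f (f x) = x)
    (x : Fin n) : (involPerm f hlt hinv x : ℕ) = f x := rfl

theorem involPerm_sq (f : ℕ → ℕ) (hlt : ∀ x, x < n → f x < n) (hinv : ∀ x, x < n → f (f x) = x) :
    involPerm f hlt hinv * involPerm f hlt hinv = 1 := Equiv.ext fun x => Fin.ext (hinv _ x.2)

theorem card_support_involPerm (f : ℕ → ℕ) (hlt : ∀ x, x < n → f x < n) (hinv : ∀ x, x < n → f (f x) = x)
    (S : Finset ℕ) (hS : ∀ x, x ∈ S ↔ x < n ∧ f x ≠ x) : (involPerm f hlt hinv).support.card = S.card := by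
  rw [← Finset.card_map Fin.valEmbedding]
  congr 1
  ext x
  simp only [Finset.mem_map, Perm.mem_support, ne_eq, Fin.ext_iff, involPerm_val, Fin.valEmbedding_apply, hS]
  exact ⟨fun ⟨y, hy, e⟩ => e ▸ ⟨y.2, hy⟩, fun h => ⟨⟨x, h.1⟩, h.2, rfl⟩⟩

theorem sign_of_invol {σ : Perm (Fin n)} (h : σ * σ = 1) : Perm.sign σ = (-1) ^ (σ.support.card / 2) := by
  haveI : Fact (Nat.Prime 2) := ⟨Nat.prime_two⟩
  have hc := Perm.cycleType_of_pow_prime_eq_one (σ := σ) (p := 2) (by rw [pow_two, h])
  have hs := σ.sum_cycleType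
  rw [hc, Multiset.sum_replicate, smul_eq_mul] at hs
  rw [Perm.sign_of_cycleType, σ.sum_cycleType, ← hs, Nat.mul_div_left _ (by norm_num : 0 < 2), pow_add, pow_mul,
    Int.units_sq, one_mul]

theorem isConj_of_invol {σ τ : Perm (Fin n)} (hσ : σ * σ = 1) (hτ : τ * τ = 1)
    (h : σ.support.card = τ.support.card) : IsConj σ τ := by
  haveI : Fact (Nat.Prime 2) := ⟨Nat.prime_two⟩
  have hc := Perm.cycleType_of_pow_prime_eq_one (σ := σ) (p := 2) (by rw [pow_two, hσ])
  have hd := Perm.cycleType_of_pow_prime_eq_one (σ := τ) (p := 2) (by rw [pow_two, hτ])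
  rw [← σ.sum_cycleType, ← τ.sum_cycleType, hc, hd, Multiset.sum_replicate, Multiset.sum_replicate, smul_eq_mul,
    smul_eq_mul] at h
  rw [Perm.isConj_iff_cycleType_eq, hc, hd, show σ.cycleType.card = τ.cycleType.card by omega]

/-- Conjugate inside the alternating group, given a fixed pair. -/
theorem exists_even_conj {g τ : Perm (Fin n)} (h : IsConj τ g) {a b : Fin n} (hab : a ≠ b) (ha : g a = a)
    (hb : g b = b) : ∃ ω, Perm.sign ω = 1 ∧ g = ω * τ * ω⁻¹ := by
  obtain ⟨ω, hω⟩ := isConj_iff.mp h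
  rcases Int.units_eq_one_or (Perm.sign ω) with hs | hs
  · exact ⟨ω, hs, hω.symm⟩
  · refine ⟨swap a b * ω, by rw [map_mul, hs, Perm.sign_swap hab]; rfl, ?_⟩
    rw [show swap a b * ω * τ * (swap a b * ω)⁻¹ = swap a b * (ω * τ * ω⁻¹) * (swap a b)⁻¹ by group, hω]
    have hc : g * swap a b * g⁻¹ = swap a b := by rw [← swap_apply_apply, ha, hb]
    rw [mul_inv_eq_iff_eq_mul] at hc
    rw [← hc, mul_inv_cancel_right]

/-- The cycle along a list of positions given by `f`. -/
noncomputable def cycPerm (m : ℕ) (f : ℕ → ℕ) (hlt : ∀ i, i < m + 1 → f i < n)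
    (hf : ∀ i j, i < m + 1 → j < m + 1 → f i = f j → i = j) : Perm (Fin n) :=
  Perm.viaEmbedding (finRotate (m + 1))
    ⟨fun i : Fin (m + 1) => ⟨f i, hlt _ i.2⟩, fun i j h => Fin.ext (hf _ _ i.2 j.2 (congrArg Fin.val h))⟩

variable {m : ℕ} {f : ℕ → ℕ} {hlt : ∀ i, i < m + 1 → f i < n}
  {hf : ∀ i j, i < m + 1 → j < m + 1 → f i = f j → i = j}

theorem cycPerm_apply (i : ℕ) (hi : i < m) :
    cycPerm m f hlt hf ⟨f i, hlt i (by omega)⟩ = ⟨f (i + 1), hlt _ (by omega)⟩ := by
  refine (Perm.viaEmbedding_apply (finRotate (m + 1)) _ (⟨i, by omega⟩ : Fin (m + 1))).trans ?_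
  apply Fin.ext
  show f _ = f (i + 1)
  rw [finRotate_of_lt hi]

theorem cycPerm_of_not (x : Fin n) (hx : ∀ i, i < m + 1 → f i ≠ x) : cycPerm m f hlt hf x = x :=
  Perm.viaEmbedding_apply_of_notMem _ _ _ (fun ⟨i, hi⟩ => hx i i.2 (congrArg Fin.val hi))

theorem sign_cycPerm : Perm.sign (cycPerm m f hlt hf) = (-1) ^ m := by
  rw [cycPerm, Perm.viaEmbedding]
  exact (@Perm.sign_extendDomain _ _ _ _ _ _ _ _ (_) _).trans (by rw [sign_finRotate, Nat.add_sub_cancel])

theorem cycPerm_pow_card : cycPerm m f hlt hf ^ (m + 1) = 1 := by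
  have key : ∀ (k : ℕ) (i : Fin (m + 1)), ((finRotate (m + 1) ^ k) i).val = (i.val + k) % (m + 1) := fun k => by
    induction k with
    | zero => intro i; simp [Nat.mod_eq_of_lt i.2]
    | succ k ih =>
      intro i
      rw [pow_succ', Perm.mul_apply, finRotate_apply, Fin.val_add, ih, Fin.val_one', ← Nat.add_mod, Nat.add_assoc]
  show (Perm.viaEmbeddingHom _ (finRotate (m + 1))) ^ (m + 1) = 1
  rw [← map_pow, show finRotate (m + 1) ^ (m + 1) = 1 from Equiv.ext fun i => Fin.ext (by
    rw [key, Nat.add_mod_right, Nat.mod_eq_of_lt i.2, Perm.one_apply]), map_one]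

theorem cycPerm_pow (i : ℕ) (hi : i < m + 1) :
    (cycPerm m f hlt hf ^ i) ⟨f 0, hlt 0 (by omega)⟩ = ⟨f i, hlt i hi⟩ := by
  induction i with
  | zero => rfl
  | succ i ih => rw [pow_succ', Perm.mul_apply, ih (by omega), cycPerm_apply i (by omega)]

/-- Splitting a product of commuting elements of coprime orders, one of them three. -/
theorem split_three {G : Type*} [Group G] {x y : G} {s : ℕ} (hc : Commute x y) (hx : x ^ 3 = 1) (hy : y ^ s = 1)
    (h3 : s % 3 ≠ 0) : x ∈ Subgroup.zpowers (x * y) ∧ y ∈ Subgroup.zpowers (x * y) := by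
  set e := s * (s % 3)
  have he : e % 3 = 1 := by
    rw [Nat.mul_mod, Nat.mod_mod]
    have h12 : s % 3 = 1 ∨ s % 3 = 2 := by omega
    rcases h12 with h | h <;> rw [h]
  have h1 : x ∈ Subgroup.zpowers (x * y) := by
    have : (x * y) ^ e = x := by
      rw [hc.mul_pow, pow_mul y, hy, one_pow, mul_one, ← pow_one x, ← pow_mul, one_mul,
        pow_eq_pow_of_modEq (n := 3) (show e ≡ 1 [MOD 3] from he) hx]
    have hm := pow_mem (Subgroup.mem_zpowers (x * y)) e
    rwa [this] at hm
  exact ⟨h1, by simpa using mul_mem (inv_mem h1) (Subgroup.mem_zpowers (x * y))⟩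

/-- Consecutive triples along a cycle. -/
theorem cyc3_of_consecutive {H : Subgroup (Perm (Fin n))} {σ : Perm (Fin n)} {m : ℕ} (pt : ℕ → Fin n)
    (hinj : ∀ i j, i < m + 1 → j < m + 1 → pt i = pt j → i = j) (hσ : ∀ i, i < m → σ (pt i) = pt (i + 1))
    (hσH : σ ∈ H) (h0 : cyc3 (pt 0) (pt 1) (pt 2) ∈ H) :
    ∀ j, 2 ≤ j → j < m + 1 → cyc3 (pt 0) (pt 1) (pt j) ∈ H := by
  have T : ∀ i, i + 2 < m + 1 → cyc3 (pt i) (pt (i + 1)) (pt (i + 2)) ∈ H := fun i => by
    induction i with
    | zero => exact fun _ => h0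
    | succ i ih =>
      intro hi
      have := mul_mem (mul_mem hσH (ih (by omega))) (inv_mem hσH)
      rwa [cyc3_conj, hσ i (by omega), hσ (i + 1) (by omega), hσ (i + 2) (by omega)] at this
  have ne : ∀ i j, i < m + 1 → j < m + 1 → i ≠ j → pt i ≠ pt j := fun i j hi hj hij e => hij (hinj i j hi hj e)
  intro j
  induction j using Nat.strong_induction_on with
  | _ j ih =>
    intro h2 hj
    by_cases e : j = 2
    · subst e; exact h0
    have hprev := ih (j - 1) (by omega) (by omega) (by omega)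
    by_cases h3 : j + 1 < m + 1
    · -- move along the triple starting at `j - 1`
      obtain ⟨i, rfl⟩ : ∃ i, j = i + 1 := ⟨j - 1, by omega⟩
      simp only [Nat.add_sub_cancel] at hprev
      have := cyc3_step (ne 0 1 (by omega) (by omega) (by omega)) (ne i 0 (by omega) (by omega) (by omega))
        (ne i 1 (by omega) (by omega) (by omega)) (T i (by omega)) (Or.inl
          ⟨cyc3_of_ne (ne 0 i (by omega) (by omega) (by omega)) (ne 0 (i + 1) (by omega) (by omega) (by omega))
            (ne 0 (i + 2) (by omega) (by omega) (by omega)),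
           cyc3_of_ne (ne 1 i (by omega) (by omega) (by omega)) (ne 1 (i + 1) (by omega) (by omega) (by omega))
            (ne 1 (i + 2) (by omega) (by omega) (by omega))⟩) hprev
      rwa [cyc3_left (ne i (i + 1) (by omega) (by omega) (by omega)) (ne i (i + 2) (by omega) (by omega) (by omega))] at this
    · -- the last point
      by_cases h4 : 4 ≤ j
      · obtain ⟨i, rfl⟩ : ∃ i, j = i + 2 := ⟨j - 2, by omega⟩
        have := cyc3_step (ne 0 1 (by omega) (by omega) (by omega)) (ne (i + 1) 0 (by omega) (by omega) (by omega))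
          (ne (i + 1) 1 (by omega) (by omega) (by omega)) (T i (by omega)) (Or.inl
            ⟨cyc3_of_ne (ne 0 i (by omega) (by omega) (by omega)) (ne 0 (i + 1) (by omega) (by omega) (by omega))
              (ne 0 (i + 2) (by omega) (by omega) (by omega)),
             cyc3_of_ne (ne 1 i (by omega) (by omega) (by omega)) (ne 1 (i + 1) (by omega) (by omega) (by omega))
              (ne 1 (i + 2) (by omega) (by omega) (by omega))⟩) hprev
        rwa [cyc3_mid (ne i (i + 2) (by omega) (by omega) (by omega))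
          (ne (i + 1) (i + 2) (by omega) (by omega) (by omega))] at this
      · -- four points only
        have h : j = 3 := by omega
        subst h
        have e2 := mul_mem (mul_mem (T 1 (by omega)) h0) (inv_mem (T 1 (by omega)))
        rw [cyc3_conj, cyc3_of_ne (ne 0 1 (by omega) (by omega) (by omega)) (ne 0 2 (by omega) (by omega) (by omega))
          (ne 0 3 (by omega) (by omega) (by omega)), cyc3_left (ne 1 2 (by omega) (by omega) (by omega))
          (ne 1 3 (by omega) (by omega) (by omega)), cyc3_mid (ne 1 3 (by omega) (by omega) (by omega))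
          (ne 2 3 (by omega) (by omega) (by omega))] at e2
        have e3 := mul_mem e2 h0
        have e4 : cyc3 (pt 0) (pt 1) (pt 3) = cyc3 (pt 0) (pt 2) (pt 3) * cyc3 (pt 0) (pt 1) (pt 2) := by
          have n01 := ne 0 1 (by omega) (by omega) (by omega)
          have n02 := ne 0 2 (by omega) (by omega) (by omega)
          have n03 := ne 0 3 (by omega) (by omega) (by omega)
          have n12 := ne 1 2 (by omega) (by omega) (by omega)
          have n13 := ne 1 3 (by omega) (by omega) (by omega)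
          have n23 := ne 2 3 (by omega) (by omega) (by omega)
          ext x
          rw [Perm.mul_apply]
          by_cases x0 : x = pt 0
          · subst x0; rw [cyc3_left n01 n03, cyc3_left n01 n02, cyc3_of_ne n01.symm n12 n13]
          by_cases x1 : x = pt 1
          · subst x1; rw [cyc3_mid n03 n13, cyc3_mid n02 n12, cyc3_mid n03 n23]
          by_cases x2 : x = pt 2
          · subst x2; rw [cyc3_of_ne x0 x1 n23, cyc3_right, cyc3_left n02 n03]
          by_cases x3 : x = pt 3
          · subst x3; rw [cyc3_right, cyc3_of_ne x0 x1 x2, cyc3_right]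
          rw [cyc3_of_ne x0 x1 x3, cyc3_of_ne x0 x1 x2, cyc3_of_ne x0 x2 x3]
        rw [e4]; exact e3

end Cfsg.Agent.KSG55.Pres
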