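import Cfsg.Agent.KSG55.Pres.Seven
import Cfsg.Agent.KSG55.Pres.Tools

set_option autoImplicit false

/-! The general shape on `2 d + k` points. -/

namespace Cfsg.Agent.KSG55.Pres

open Equiv

/-- The numbers of the general shape. -/
structure Layout where
  (n p d k s r L : ℕ)
  hn : n = 2 * d + k
  hk : k = 3 + s + r
  hp : p + 2 = d + k
  hd : 1 ≤ d
  hs : 7 ≤ s
  hs2 : s % 2 = 1
  hs3 : s % 3 ≠ 0
  hrd : 2 ≤ r + d
  hr : r ≤ 4
  hcap : r ≤ 3 ∨ (d = 1 ∧ r % 2 = 0)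
  hL : d + 1 ≤ L ∧ L + 3 ≤ d + s
  hL2 : L % 2 = 1
  hL3 : L % 3 ≠ 0

namespace Layout

variable (Y : Layout)

theorem n_pos : 0 < Y.n := by have := Y.hn; have := Y.hd; omega

/-- A position as a point. -/
def at' (i : ℕ) : Fin Y.n := ⟨i % Y.n, Nat.mod_lt _ Y.n_pos⟩

theorem at'_val {i : ℕ} (h : i < Y.n) : (Y.at' i : ℕ) = i := Nat.mod_eq_of_lt h

theorem at'_eq {i : ℕ} (h : i < Y.n) (x : Fin Y.n) (e : x.1 = i) : Y.at' i = x :=
  Fin.ext ((Y.at'_val h).trans e.symm)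

theorem at'_ne {i j : ℕ} (hi : i < Y.n) (hj : j < Y.n) (h : i ≠ j) : Y.at' i ≠ Y.at' j := fun e =>
  h (by simpa [Y.at'_val hi, Y.at'_val hj] using congrArg Fin.val e)

/-- The involution on positions; `fl` adds one more transposition. -/
def gfun (fl : Bool) (x : ℕ) : ℕ :=
  if x < 2 then x
  else if x < 2 + Y.s then
    (if x ≤ 2 + Y.r then x + Y.s else if fl = true ∧ x = 7 then 8 else if fl = true ∧ x = 8 then 7 else x)
  else if x < Y.k then x - Y.s
  else if x < Y.k + Y.d then x + Y.d else x - Y.d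

theorem gfun_lt (fl : Bool) (x : ℕ) (h : x < Y.n) : Y.gfun fl x < Y.n := by
  have := Y.hn; have := Y.hk; have := Y.hs; have := Y.hr
  unfold gfun; split_ifs <;> omega

theorem gfun_inv (fl : Bool) (x : ℕ) (h : x < Y.n) : Y.gfun fl (Y.gfun fl x) = x := by
  have := Y.hn; have := Y.hk; have := Y.hs; have := Y.hr
  generalize hy : Y.gfun fl x = y
  cases fl <;> simp only [gfun, Bool.false_eq_true, if_false, if_true, false_and, true_and] at hy ⊢ <;>
    split_ifs at hy <;> split_ifs <;> omega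

/-- The involution. -/
def g (fl : Bool) : Perm (Fin Y.n) := involPerm (Y.gfun fl) (Y.gfun_lt fl) (Y.gfun_inv fl)

theorem g_val (fl : Bool) (x : Fin Y.n) : (Y.g fl x : ℕ) = Y.gfun fl x := rfl

theorem g_at (fl : Bool) {i j : ℕ} (hi : i < Y.n) (hj : j < Y.n) (h : Y.gfun fl i = j) :
    Y.g fl (Y.at' i) = Y.at' j :=
  (Y.at'_eq hj _ (by rw [g_val, Y.at'_val hi, h])).symm

theorem g_sq (fl : Bool) : Y.g fl * Y.g fl = 1 := involPerm_sq _ _ _

theorem card_support_g (fl : Bool) :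
    (Y.g fl).support.card = 2 * (1 + Y.r + Y.d + (if fl = true then 1 else 0)) := by
  have := Y.hn; have := Y.hk; have := Y.hs; have := Y.hr
  rw [g, card_support_involPerm _ _ _
    ((Finset.Ico 2 (3 + Y.r) ∪ Finset.Ico (2 + Y.s) Y.n) ∪ (if fl = true then {7, 8} else ∅)) ?_]
  · rw [Finset.card_union_of_disjoint, Finset.card_union_of_disjoint]
    · cases fl <;> simp <;> omega
    · rw [Finset.disjoint_left]; intro x hx hx'; simp only [Finset.mem_Ico] at hx hx'; omega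
    · rw [Finset.disjoint_left]; intro x hx hx'
      cases fl <;> simp at hx' <;> simp only [Finset.mem_union, Finset.mem_Ico] at hx <;> omega
  · intro x
    cases fl <;> simp [gfun] <;> split_ifs <;> omega

theorem sign_g (fl : Bool) : Perm.sign (Y.g fl) = (-1) ^ (1 + Y.r + Y.d + (if fl = true then 1 else 0)) := by
  rw [sign_of_invol (Y.g_sq fl), card_support_g, Nat.mul_div_cancel_left _ (by norm_num)]

/-- The cycle on `S`. -/
noncomputable def σS : Perm (Fin Y.n) :=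
  cycPerm (Y.s - 1) (fun i => 2 + i)
    (fun i hi => by have := Y.hn; have := Y.hk; have := Y.hs; omega) (fun i j _ _ h => by omega)

/-- The cycle moving `o`. -/
noncomputable def cycX : Perm (Fin Y.n) :=
  cycPerm (Y.r + Y.d) (fun i => 2 + Y.s + i)
    (fun i hi => by have := Y.hn; have := Y.hk; omega) (fun i j _ _ h => by omega)

/-- The second element of the first factor. -/
noncomputable def e : Perm (Fin Y.n) :=
  Y.cycX * (if (Y.r + Y.d) % 2 = 1 then swap (Y.at' 0) (Y.at' 1) else 1)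

/-- Positions of the long cycle of the second factor. -/
def ffun (i : ℕ) : ℕ := if i < Y.L - Y.d then 2 + Y.s - (Y.L - Y.d) + i else Y.k + Y.d + (i - (Y.L - Y.d))

/-- The long cycle of the second factor. -/
noncomputable def cycZ : Perm (Fin Y.n) :=
  cycPerm (Y.L - 1) Y.ffun
    (fun i hi => by have := Y.hn; have := Y.hk; have := Y.hL; unfold ffun; split_ifs <;> omega)
    (fun i j hi hj h => by have := Y.hk; have := Y.hL; unfold ffun at h; split_ifs at h <;> omega)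

/-- The second element of the second factor. -/
noncomputable def f : Perm (Fin Y.n) := cyc3 (Y.at' 2) (Y.at' 3) (Y.at' 4) * Y.cycZ

/-- The element `(a b o)`. -/
def σY : Perm (Fin Y.n) := cyc3 (Y.at' 0) (Y.at' 1) (Y.at' (2 + Y.s))

/-- The set of positions of the first copy. -/
def Ω₁ : Finset (Fin Y.n) := Finset.univ.filter fun x => x.1 < Y.k + Y.d
/-- The set of positions of the second copy. -/
def Ω₂ : Finset (Fin Y.n) := Finset.univ.filter fun x => x.1 < Y.k ∨ Y.k + Y.d ≤ x.1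
/-- The part of the overlap given to the second factor. -/
def S : Finset (Fin Y.n) := Finset.univ.filter fun x => 2 ≤ x.1 ∧ x.1 < 2 + Y.s

theorem σS_apply (i : ℕ) (hi : i + 1 < Y.s) : Y.σS (Y.at' (2 + i)) = Y.at' (2 + (i + 1)) := by
  have := Y.hn; have := Y.hk; have := Y.hs
  rw [Y.at'_eq (i := 2 + i) (by omega) ⟨2 + i, by omega⟩ rfl,
    Y.at'_eq (i := 2 + (i + 1)) (by omega) ⟨2 + (i + 1), by omega⟩ rfl]
  exact cycPerm_apply (f := fun i => 2 + i) i (by omega)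

theorem σS_fix (x : Fin Y.n) (h : x.1 < 2 ∨ 2 + Y.s ≤ x.1) : Y.σS x = x :=
  cycPerm_of_not x fun i hi => by have := Y.hs; omega

theorem σS_mem : Y.σS ∈ altOn Y.S := by
  have := Y.hs; have := Y.hs2
  refine ⟨?_, fun x hx => Y.σS_fix x ?_⟩
  · rw [σS, sign_cycPerm, (Nat.even_iff.mpr (by omega) : Even (Y.s - 1)).neg_one_pow]
  · simp only [S, Finset.mem_filter, Finset.mem_univ, true_and] at hx; omega

theorem σS_pow : Y.σS ^ Y.s = 1 := by
  have := Y.hs
  have h := cycPerm_pow_card (n := Y.n) (m := Y.s - 1) (f := fun i => 2 + i)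
    (hlt := fun i hi => by have := Y.hn; have := Y.hk; omega) (hf := fun i j _ _ h => by omega)
  have e : Y.s - 1 + 1 = Y.s := by omega
  exact (congrArg (Y.σS ^ ·) e).symm.trans h

theorem σY_mem : Y.σY ∈ altOn ((Y.Ω₁ ∩ Y.Ω₂) \ Y.S) := by
  have := Y.hn; have := Y.hk; have := Y.hs
  refine cyc3_mem_altOn (Y.at'_ne (by omega) (by omega) (by omega)) (Y.at'_ne (by omega) (by omega) (by omega))
    ?_ ?_ ?_ <;>
  · simp only [Ω₁, Ω₂, S, Finset.mem_sdiff, Finset.mem_inter, Finset.mem_filter, Finset.mem_univ, true_and]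
    rw [Y.at'_val (by omega)]
    omega

theorem σY_pow : Y.σY ^ 3 = 1 := by
  have := Y.hn; have := Y.hk; have := Y.hs
  exact cyc3_cube (Y.at'_ne (by omega) (by omega) (by omega)) (Y.at'_ne (by omega) (by omega) (by omega))
    (Y.at'_ne (by omega) (by omega) (by omega))

theorem e_apply (i : ℕ) (hi : i < Y.r + Y.d) : Y.e (Y.at' (2 + Y.s + i)) = Y.at' (2 + Y.s + (i + 1)) := by
  have := Y.hn; have := Y.hk; have := Y.hs
  have hw : (if (Y.r + Y.d) % 2 = 1 then swap (Y.at' 0) (Y.at' 1) else 1 : Perm (Fin Y.n)) (Y.at' (2 + Y.s + i)) =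
      Y.at' (2 + Y.s + i) := by
    split_ifs
    · exact swap_apply_of_ne_of_ne (Y.at'_ne (by omega) (by omega) (by omega))
        (Y.at'_ne (by omega) (by omega) (by omega))
    · rfl
  rw [e, Perm.mul_apply, hw, Y.at'_eq (i := 2 + Y.s + i) (by omega) ⟨2 + Y.s + i, by omega⟩ rfl,
    Y.at'_eq (i := 2 + Y.s + (i + 1)) (by omega) ⟨2 + Y.s + (i + 1), by omega⟩ rfl]
  exact cycPerm_apply (f := fun i => 2 + Y.s + i) i hi

theorem cycX_fix (x : Fin Y.n) (h : x.1 < 2 + Y.s ∨ Y.k + Y.d ≤ x.1) : Y.cycX x = x :=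
  cycPerm_of_not x fun i hi => by have := Y.hk; omega

theorem e_pair : (Y.e (Y.at' 0) = Y.at' 0 ∧ Y.e (Y.at' 1) = Y.at' 1) ∨
    (Y.e (Y.at' 0) = Y.at' 1 ∧ Y.e (Y.at' 1) = Y.at' 0) := by
  have := Y.hn; have := Y.hk; have := Y.hs
  have h0 : Y.cycX (Y.at' 0) = Y.at' 0 := Y.cycX_fix _ (Or.inl (by rw [Y.at'_val (by omega)]; omega))
  have h1 : Y.cycX (Y.at' 1) = Y.at' 1 := Y.cycX_fix _ (Or.inl (by rw [Y.at'_val (by omega)]; omega))
  unfold e
  split_ifs
  · right; simp [h0, h1]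
  · left; simp [h0, h1]

theorem e_mem : Y.e ∈ altOn (Y.Ω₁ \ Y.S) := by
  have := Y.hn; have := Y.hk; have := Y.hs
  refine ⟨?_, fun x hx => ?_⟩
  · unfold e
    rw [map_mul, cycX, sign_cycPerm]
    split_ifs with h
    · rw [Perm.sign_swap (Y.at'_ne (by omega) (by omega) (by omega)), (Nat.odd_iff.mpr h).neg_one_pow]; rfl
    · rw [(Nat.even_iff.mpr (by omega) : Even (Y.r + Y.d)).neg_one_pow, map_one]; rfl
  · simp only [Ω₁, S, Finset.mem_sdiff, Finset.mem_filter, Finset.mem_univ, true_and] at hx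
    have e0 : x ≠ Y.at' 0 := fun e => by rw [e, Y.at'_val (by omega)] at hx; omega
    have e1 : x ≠ Y.at' 1 := fun e => by rw [e, Y.at'_val (by omega)] at hx; omega
    have hc : Y.cycX x = x := Y.cycX_fix x (by omega)
    unfold e
    split_ifs
    · rw [Perm.mul_apply, swap_apply_of_ne_of_ne e0 e1, hc]
    · rw [mul_one, hc]

theorem cycZ_fix (x : Fin Y.n) (h : x.1 < 5 ∨ (2 + Y.s ≤ x.1 ∧ x.1 < Y.k + Y.d)) : Y.cycZ x = x :=
  cycPerm_of_not x fun i hi => by
    have := Y.hk; have := Y.hL; have := Y.hs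
    unfold ffun; split_ifs <;> omega

theorem cycZ_mem : Y.cycZ ∈ altOn ((Y.Ω₂ \ Y.Ω₁) ∪ Y.S) := by
  refine ⟨?_, fun x hx => Y.cycZ_fix x ?_⟩
  · rw [cycZ, sign_cycPerm, (Nat.even_iff.mpr (by have := Y.hL2; omega) : Even (Y.L - 1)).neg_one_pow]
  · simp only [Ω₁, Ω₂, S, Finset.mem_union, Finset.mem_sdiff, Finset.mem_filter, Finset.mem_univ, true_and] at hx
    omega

theorem ρ_mem : cyc3 (Y.at' 2) (Y.at' 3) (Y.at' 4) ∈ altOn ((Y.Ω₂ \ Y.Ω₁) ∪ Y.S) := by
  have := Y.hn; have := Y.hk; have := Y.hs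
  refine cyc3_mem_altOn (Y.at'_ne (by omega) (by omega) (by omega)) (Y.at'_ne (by omega) (by omega) (by omega))
    ?_ ?_ ?_ <;>
  · simp only [Ω₁, Ω₂, S, Finset.mem_union, Finset.mem_sdiff, Finset.mem_filter, Finset.mem_univ, true_and]
    rw [Y.at'_val (by omega)]
    omega

theorem f_mem : Y.f ∈ altOn ((Y.Ω₂ \ Y.Ω₁) ∪ Y.S) := mul_mem Y.ρ_mem Y.cycZ_mem

theorem disj_Y_S : Commute Y.σY Y.σS :=
  commute_of_disjoint Y.σY_mem Y.σS_mem Finset.sdiff_disjoint

theorem disj_ρ_Z : Commute (cyc3 (Y.at' 2) (Y.at' 3) (Y.at' 4)) Y.cycZ := by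
  have := Y.hn; have := Y.hk; have := Y.hs
  refine Perm.Disjoint.commute fun x => ?_
  by_cases h : 2 ≤ x.1 ∧ x.1 < 5
  · exact Or.inr (Y.cycZ_fix x (Or.inl h.2))
  · refine Or.inl (cyc3_of_ne ?_ ?_ ?_) <;>
    · intro e
      rw [e, Y.at'_val (by omega)] at h
      omega

/-- The element in both factors. -/
noncomputable def q : Perm (Fin Y.n) := Y.σY * Y.σS

theorem q_pow : Y.q ^ (3 * Y.s) = 1 := by
  rw [q, Y.disj_Y_S.mul_pow, pow_mul, Y.σY_pow, one_pow, mul_comm 3, pow_mul, Y.σS_pow, one_pow, one_mul]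

theorem split_q : Y.σY ∈ Subgroup.zpowers Y.q ∧ Y.σS ∈ Subgroup.zpowers Y.q :=
  split_three Y.disj_Y_S Y.σY_pow Y.σS_pow Y.hs3

theorem genX : altOn (Y.Ω₁ \ Y.S) ≤ Subgroup.closure {Y.σY, Y.e} := by
  have := Y.hn; have := Y.hk; have := Y.hs
  refine altOn_le (Y.at'_ne (i := 0) (j := 1) (by omega) (by omega) (by omega)) fun x hx hxa hxb => ?_
  simp only [Ω₁, S, Finset.mem_sdiff, Finset.mem_filter, Finset.mem_univ, true_and] at hx
  have hx2 : 2 + Y.s ≤ x.1 := by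
    by_contra h
    have : x.1 = 0 ∨ x.1 = 1 := by omega
    rcases this with h | h
    · exact hxa (Fin.ext (by rw [h, Y.at'_val (by omega)]))
    · exact hxb (Fin.ext (by rw [h, Y.at'_val (by omega)]))
  have key : ∀ i, i ≤ Y.r + Y.d → (Y.e ^ i) (Y.at' (2 + Y.s + 0)) = Y.at' (2 + Y.s + i) := fun i => by
    induction i with
    | zero => intro _; rfl
    | succ i ih => intro hi; rw [pow_succ', Perm.mul_apply, ih (by omega), Y.e_apply i (by omega)]
  obtain ⟨i, hi⟩ : ∃ i, x.1 = 2 + Y.s + i := ⟨x.1 - (2 + Y.s), by omega⟩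
  rw [← Y.at'_eq (i := 2 + Y.s + i) (by omega) x hi, ← key i (by omega)]
  exact (cyc3_orbit (H := Subgroup.closure {Y.σY, Y.e}) (Y.at'_ne (i := 0) (j := 1) (by omega) (by omega) (by omega))
    (Y.at'_ne (by omega) (by omega) (by omega)) (Y.at'_ne (by omega) (by omega) (by omega))
    (Subgroup.subset_closure (Or.inr rfl)) Y.e_pair (Subgroup.subset_closure (Or.inl rfl)) i).1

theorem genZ : altOn ((Y.Ω₂ \ Y.Ω₁) ∪ Y.S) ≤ Subgroup.closure {Y.σS, Y.f} := by
  have := Y.hn; have := Y.hk; have := Y.hs; have := Y.hL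
  set H := Subgroup.closure ({Y.σS, Y.f} : Set (Perm (Fin Y.n))) with hH
  have hz : cycPerm (Y.L - 1) Y.ffun _ _ ^ (Y.L - 1 + 1) = 1 := cycPerm_pow_card (n := Y.n)
    (hlt := fun i hi => by unfold ffun; split_ifs <;> omega)
    (hf := fun i j hi hj h => by unfold ffun at h; split_ifs at h <;> omega)
  have eL : Y.L - 1 + 1 = Y.L := by omega
  replace hz : Y.cycZ ^ Y.L = 1 := (congrArg (Y.cycZ ^ ·) eL).symm.trans hz
  obtain ⟨m₁, m₂⟩ := split_three (x := cyc3 (Y.at' 2) (Y.at' 3) (Y.at' 4)) (y := Y.cycZ) (s := Y.L) Y.disj_ρ_Z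
    (cyc3_cube (Y.at'_ne (by omega) (by omega) (by omega)) (Y.at'_ne (by omega) (by omega) (by omega))
      (Y.at'_ne (by omega) (by omega) (by omega))) hz Y.hL3
  have hf : Subgroup.zpowers Y.f ≤ H := Subgroup.zpowers_le.mpr (Subgroup.subset_closure (Or.inr rfl))
  have hS := cyc3_of_consecutive (H := H) (σ := Y.σS) (m := Y.s - 1) (fun i => Y.at' (2 + i))
    (fun i j hi hj e => by
      have := congrArg Fin.val e
      rw [Y.at'_val (by omega), Y.at'_val (by omega)] at this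
      omega)
    (fun i hi => Y.σS_apply i (by omega)) (Subgroup.subset_closure (Or.inl rfl)) (hf m₁)
  refine altOn_le (Y.at'_ne (i := 2) (j := 3) (by omega) (by omega) (by omega)) fun x hx hxa hxb => ?_
  simp only [Ω₁, Ω₂, S, Finset.mem_union, Finset.mem_sdiff, Finset.mem_filter, Finset.mem_univ, true_and] at hx
  have hne : x.1 ≠ 2 ∧ x.1 ≠ 3 := ⟨fun h => hxa (Fin.ext (by rw [h, Y.at'_val (by omega)])),
    fun h => hxb (Fin.ext (by rw [h, Y.at'_val (by omega)]))⟩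
  by_cases hin : x.1 < 2 + Y.s
  · obtain ⟨i, hi⟩ : ∃ i, x.1 = 2 + i := ⟨x.1 - 2, by omega⟩
    rw [← Y.at'_eq (i := 2 + i) (by omega) x hi]
    exact hS i (by omega) (by omega)
  have key : ∀ i, i < Y.L → (Y.cycZ ^ i) (Y.at' (Y.ffun 0)) = Y.at' (Y.ffun i) := fun i hi => by
    have b0 : Y.ffun 0 < Y.n := by unfold ffun; split_ifs <;> omega
    have bi : Y.ffun i < Y.n := by unfold ffun; split_ifs <;> omega
    rw [Y.at'_eq b0 ⟨_, b0⟩ rfl, Y.at'_eq bi ⟨_, bi⟩ rfl]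
    exact cycPerm_pow i (by omega)
  have e0 : Y.ffun 0 = 2 + (Y.s - (Y.L - Y.d)) := by unfold ffun; split_ifs <;> omega
  obtain ⟨i, hi, hiL⟩ : ∃ i, x.1 = Y.ffun i ∧ i < Y.L :=
    ⟨Y.L - Y.d + (x.1 - (Y.k + Y.d)), by unfold ffun; split_ifs <;> omega, by omega⟩
  rw [← Y.at'_eq (i := Y.ffun i) (by omega) x hi, ← key i hiL, e0]
  exact (cyc3_orbit (H := H) (Y.at'_ne (i := 2) (j := 3) (by omega) (by omega) (by omega))
    (Y.at'_ne (by omega) (by omega) (by omega)) (Y.at'_ne (by omega) (by omega) (by omega)) (hf m₂)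
    (Or.inl ⟨Y.cycZ_fix _ (Or.inl (by rw [Y.at'_val (by omega)]; omega)),
      Y.cycZ_fix _ (Or.inl (by rw [Y.at'_val (by omega)]; omega))⟩) (hS _ (by omega) (by omega)) i).1

theorem genM (fl : Bool) : altOn (Y.Ω₁ ∩ Y.Ω₂) ≤ Subgroup.closure {Y.q, Y.g fl * Y.q * Y.g fl} := by
  have := Y.hn; have := Y.hk; have := Y.hs; have := Y.hr
  set G' := Y.g fl with hG
  set H := Subgroup.closure ({Y.q, G' * Y.q * G'} : Set (Perm (Fin Y.n))) with hH
  have hinv : G'⁻¹ = G' := inv_eq_of_mul_eq_one_right (Y.g_sq fl)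
  have hq : Y.q ∈ H := Subgroup.subset_closure (Or.inl rfl)
  have conjH : ∀ x ∈ H, G' * x * G'⁻¹ ∈ H := fun x hx => by
    have : H.map (MulAut.conj G').toMonoidHom ≤ H := by
      rw [hH, MonoidHom.map_closure, Subgroup.closure_le]
      rintro _ ⟨y, rfl | rfl, rfl⟩ <;> simp only [MulEquiv.coe_toMonoidHom, MulAut.conj_apply, hinv]
      · exact Subgroup.subset_closure (Or.inr rfl)
      · rw [show G' * (G' * Y.q * G') * G' = G' * G' * Y.q * (G' * G') by simp only [mul_assoc], hG, Y.g_sq,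
          one_mul, mul_one]
        exact hq
    exact this ⟨x, hx, rfl⟩
  have hY : Y.σY ∈ H := Subgroup.zpowers_le.mpr hq Y.split_q.1
  have hSm : Y.σS ∈ H := Subgroup.zpowers_le.mpr hq Y.split_q.2
  have a0 : G' (Y.at' 0) = Y.at' 0 := Y.g_at fl (by omega) (by omega) (by unfold gfun; split_ifs <;> omega)
  have a1 : G' (Y.at' 1) = Y.at' 1 := Y.g_at fl (by omega) (by omega) (by unfold gfun; split_ifs <;> omega)
  have move : ∀ j, cyc3 (Y.at' 0) (Y.at' 1) j ∈ H → cyc3 (Y.at' 0) (Y.at' 1) (G' j) ∈ H := fun j hj => by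
    have := conjH _ hj
    rwa [cyc3_conj, a0, a1] at this
  have h2 : cyc3 (Y.at' 0) (Y.at' 1) (Y.at' (2 + 0)) ∈ H := by
    have := move _ hY
    rwa [show G' (Y.at' (2 + Y.s)) = Y.at' (2 + 0) from
      Y.g_at fl (by omega) (by omega) (by unfold gfun; split_ifs <;> omega)] at this
  have key : ∀ i, i < Y.s → (Y.σS ^ i) (Y.at' (2 + 0)) = Y.at' (2 + i) := fun i => by
    induction i with
    | zero => intro _; rfl
    | succ i ih => intro hi; rw [pow_succ', Perm.mul_apply, ih (by omega), Y.σS_apply i (by omega)]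
  have hSj : ∀ i, i < Y.s → cyc3 (Y.at' 0) (Y.at' 1) (Y.at' (2 + i)) ∈ H := fun i hi => by
    rw [← key i hi]
    exact (cyc3_orbit (H := H) (Y.at'_ne (i := 0) (j := 1) (by omega) (by omega) (by omega))
      (Y.at'_ne (by omega) (by omega) (by omega)) (Y.at'_ne (by omega) (by omega) (by omega)) hSm
      (Or.inl ⟨Y.σS_fix _ (Or.inl (by rw [Y.at'_val (by omega)]; omega)),
        Y.σS_fix _ (Or.inl (by rw [Y.at'_val (by omega)]; omega))⟩) h2 i).1
  refine altOn_le (Y.at'_ne (i := 0) (j := 1) (by omega) (by omega) (by omega)) fun x hx hxa hxb => ?_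
  simp only [Ω₁, Ω₂, Finset.mem_inter, Finset.mem_filter, Finset.mem_univ, true_and] at hx
  have hne : x.1 ≠ 0 ∧ x.1 ≠ 1 := ⟨fun h => hxa (Fin.ext (by rw [h, Y.at'_val (by omega)])),
    fun h => hxb (Fin.ext (by rw [h, Y.at'_val (by omega)]))⟩
  by_cases hin : x.1 < 2 + Y.s
  · obtain ⟨i, hi⟩ : ∃ i, x.1 = 2 + i := ⟨x.1 - 2, by omega⟩
    rw [← Y.at'_eq (i := 2 + i) (by omega) x hi]
    exact hSj i (by omega)
  · obtain ⟨i, hi⟩ : ∃ i, x.1 = 2 + Y.s + i := ⟨x.1 - (2 + Y.s), by omega⟩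
    have := move _ (hSj i (by omega))
    rwa [show G' (Y.at' (2 + i)) = x from
      (Y.g_at fl (j := 2 + Y.s + i) (by omega) (by omega) (by unfold gfun; split_ifs <;> omega)).trans
        (Y.at'_eq (by omega) x hi)] at this

theorem five_le : 5 ≤ (Y.Ω₁ \ Y.S).card := by
  have := Y.hn; have := Y.hk; have := Y.hs; have := Y.hrd
  rw [← Finset.card_range 5]
  refine Finset.card_le_card_of_injOn (fun i => Y.at' (if i < 2 then i else i + Y.s)) (fun i hi => ?_)
    (fun i hi j hj e => ?_)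
  · simp only [Finset.coe_range, Set.mem_Iio] at hi
    simp only [Ω₁, S, Finset.coe_sdiff, Set.mem_sdiff, Finset.mem_coe, Finset.mem_filter, Finset.mem_univ, true_and]
    rw [Y.at'_val (by split_ifs <;> omega)]
    split_ifs <;> omega
  · simp only [Finset.coe_range, Set.mem_Iio] at hi hj
    have h := congrArg Fin.val e
    simp only [Y.at'_val (show (if i < 2 then i else i + Y.s) < Y.n by split_ifs <;> omega),
      Y.at'_val (show (if j < 2 then j else j + Y.s) < Y.n by split_ifs <;> omega)] at h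
    split_ifs at h <;> omega

/-- The shape. -/
noncomputable def shape (fl : Bool) : Shape Y.n where
  Ω₁ := Y.Ω₁
  Ω₂ := Y.Ω₂
  S := Y.S
  g := Y.g fl
  a := Y.at' 0
  b := Y.at' 1
  σY := Y.σY
  σS := Y.σS
  q := Y.q
  e := Y.e
  f := Y.f
  g_sq := Y.g_sq fl
  g_map x := by
    have := Y.hn; have := Y.hk; have := Y.hs; have := Y.hr; have := x.2
    simp only [Ω₁, Ω₂, Finset.mem_filter, Finset.mem_univ, true_and, g_val, gfun]
    split_ifs <;> omega
  cover := by ext x; simp [Ω₁, Ω₂]; omega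
  S_le x := by
    have := Y.hk
    simp only [S, Ω₁, Ω₂, Finset.mem_inter, Finset.mem_filter, Finset.mem_univ, true_and]
    omega
  two_le_S := by
    have := Y.hn; have := Y.hk; have := Y.hs
    refine Finset.one_lt_card.mpr ⟨Y.at' 2, ?_, Y.at' 3, ?_, Y.at'_ne (by omega) (by omega) (by omega)⟩ <;>
    · simp only [S, Finset.mem_filter, Finset.mem_univ, true_and]; rw [Y.at'_val (by omega)]; omega
  a_mem := by
    have := Y.hn; have := Y.hk
    simp only [Ω₁, Ω₂, S, Finset.mem_sdiff, Finset.mem_inter, Finset.mem_filter, Finset.mem_univ, true_and]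
    rw [Y.at'_val (by omega)]; omega
  b_mem := by
    have := Y.hn; have := Y.hk
    simp only [Ω₁, Ω₂, S, Finset.mem_sdiff, Finset.mem_inter, Finset.mem_filter, Finset.mem_univ, true_and]
    rw [Y.at'_val (by omega)]; omega
  a_ne_b := by have := Y.hn; have := Y.hk; exact Y.at'_ne (by omega) (by omega) (by omega)
  five_le := Y.five_le
  hσY := Y.σY_mem
  hσS := Y.σS_mem
  hq := mul_mem (altOn_mono Finset.sdiff_subset Y.σY_mem) (altOn_mono (fun x => by
    have := Y.hk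
    simp only [S, Ω₁, Ω₂, Finset.mem_inter, Finset.mem_filter, Finset.mem_univ, true_and]
    omega) Y.σS_mem)
  he := Y.e_mem
  hf := Y.f_mem
  genX := Y.genX
  genZ := Y.genZ
  genM := Y.genM fl

/-- The core. -/
def core (hp : Y.p.Prime) : CoreSet Y.n Y.p where
  a := Y.at' 0
  b := Y.at' 1
  pt i := Y.at' (i.val + 2)
  a_ne_b := by have := Y.hn; have := Y.hk; exact Y.at'_ne (by omega) (by omega) (by omega)
  pt_inj i j h := by
    haveI := Fact.mk hp
    have := i.val_lt; have := j.val_lt; have := Y.hn; have := Y.hp; have := Y.hk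
    have e := congrArg Fin.val h
    rw [Y.at'_val (by omega), Y.at'_val (by omega)] at e
    exact ZMod.val_injective _ (by omega)
  pt_a i := by
    haveI := Fact.mk hp
    have := i.val_lt; have := Y.hn; have := Y.hp; have := Y.hk
    exact Y.at'_ne (by omega) (by omega) (by omega)
  pt_b i := by
    haveI := Fact.mk hp
    have := i.val_lt; have := Y.hn; have := Y.hp; have := Y.hk
    exact Y.at'_ne (by omega) (by omega) (by omega)

theorem core_pts [Fact Y.p.Prime] (hp : Y.p.Prime) : Y.Ω₁ = (Y.core hp).pts := by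
  have := Y.hn; have := Y.hp; have := Y.hk
  ext x
  simp only [Ω₁, CoreSet.pts, core, Finset.mem_filter, Finset.mem_univ, true_and, Finset.mem_insert, Finset.mem_image]
  constructor
  · intro h
    rcases Nat.lt_or_ge x.1 2 with h2 | h2
    · rcases (show x.1 = 0 ∨ x.1 = 1 by omega) with e | e
      · exact Or.inl (Y.at'_eq (by omega) x e).symm
      · exact Or.inr (Or.inl (Y.at'_eq (by omega) x e).symm)
    · refine Or.inr (Or.inr ⟨((x.1 - 2 : ℕ) : ZMod Y.p), Y.at'_eq ?_ x ?_⟩) <;>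
      rw [ZMod.val_natCast, Nat.mod_eq_of_lt (by omega)] <;> omega
  · rintro (rfl | rfl | ⟨i, rfl⟩)
    · rw [Y.at'_val (by omega)]; omega
    · rw [Y.at'_val (by omega)]; omega
    · have := i.val_lt
      rw [Y.at'_val (by omega)]; omega

/-- Pairing inside the first factor. -/
def t₁fun (t x : ℕ) : ℕ :=
  if x < 2 then (if 1 ≤ t then 1 - x else x)
  else if 2 + Y.s ≤ x ∧ x < Y.s + 2 * t then (if (x - Y.s) % 2 = 0 then x + 1 else x - 1) else x

/-- Index inside the second factor. -/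
def iz (x : ℕ) : ℕ := if x < 2 + Y.s then x - 2 else x - (Y.k + Y.d) + Y.s
/-- Position from an index of the second factor. -/
def uz (i : ℕ) : ℕ := if i < Y.s then i + 2 else i - Y.s + (Y.k + Y.d)

/-- Pairing inside the second factor. -/
def t₂fun (t x : ℕ) : ℕ :=
  if ((2 ≤ x ∧ x < 2 + Y.s) ∨ Y.k + Y.d ≤ x) ∧ Y.iz x < 2 * t then
    Y.uz (if Y.iz x % 2 = 0 then Y.iz x + 1 else Y.iz x - 1) else x

theorem exists_factors (t₁ t₂ : ℕ) (h₁ : t₁ % 2 = 0) (h₁' : 2 * t₁ ≤ 3 + Y.r + Y.d) (h₂ : t₂ % 2 = 0)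
    (h₂' : 2 * t₂ ≤ Y.s + Y.d) :
    ∃ τ₁ τ₂ : Perm (Fin Y.n), τ₁ * τ₁ = 1 ∧ τ₂ * τ₂ = 1 ∧ τ₁ ∈ altOn (Y.Ω₁ \ Y.S) ∧
      τ₂ ∈ altOn ((Y.Ω₂ \ Y.Ω₁) ∪ Y.S) ∧ (τ₁ * τ₂) * (τ₁ * τ₂) = 1 ∧
      (τ₁ * τ₂).support.card = 2 * (t₁ + t₂) := by
  have := Y.hn; have := Y.hk; have := Y.hs
  have l1 : ∀ x, x < Y.n → Y.t₁fun t₁ x < Y.n := fun x hx => by unfold t₁fun; split_ifs <;> omega
  have i1 : ∀ x, x < Y.n → Y.t₁fun t₁ (Y.t₁fun t₁ x) = x := fun x hx => by unfold t₁fun; split_ifs <;> omega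
  have l2 : ∀ x, x < Y.n → Y.t₂fun t₂ x < Y.n := fun x hx => by
    unfold t₂fun uz iz; split_ifs <;> omega
  have iuz : ∀ i, i < Y.s + Y.d → Y.iz (Y.uz i) = i ∧
      ((2 ≤ Y.uz i ∧ Y.uz i < 2 + Y.s) ∨ Y.k + Y.d ≤ Y.uz i) := fun i hi => by
    unfold uz iz; split_ifs <;> omega
  have uiz : ∀ x, x < Y.n → ((2 ≤ x ∧ x < 2 + Y.s) ∨ Y.k + Y.d ≤ x) → Y.uz (Y.iz x) = x := fun x hx h => by
    unfold uz iz; split_ifs <;> omega
  have i2 : ∀ x, x < Y.n → Y.t₂fun t₂ (Y.t₂fun t₂ x) = x := fun x hx => by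
    by_cases hc : ((2 ≤ x ∧ x < 2 + Y.s) ∨ Y.k + Y.d ≤ x) ∧ Y.iz x < 2 * t₂
    · set j := (if Y.iz x % 2 = 0 then Y.iz x + 1 else Y.iz x - 1) with hj
      have hj2 : j < 2 * t₂ := by rw [hj]; split_ifs <;> omega
      have e : Y.t₂fun t₂ x = Y.uz j := if_pos hc
      obtain ⟨e1, e2⟩ := iuz j (by omega)
      rw [e, t₂fun, if_pos ⟨e2, by omega⟩, e1]
      rw [show (if j % 2 = 0 then j + 1 else j - 1) = Y.iz x by rw [hj]; split_ifs <;> omega]
      exact uiz x hx hc.1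
    · have e : Y.t₂fun t₂ x = x := if_neg hc
      rw [e, e]
  set τ₁ := involPerm _ l1 i1 with hτ₁
  set τ₂ := involPerm _ l2 i2 with hτ₂
  have c1 : τ₁.support.card = 2 * t₁ := by
    rw [hτ₁, card_support_involPerm _ _ _ ((Finset.range (2 * t₁)).image fun i => if i < 2 then i else i + Y.s) ?_,
      Finset.card_image_of_injective _ ?_, Finset.card_range]
    · intro i j h; simp only at h; split_ifs at h <;> omega
    · intro x
      simp only [Finset.mem_image, Finset.mem_range]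
      constructor
      · rintro ⟨i, hi, rfl⟩
        unfold t₁fun; split_ifs <;> omega
      · rintro ⟨hx, h⟩
        refine ⟨if x < 2 then x else x - Y.s, ?_, ?_⟩ <;> unfold t₁fun at h <;> split_ifs at h ⊢ <;> omega
  have c2 : τ₂.support.card = 2 * t₂ := by
    rw [hτ₂, card_support_involPerm _ _ _ ((Finset.range (2 * t₂)).image Y.uz) ?_,
      Finset.card_image_of_injective _ ?_, Finset.card_range]
    · intro i j h; unfold uz at h; split_ifs at h <;> omega
    · intro x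
      simp only [Finset.mem_image, Finset.mem_range]
      constructor
      · rintro ⟨i, hi, rfl⟩
        unfold t₂fun uz iz; split_ifs <;> omega
      · rintro ⟨hx, h⟩
        refine ⟨Y.iz x, ?_, ?_⟩ <;> unfold t₂fun at h <;> unfold uz iz at * <;> split_ifs at h ⊢ <;> omega
  have s1 : Perm.sign τ₁ = 1 := by
    rw [sign_of_invol (involPerm_sq _ _ _), c1, Nat.mul_div_cancel_left _ (by norm_num),
      (Nat.even_iff.mpr h₁).neg_one_pow]
  have s2 : Perm.sign τ₂ = 1 := by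
    rw [sign_of_invol (involPerm_sq _ _ _), c2, Nat.mul_div_cancel_left _ (by norm_num),
      (Nat.even_iff.mpr h₂).neg_one_pow]
  have m1 : τ₁ ∈ altOn (Y.Ω₁ \ Y.S) := ⟨s1, fun x hx => Fin.ext (by
    simp only [Ω₁, S, Finset.mem_sdiff, Finset.mem_filter, Finset.mem_univ, true_and] at hx
    rw [hτ₁, involPerm_val]; unfold t₁fun; split_ifs <;> omega)⟩
  have m2 : τ₂ ∈ altOn ((Y.Ω₂ \ Y.Ω₁) ∪ Y.S) := ⟨s2, fun x hx => Fin.ext (by
    simp only [Ω₁, Ω₂, S, Finset.mem_union, Finset.mem_sdiff, Finset.mem_filter, Finset.mem_univ, true_and] at hx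
    rw [hτ₂, involPerm_val]; unfold t₂fun uz iz; split_ifs <;> omega)⟩
  have hd : Disjoint (Y.Ω₁ \ Y.S) ((Y.Ω₂ \ Y.Ω₁) ∪ Y.S) := (Y.shape false).disjoint
  have hD : Perm.Disjoint τ₁ τ₂ := fun x => by
    by_cases hx : x ∈ Y.Ω₁ \ Y.S
    · exact Or.inr (m2.2 x (Finset.disjoint_left.mp hd hx))
    · exact Or.inl (m1.2 x hx)
  refine ⟨τ₁, τ₂, involPerm_sq _ _ _, involPerm_sq _ _ _, m1, m2, ?_, ?_⟩
  · rw [hD.commute.symm.mul_mul_mul_comm τ₁ τ₂, involPerm_sq, involPerm_sq, one_mul]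
  · rw [hD.card_support_mul, c1, c2]; ring

theorem presOn_sym_layout (hp : Y.p.Prime) :
    ∃ gens : Fin 3 → Perm (Fin Y.n), PresOn gens 7 ∧ gens 1 = cyc3 (Y.at' 0) (Y.at' 1) (Y.at' 2) := by
  haveI := Fact.mk hp
  have := Y.hn; have := Y.hp; have := Y.hk; have := Y.hs; have := Y.hs2
  obtain ⟨gens, h, e⟩ := presOn_sym (Y.core hp) (Y.shape (decide ((1 + Y.r + Y.d) % 2 = 0))) (by omega) (by omega)
    (Y.core_pts hp) (l := 3 * Y.s) (Nat.odd_iff.mpr (by omega)) Y.q_pow (by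
      show Perm.sign (Y.g _) = -1
      rw [sign_g]
      refine Odd.neg_one_pow (Nat.odd_iff.mpr ?_)
      simp only [decide_eq_true_eq]
      split_ifs <;> omega)
  exact ⟨gens, h, e.trans (by simp [core])⟩

theorem presOn_alt_layout (hp : Y.p.Prime) :
    ∃ gens : Fin 3 → alternatingGroup (Fin Y.n), PresOn gens 7 ∧
      (gens 1 : Perm (Fin Y.n)) = cyc3 (Y.at' 0) (Y.at' 1) (Y.at' 2) := by
  haveI := Fact.mk hp
  have := Y.hn; have := Y.hp; have := Y.hk; have := Y.hs; have := Y.hs2; have := Y.hr; have := Y.hcap; have := Y.hd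
  set fl := decide ((1 + Y.r + Y.d) % 2 = 1) with hfl
  set t := 1 + Y.r + Y.d + (if fl = true then 1 else 0) with ht
  have ht2 : t % 2 = 0 := by rw [ht, hfl]; simp only [decide_eq_true_eq]; split_ifs <;> omega
  have htle : t ≤ 2 * ((3 + Y.r + Y.d) / 4) + 2 * ((Y.s + Y.d) / 4) := by
    rw [ht, hfl]; simp only [decide_eq_true_eq]; split_ifs <;> omega
  set t₁ := min t (2 * ((3 + Y.r + Y.d) / 4))
  obtain ⟨τ₁, τ₂, e1, e2, m1, m2, e12, hc⟩ := Y.exists_factors t₁ (t - t₁) (by omega) (by omega) (by omega) (by omega)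
  have hconj : IsConj (τ₁ * τ₂) (Y.g fl) :=
    isConj_of_invol e12 (Y.g_sq fl) (by rw [hc, card_support_g, ← ht]; omega)
  obtain ⟨ω, hω, hg⟩ := exists_even_conj hconj (a := Y.at' 0) (b := Y.at' 1)
    (Y.at'_ne (by omega) (by omega) (by omega))
    (Y.g_at fl (by omega) (by omega) (by unfold gfun; split_ifs <;> omega))
    (Y.g_at fl (by omega) (by omega) (by unfold gfun; split_ifs <;> omega))
  obtain ⟨gens, h, e⟩ := presOn_alt (Y.core hp) (Y.shape fl) (by omega) (by omega) (Y.core_pts hp)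
    (l := 3 * Y.s) (Nat.odd_iff.mpr (by omega)) Y.q_pow τ₁ τ₂ ω
    (altOn_mono (Y.shape fl).X_le m1) (altOn_mono (Y.shape fl).Z_le m2) e1 e2 hω hg
    (Or.inr ⟨Y.split_q.1, Y.split_q.2, m1, m2⟩)
  exact ⟨gens, h, e.trans (by simp [core])⟩

end Layout

theorem exists_layout (n p : ℕ) (h1 : p + 3 ≤ n) (hp2 : p % 2 = 1) (h2 : n + 10 ≤ 2 * (p + 2))
    (h3 : n = p + 3 → n + 11 ≤ 2 * (p + 2)) : ∃ Y : Layout, Y.n = n ∧ Y.p = p := by
  set d := n - p - 2 with hd
  set k := 2 * (p + 2) - n with hk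
  set m := if d = 1 then k - 4 else k - 3 with hm
  -- the largest number prime to six up to `m`
  have hm7 : 7 ≤ m := by rw [hm]; split_ifs <;> omega
  obtain ⟨s, hs1, hs2, hs3, hs4, hs7⟩ : ∃ s, s ≤ m ∧ m ≤ s + 3 ∧ s % 2 = 1 ∧ s % 3 ≠ 0 ∧ 7 ≤ s := by
    by_cases a0 : m % 6 = 0; · exact ⟨m - 1, by omega, by omega, by omega, by omega, by omega⟩
    by_cases a1 : m % 6 = 1; · exact ⟨m, by omega, by omega, by omega, by omega, by omega⟩
    by_cases a2 : m % 6 = 2; · exact ⟨m - 1, by omega, by omega, by omega, by omega, by omega⟩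
    by_cases a3 : m % 6 = 3; · exact ⟨m - 2, by omega, by omega, by omega, by omega, by omega⟩
    by_cases a4 : m % 6 = 4; · exact ⟨m - 3, by omega, by omega, by omega, by omega, by omega⟩
    exact ⟨m, by omega, by omega, by omega, by omega, by omega⟩
  obtain ⟨L, hL⟩ : ∃ L, d + 1 ≤ L ∧ L + 3 ≤ d + s ∧ L % 2 = 1 ∧ L % 3 ≠ 0 := by
    set u := d + s - 3 with hu
    by_cases a0 : u % 6 = 0; · exact ⟨u - 1, by omega, by omega, by omega, by omega⟩
    by_cases a1 : u % 6 = 1; · exact ⟨u, by omega, by omega, by omega, by omega⟩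
    by_cases a2 : u % 6 = 2; · exact ⟨u - 1, by omega, by omega, by omega, by omega⟩
    by_cases a3 : u % 6 = 3; · exact ⟨u - 2, by omega, by omega, by omega, by omega⟩
    by_cases a4 : u % 6 = 4; · exact ⟨u - 3, by omega, by omega, by omega, by omega⟩
    exact ⟨u, by omega, by omega, by omega, by omega⟩
  refine ⟨⟨n, p, d, k, s, k - 3 - s, L, ?_, ?_, ?_, ?_, hs7, hs3, hs4, ?_, ?_, ?_, ⟨hL.1, hL.2.1⟩, hL.2.2.1,
    hL.2.2.2⟩, rfl, rfl⟩ <;>
  · rw [hm] at hs1 hs2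
    split_ifs at hs1 hs2 <;> omega

end Cfsg.Agent.KSG55.Pres
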