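import Cfsg.Agent.KSG55.Pres.MidTools

set_option autoImplicit false

/-! Degrees ten, eleven and twelve. -/

namespace Cfsg.Agent.KSG55.Pres

open Equiv

set_option maxRecDepth 20000 in
set_option maxHeartbeats 1000000 in
/-- The shape in degree 10. -/
def midAlt10 : MidData 10 where
  d := 1
  k := 8
  hn := rfl
  gC := [[8, 9], [0, 4], [1, 6], [3, 7]]
  qC := [[0, 1, 2, 3, 4, 5, 6]]
  eC := [[0, 1], [5, 6, 7, 8]]
  fC := [[2, 3], [4, 9]]
  wX := [[], [], [], [], [], [true], [false, true, true, false, false, false], [false, false, true, false, false], [false, false, false, true, true, false], []]
  wZ := [[], [], [], [], [true], [], [], [], [], [true, false, true]]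
  wM := [[], [], [true, false, false, true, false, false], [false, false, true, false, true, false, false, false, true, false, true, false], [true, true, false, false, false, true, true, true, false, false, false, true], [true, true, true, false, true, true, false, false, false, true, false, false], [false, false, true, false, false, true], [true, true, false, true, true, true, true, true, true, false, false, false, true, true], [], []]
  g_sq := by decide
  g_map := by decide
  hq := by decide
  he := by decide
  hf := by decide
  hk6 := by decide
  hX := by decide
  hZ := by decide
  hM := by decide

set_option maxRecDepth 20000 in
set_option maxHeartbeats 1000000 in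
/-- The shape in degree 10. -/
def midSym10 : MidData 10 where
  d := 1
  k := 8
  hn := rfl
  gC := [[8, 9], [4, 3], [5, 2], [6, 1], [0, 7]]
  qC := [[0, 1, 2, 3, 4, 5, 6]]
  eC := [[0, 1], [5, 6, 7, 8]]
  fC := [[2, 3], [4, 9]]
  wX := [[], [], [], [], [], [true], [false, true, true, false, false, false], [false, false, true, false, false], [false, false, false, true, true, false], []]
  wZ := [[], [], [], [], [true], [], [], [], [], [true, false, true]]
  wM := [[], [], [true, true, false, true, false, false, true, true, false, false], [false, false, false, false, true, true, true, true, true, false], [false, false, false, true, true, true, true, false], [false, false, true, true, true, false], [false, true, true, false], [true, false], [], []]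
  g_sq := by decide
  g_map := by decide
  hq := by decide
  he := by decide
  hf := by decide
  hk6 := by decide
  hX := by decide
  hZ := by decide
  hM := by decide

set_option maxRecDepth 20000 in
set_option maxHeartbeats 1000000 in
/-- The shape in degree 11. -/
def midAlt11 : MidData 11 where
  d := 2
  k := 7
  hn := rfl
  gC := [[7, 9], [8, 10], [0, 5], [6, 4]]
  qC := [[0, 1, 2, 3, 4]]
  eC := [[0, 1], [5, 6, 7, 8]]
  fC := [[4, 9, 10]]
  wX := [[], [], [], [], [], [true], [false, true, true, false, false, false], [false, false, true, false, false], [false, false, false, true, true, false], [], []]
  wZ := [[], [], [], [], [true], [], [], [], [], [false, true, false, false], [false, false, true, false]]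
  wM := [[], [], [false, false, true, false, false, true, true], [true, true, false, true, false, false, true, false], [true, true, true, true, false, false, true, false, false, true, true, true], [true, false, true, true, false, false, true], [true, true, true, false, false, true, true, false, true, true, true, true], [], [], [], []]
  g_sq := by decide
  g_map := by decide
  hq := by decide
  he := by decide
  hf := by decide
  hk6 := by decide
  hX := by decide
  hZ := by decide
  hM := by decide

set_option maxRecDepth 20000 in
set_option maxHeartbeats 1000000 in
/-- The shape in degree 11. -/
def midSym11 : MidData 11 where
  d := 2
  k := 7
  hn := rfl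
  gC := [[7, 9], [8, 10], [4, 6], [1, 0], [2, 5]]
  qC := [[0, 1, 2, 3, 4]]
  eC := [[0, 1], [5, 6, 7, 8]]
  fC := [[4, 9, 10]]
  wX := [[], [], [], [], [], [true], [false, true, true, false, false, false], [false, false, true, false, false], [false, false, false, true, true, false], [], []]
  wZ := [[], [], [], [], [true], [], [], [], [], [false, true, false, false], [false, false, true, false]]
  wM := [[], [], [true, true, false, true, false, false, false, true, false, true], [false, true, false, false, true, false], [true, false, true, false, false, false, true, false, true, true], [false, true, false, false, true, true, false, false, true], [true, false, false, true, true, false, false, true, false], [], [], [], []]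
  g_sq := by decide
  g_map := by decide
  hq := by decide
  he := by decide
  hf := by decide
  hk6 := by decide
  hX := by decide
  hZ := by decide
  hM := by decide

set_option maxRecDepth 20000 in
set_option maxHeartbeats 1000000 in
/-- The shape in degree 12. -/
def midAlt12 : MidData 12 where
  d := 3
  k := 6
  hn := rfl
  gC := [[6, 9], [7, 10], [8, 11], [5, 4]]
  qC := [[0, 1, 2, 3, 4]]
  eC := [[0, 1], [5, 6, 7, 8]]
  fC := [[2, 3], [4, 9, 10, 11]]
  wX := [[], [], [], [], [], [true], [false, true, true, false, false, false], [false, false, true, false, false], [false, false, false, true, true, false], [], [], []]
  wZ := [[], [], [], [], [true], [], [], [], [], [false, true, true, false, false, false], [false, false, true, false, false], [false, false, false, true, true, false]]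
  wM := [[], [], [true, false, false, false, true, false], [true, true, false, true, true, false, false], [false, false, false, true, false, true], [true, true, true, false, true, false], [], [], [], [], [], []]
  g_sq := by decide
  g_map := by decide
  hq := by decide
  he := by decide
  hf := by decide
  hk6 := by decide
  hX := by decide
  hZ := by decide
  hM := by decide

set_option maxRecDepth 20000 in
set_option maxHeartbeats 1000000 in
/-- The shape in degree 12. -/
def midSym12 : MidData 12 where
  d := 3
  k := 6
  hn := rfl
  gC := [[6, 9], [7, 10], [8, 11], [3, 5], [2, 1]]
  qC := [[0, 1, 2, 3, 4]]
  eC := [[0, 1], [5, 6, 7, 8]]
  fC := [[2, 3], [4, 9, 10, 11]]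
  wX := [[], [], [], [], [], [true], [false, true, true, false, false, false], [false, false, true, false, false], [false, false, false, true, true, false], [], [], []]
  wZ := [[], [], [], [], [true], [], [], [], [], [false, true, true, false, false, false], [false, false, true, false, false], [false, false, false, true, true, false]]
  wM := [[], [], [true, true, false, true, false, false, true, true], [false, true, true, true, true, false, true, false], [true, false, true, false, false, true, true, true], [false, true, true, false, false, false, true], [], [], [], [], [], []]
  g_sq := by decide
  g_map := by decide
  hq := by decide
  he := by decide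
  hf := by decide
  hk6 := by decide
  hX := by decide
  hZ := by decide
  hM := by decide

end Cfsg.Agent.KSG55.Pres
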