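import Cfsg.Agent.KSG55.Pres.Tools

set_option autoImplicit false

/-! A partner for a three cycle. -/

namespace Cfsg.Agent.KSG55.Pres

open Equiv

theorem partner_std (n : ℕ) (hn : 5 ≤ n) (σ : ℤˣ) :
    ∃ z w : Perm (Fin n), Perm.IsThreeCycle z ∧ Perm.sign w = σ ∧ altOn Finset.univ ≤ Subgroup.closure {z, w} := by
  let pt : ℕ → Fin n := fun i => ⟨min i (n - 1), by omega⟩
  have hpt : ∀ i, i < n → (pt i).1 = i := fun i hi => by simp [pt]; omega
  have ne : ∀ i j, i < n → j < n → i ≠ j → pt i ≠ pt j := fun i j hi hj h e => h (by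
    rw [← hpt i hi, ← hpt j hj, e])
  have eq : ∀ x : Fin n, pt x.1 = x := fun x => Fin.ext (hpt _ x.2)
  have h3 : ∀ a b c : ℕ, a < n → b < n → c < n → a ≠ b → b ≠ c → a ≠ c →
      Perm.IsThreeCycle (cyc3 (pt a) (pt b) (pt c)) := fun a b c ha hb hc hab hbc hac => by
    rw [cyc3, swap_comm (pt a) (pt b)]
    exact Perm.isThreeCycle_swap_mul_swap_same (ne _ _ hb ha hab.symm) (ne _ _ hb hc hbc) (ne _ _ ha hc hac)
  set z := cyc3 (pt 0) (pt 1) (pt 2) with hz
  by_cases hσ : σ = (-1) ^ (n - 1)
  · -- the long cycle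
    set w := cycPerm (n := n) (n - 1) (fun i => i) (fun i hi => by omega) (fun i j _ _ h => h) with hw
    refine ⟨z, w, h3 0 1 2 (by omega) (by omega) (by omega) (by omega) (by omega) (by omega),
      by rw [hσ, hw, sign_cycPerm], ?_⟩
    have hmem := cyc3_of_consecutive (H := Subgroup.closure {z, w}) (σ := w) (m := n - 1) pt
      (fun i j hi hj e => by_contra fun h => ne i j (by omega) (by omega) h e)
      (fun i hi => by
        have := cycPerm_apply (n := n) (m := n - 1) (f := fun i => i)
          (hlt := fun i hi => by omega) (hf := fun i j _ _ h => h) i hi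
        rw [show pt i = ⟨i, by omega⟩ from Fin.ext (hpt i (by omega)),
          show pt (i + 1) = ⟨i + 1, by omega⟩ from Fin.ext (hpt _ (by omega))]
        exact this)
      (Subgroup.subset_closure (Or.inr rfl)) (Subgroup.subset_closure (Or.inl rfl))
    refine altOn_le (ne 0 1 (by omega) (by omega) (by omega)) fun x _ hxa hxb => ?_
    have h0 : x.1 ≠ 0 := fun h => hxa (by rw [← eq x, h])
    have h1 : x.1 ≠ 1 := fun h => hxb (by rw [← eq x, h])
    rw [← eq x]
    exact hmem x.1 (by omega) (by have := x.2; omega)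
  · -- the cycle fixing the first point
    set w := cycPerm (n := n) (n - 2) (fun i => i + 1) (fun i hi => by omega) (fun i j _ _ h => by omega) with hw
    refine ⟨z, w, h3 0 1 2 (by omega) (by omega) (by omega) (by omega) (by omega) (by omega), ?_, ?_⟩
    · rw [hw, sign_cycPerm]
      rw [show n - 1 = n - 2 + 1 by omega, pow_succ] at hσ
      rcases Int.units_eq_one_or σ with rfl | rfl <;>
        rcases Int.units_eq_one_or ((-1 : ℤˣ) ^ (n - 2)) with h' | h' <;> rw [h'] at hσ ⊢ <;>
        first | rfl | exact absurd (by decide) hσ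
    set H := Subgroup.closure ({z, w} : Set (Perm (Fin n))) with hH
    have hwa : ∀ i, 1 ≤ i → i + 1 < n → w (pt i) = pt (i + 1) := fun i h1 h2 => by
      obtain ⟨j, rfl⟩ : ∃ j, i = j + 1 := ⟨i - 1, by omega⟩
      rw [show pt (j + 1) = ⟨j + 1, by omega⟩ from Fin.ext (hpt _ (by omega)),
        show pt (j + 1 + 1) = ⟨j + 1 + 1, by omega⟩ from Fin.ext (hpt _ h2)]
      exact cycPerm_apply (f := fun i => i + 1) j (by omega)
    have hw0 : w (pt 0) = pt 0 := cycPerm_of_not _ fun i hi e => by rw [hpt 0 (by omega)] at e; omega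
    have T : ∀ i, 1 ≤ i → i + 1 < n → cyc3 (pt 0) (pt i) (pt (i + 1)) ∈ H := by
      intro i
      induction i with
      | zero => omega
      | succ i ih =>
        intro _ h2
        by_cases h0 : i = 0
        · subst h0; exact Subgroup.subset_closure (Or.inl rfl)
        · have hwm : w ∈ H := Subgroup.subset_closure (Or.inr rfl)
          have := mul_mem (mul_mem hwm (ih (by omega) (by omega))) (inv_mem hwm)
          rwa [cyc3_conj, hw0, hwa i (by omega) (by omega), hwa (i + 1) (by omega) (by omega)] at this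
    have A : ∀ j, 2 ≤ j → j < n → cyc3 (pt 0) (pt 1) (pt j) ∈ H := by
      intro j
      induction j with
      | zero => omega
      | succ j ih =>
        intro h2 hj
        by_cases h0 : j = 1
        · subst h0; exact Subgroup.subset_closure (Or.inl rfl)
        have hc := ih (by omega) (by omega)
        have := mul_mem (mul_mem hc (T j (by omega) hj)) (inv_mem hc)
        have n01 := ne 0 1 (by omega) (by omega) (by omega)
        have n0j := ne 0 j (by omega) (by omega) (by omega)
        have n1j := ne 1 j (by omega) (by omega) (by omega)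
        have n0k := ne 0 (j + 1) (by omega) (by omega) (by omega)
        have n1k := ne 1 (j + 1) (by omega) (by omega) (by omega)
        have njk := ne j (j + 1) (by omega) (by omega) (by omega)
        rw [cyc3_conj, cyc3_left n01 n0j, cyc3_right, cyc3_of_ne n0k.symm n1k.symm njk.symm] at this
        rw [← cyc3_inv n01.symm n1k n0k]
        exact inv_mem this
    refine altOn_le (ne 0 1 (by omega) (by omega) (by omega)) fun x _ hxa hxb => ?_
    have h0 : x.1 ≠ 0 := fun h => hxa (by rw [← eq x, h])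
    have h1 : x.1 ≠ 1 := fun h => hxb (by rw [← eq x, h])
    rw [← eq x]
    exact A x.1 (by omega) x.2

theorem exists_partner {n : ℕ} (hn : 5 ≤ n) (σ : ℤˣ) {z : Perm (Fin n)} (hz : z.IsThreeCycle) :
    ∃ w : Perm (Fin n), Perm.sign w = σ ∧ altOn Finset.univ ≤ Subgroup.closure {z, w} := by
  obtain ⟨z₀, w₀, h₀, hs, hg⟩ := partner_std n hn σ
  obtain ⟨π, hπ⟩ := isConj_iff.mp (Perm.isConj_iff_cycleType_eq.mpr (h₀.cycleType.trans hz.cycleType.symm))
  refine ⟨π * w₀ * π⁻¹, by rw [map_mul, map_mul, map_inv, mul_right_comm, mul_inv_cancel, one_mul, hs], fun x hx => ?_⟩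
  have hmem : π⁻¹ * x * π ∈ altOn (Finset.univ : Finset (Fin n)) :=
    ⟨by simp [hx.1], fun y hy => absurd (Finset.mem_univ y) hy⟩
  have h := Subgroup.mem_map_of_mem (MulAut.conj π).toMonoidHom (hg hmem)
  rw [MonoidHom.map_closure, Set.image_pair] at h
  simp only [MulEquiv.coe_toMonoidHom, MulAut.conj_apply, hπ] at h
  rwa [show π * (π⁻¹ * x * π) * π⁻¹ = x by group] at h

theorem sym_partner {n : ℕ} (hn : 5 ≤ n) {z : Perm (Fin n)} (hz : z.IsThreeCycle) :
    ∃ w : Perm (Fin n), Subgroup.closure {z, w} = ⊤ := by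
  obtain ⟨w, hs, hg⟩ := exists_partner hn (-1) hz
  refine ⟨w, ?_⟩
  rw [eq_top_iff]
  intro x _
  have hw : w ∈ Subgroup.closure ({z, w} : Set (Perm (Fin n))) := Subgroup.subset_closure (Or.inr rfl)
  rcases Int.units_eq_one_or (Perm.sign x) with h | h
  · exact hg ⟨h, fun y hy => absurd (Finset.mem_univ y) hy⟩
  · have : x * w⁻¹ ∈ Subgroup.closure ({z, w} : Set (Perm (Fin n))) :=
      hg ⟨by rw [map_mul, map_inv, h, hs]; rfl, fun y hy => absurd (Finset.mem_univ y) hy⟩
    simpa using mul_mem this hw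

theorem alt_partner {n : ℕ} (hn : 5 ≤ n) {z : alternatingGroup (Fin n)} (hz : (z : Perm (Fin n)).IsThreeCycle) :
    ∃ w : alternatingGroup (Fin n), Subgroup.closure ({z, w} : Set (alternatingGroup (Fin n))) = ⊤ := by
  obtain ⟨w, hs, hg⟩ := exists_partner hn 1 hz
  refine ⟨⟨w, Perm.mem_alternatingGroup.mpr hs⟩, ?_⟩
  rw [eq_top_iff, ← Subgroup.map_le_map_iff_of_injective (alternatingGroup (Fin n)).subtype_injective,
    ← MonoidHom.range_eq_map, MonoidHom.map_closure, Set.image_pair]
  exact ((Subgroup.range_subtype _).trans altOn_univ.symm).trans_le hg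

end Cfsg.Agent.KSG55.Pres
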