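import Cfsg.Agent.KSG55.Pres.Classical

set_option autoImplicit false

/-! Degrees three to nine. -/

namespace Cfsg.Agent.KSG55.Pres

open Equiv

/-- The cycle on all points but two. -/
def smallCyc (n : ℕ) : Perm (Fin n) := ((List.finRange n).drop 2).formPerm

/-- The generator of degree `n`, corrected to the wanted parity. -/
def smallTau (n : ℕ) (hn : 2 ≤ n) (flip : Bool) : Perm (Fin n) :=
  if flip = true then smallCyc n * swap ⟨0, by omega⟩ ⟨1, by omega⟩ else smallCyc n

set_option maxRecDepth 20000 in
set_option maxHeartbeats 1000000 in
theorem exists_small_data (m : ℕ) (h1 : 1 ≤ m) (h2 : m ≤ 7) :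
    ∃ A B : SmallData (m + 2), Perm.sign A.τ = 1 ∧ Perm.sign B.τ = -1 ∧ A.m = m ∧ B.m = m := by
  interval_cases m
  · exact ⟨⟨1, by decide, rfl, 0, 1, by decide, fun i => ⟨i.1 + 2, by omega⟩, false, smallTau _ (by decide) false,
      by decide, by decide, by decide, fun i j h => Fin.ext (by simpa using congrArg Fin.val h), by decide⟩,
      ⟨1, by decide, rfl, 0, 1, by decide, fun i => ⟨i.1 + 2, by omega⟩, true, smallTau _ (by decide) true,
      by decide, by decide, by decide, fun i j h => Fin.ext (by simpa using congrArg Fin.val h), by decide⟩, by decide, by decide, rfl, rfl⟩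
  · exact ⟨⟨2, by decide, rfl, 0, 1, by decide, fun i => ⟨i.1 + 2, by omega⟩, true, smallTau _ (by decide) true,
      by decide, by decide, by decide, fun i j h => Fin.ext (by simpa using congrArg Fin.val h), by decide⟩,
      ⟨2, by decide, rfl, 0, 1, by decide, fun i => ⟨i.1 + 2, by omega⟩, false, smallTau _ (by decide) false,
      by decide, by decide, by decide, fun i j h => Fin.ext (by simpa using congrArg Fin.val h), by decide⟩, by decide, by decide, rfl, rfl⟩
  · exact ⟨⟨3, by decide, rfl, 0, 1, by decide, fun i => ⟨i.1 + 2, by omega⟩, false, smallTau _ (by decide) false,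
      by decide, by decide, by decide, fun i j h => Fin.ext (by simpa using congrArg Fin.val h), by decide⟩,
      ⟨3, by decide, rfl, 0, 1, by decide, fun i => ⟨i.1 + 2, by omega⟩, true, smallTau _ (by decide) true,
      by decide, by decide, by decide, fun i j h => Fin.ext (by simpa using congrArg Fin.val h), by decide⟩, by decide, by decide, rfl, rfl⟩
  · exact ⟨⟨4, by decide, rfl, 0, 1, by decide, fun i => ⟨i.1 + 2, by omega⟩, true, smallTau _ (by decide) true,
      by decide, by decide, by decide, fun i j h => Fin.ext (by simpa using congrArg Fin.val h), by decide⟩,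
      ⟨4, by decide, rfl, 0, 1, by decide, fun i => ⟨i.1 + 2, by omega⟩, false, smallTau _ (by decide) false,
      by decide, by decide, by decide, fun i j h => Fin.ext (by simpa using congrArg Fin.val h), by decide⟩, by decide, by decide, rfl, rfl⟩
  · exact ⟨⟨5, by decide, rfl, 0, 1, by decide, fun i => ⟨i.1 + 2, by omega⟩, false, smallTau _ (by decide) false,
      by decide, by decide, by decide, fun i j h => Fin.ext (by simpa using congrArg Fin.val h), by decide⟩,
      ⟨5, by decide, rfl, 0, 1, by decide, fun i => ⟨i.1 + 2, by omega⟩, true, smallTau _ (by decide) true,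
      by decide, by decide, by decide, fun i j h => Fin.ext (by simpa using congrArg Fin.val h), by decide⟩, by decide, by decide, rfl, rfl⟩
  · exact ⟨⟨6, by decide, rfl, 0, 1, by decide, fun i => ⟨i.1 + 2, by omega⟩, true, smallTau _ (by decide) true,
      by decide, by decide, by decide, fun i j h => Fin.ext (by simpa using congrArg Fin.val h), by decide⟩,
      ⟨6, by decide, rfl, 0, 1, by decide, fun i => ⟨i.1 + 2, by omega⟩, false, smallTau _ (by decide) false,
      by decide, by decide, by decide, fun i j h => Fin.ext (by simpa using congrArg Fin.val h), by decide⟩, by decide, by decide, rfl, rfl⟩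
  · exact ⟨⟨7, by decide, rfl, 0, 1, by decide, fun i => ⟨i.1 + 2, by omega⟩, false, smallTau _ (by decide) false,
      by decide, by decide, by decide, fun i j h => Fin.ext (by simpa using congrArg Fin.val h), by decide⟩,
      ⟨7, by decide, rfl, 0, 1, by decide, fun i => ⟨i.1 + 2, by omega⟩, true, smallTau _ (by decide) true,
      by decide, by decide, by decide, fun i j h => Fin.ext (by simpa using congrArg Fin.val h), by decide⟩, by decide, by decide, rfl, rfl⟩

end Cfsg.Agent.KSG55.Pres
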