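import Cfsg.Agent.KSG55.Pres.Prime
import Cfsg.Agent.KSG55.Pres.Layout
import Cfsg.Agent.KSG55.Pres.Exact
import Cfsg.Agent.KSG55.Pres.Small
import Cfsg.Agent.KSG55.Pres.MidData
import Cfsg.Agent.KSG55.Pres.Pair

set_option autoImplicit false

/-! All degrees. -/

namespace Cfsg.Agent.KSG55.Pres

open Equiv

theorem isThreeCycle_cyc3 {n : ℕ} {a b c : Fin n} (hab : a ≠ b) (hbc : b ≠ c) (hac : a ≠ c) :
    (cyc3 a b c).IsThreeCycle := by
  rw [cyc3, swap_comm a b]
  exact Perm.isThreeCycle_swap_mul_swap_same hab.symm hbc hac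

theorem CoreSet.three {n p : ℕ} [Fact p.Prime] (C : CoreSet n p) : (cyc3 C.a C.b (C.pt 0)).IsThreeCycle :=
  isThreeCycle_cyc3 C.a_ne_b (C.pt_b 0).symm (C.pt_a 0).symm

theorem Layout.three (Y : Layout) : (cyc3 (Y.at' 0) (Y.at' 1) (Y.at' 2)).IsThreeCycle := by
  have := Y.hn; have := Y.hk; have := Y.hs
  exact isThreeCycle_cyc3 (Y.at'_ne (by omega) (by omega) (by omega)) (Y.at'_ne (by omega) (by omega) (by omega))
    (Y.at'_ne (by omega) (by omega) (by omega))

theorem mid_sym {n : ℕ} [NeZero n] (M : MidData n) (l : ℕ) (hl : Odd l) (hq : cycList M.qC ^ l = 1)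
    (hodd : Perm.sign (cycList M.gC) = -1) :
    ∃ gens : Fin 3 → Perm (Fin n), PresOn gens 7 ∧ (gens 1).IsThreeCycle := by
  haveI : Fact (Nat.Prime 7) := ⟨by norm_num⟩
  obtain ⟨g, h, e⟩ := M.presOn_sym l hl hq hodd
  exact ⟨g, h, e ▸ CoreSet.three _⟩

theorem mid_alt {n : ℕ} [NeZero n] (M : MidData n) (l : ℕ) (hl : Odd l) (hq : cycList M.qC ^ l = 1)
    (τ : List (List (Fin n))) (hτ : EvenIn (cycList τ) (Finset.univ.filter fun x : Fin n => x.val < M.k + M.d))
    (hτ2 : cycList τ * cycList τ = 1) (hc : (cycList τ).support.card = (cycList M.gC).support.card)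
    (a b : Fin n) (hab : a ≠ b) (ha : cycList M.gC a = a) (hb : cycList M.gC b = b) :
    ∃ gens : Fin 3 → alternatingGroup (Fin n), PresOn gens 7 ∧ (gens 1 : Perm (Fin n)).IsThreeCycle := by
  haveI : Fact (Nat.Prime 7) := ⟨by norm_num⟩
  obtain ⟨g, h, e⟩ := M.presOn_alt l hl hq τ hτ hτ2 hc a b hab ha hb
  exact ⟨g, h, e ▸ CoreSet.three _⟩

set_option maxRecDepth 20000 in
set_option maxHeartbeats 1000000 in
theorem large_cases (n : ℕ) (hn : 10 ≤ n) :
    (∃ gens : Fin 3 → Perm (Fin n), PresOn gens 7 ∧ (gens 1).IsThreeCycle) ∧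
      (∃ gens : Fin 3 → alternatingGroup (Fin n), PresOn gens 7 ∧ (gens 1 : Perm (Fin n)).IsThreeCycle) := by
  by_cases h13 : n = 13
  · subst h13
    haveI : Fact (Nat.Prime 11) := ⟨by norm_num⟩
    obtain ⟨g, h, e⟩ := presOn_sym_exact (p := 11) (by norm_num)
    obtain ⟨g', h', e'⟩ := presOn_alt_exact (p := 11) (by norm_num)
    exact ⟨⟨g, h, e ▸ CoreSet.three _⟩, ⟨g', h', e' ▸ CoreSet.three _⟩⟩
  by_cases h14 : 14 ≤ n
  · obtain ⟨p, hp, hp1, hp2, hp3⟩ : ∃ p : ℕ, p.Prime ∧ p + 2 ≤ n ∧ n + 10 ≤ 2 * (p + 2) ∧ 11 ≤ p := by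
      obtain ⟨p, hp, h1, h2⟩ := exists_prime_for_degree n h14
      exact ⟨p, hp, h1, h2, by
        rcases (show p = 10 ∨ 11 ≤ p by omega) with rfl | h
        · norm_num at hp
        · exact h⟩
    haveI := Fact.mk hp
    by_cases he : n = p + 2
    · subst he
      obtain ⟨g, h, e⟩ := presOn_sym_exact (p := p) (by omega)
      obtain ⟨g', h', e'⟩ := presOn_alt_exact (p := p) (by omega)
      exact ⟨⟨g, h, e ▸ CoreSet.three _⟩, ⟨g', h', e' ▸ CoreSet.three _⟩⟩
    have hodd : p % 2 = 1 := Nat.odd_iff.mp (hp.odd_of_ne_two (by omega))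
    obtain ⟨Y, rfl, rfl⟩ := exists_layout n p (by omega) hodd hp2 (by omega)
    obtain ⟨g, h, e⟩ := Y.presOn_sym_layout hp
    obtain ⟨g', h', e'⟩ := Y.presOn_alt_layout hp
    exact ⟨⟨g, h, e ▸ Y.three⟩, ⟨g', h', e' ▸ Y.three⟩⟩
  obtain rfl | rfl | rfl : n = 10 ∨ n = 11 ∨ n = 12 := by omega
  · exact ⟨mid_sym midSym10 7 (by decide) (by decide) (by decide),
      mid_alt midAlt10 7 (by decide) (by decide) [[0, 1], [2, 3], [4, 5], [6, 7]] (by decide) (by decide)
        (by decide) 2 5 (by decide) (by decide) (by decide)⟩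
  · exact ⟨mid_sym midSym11 5 (by decide) (by decide) (by decide),
      mid_alt midAlt11 5 (by decide) (by decide) [[0, 1], [2, 3], [4, 5], [6, 7]] (by decide) (by decide)
        (by decide) 1 2 (by decide) (by decide) (by decide)⟩
  · exact ⟨mid_sym midSym12 5 (by decide) (by decide) (by decide),
      mid_alt midAlt12 5 (by decide) (by decide) [[0, 1], [2, 3], [4, 5], [6, 7]] (by decide) (by decide)
        (by decide) 0 1 (by decide) (by decide) (by decide)⟩

theorem small_cases (n : ℕ) (h3 : 3 ≤ n) (h9 : n ≤ 9) :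
    (∃ gens : Fin 2 → Perm (Fin n), PresOn gens ((n - 2) / 2 + 3)) ∧
      (∃ gens : Fin 2 → alternatingGroup (Fin n), PresOn gens ((n - 2) / 2 + 3)) := by
  obtain ⟨m, rfl⟩ : ∃ m, n = m + 2 := ⟨n - 2, by omega⟩
  obtain ⟨A, B, hA, hB, eA, eB⟩ := exists_small_data m (by omega) (by omega)
  exact ⟨⟨_, (B.presOn_sym hB).mono (by rw [eB]; omega)⟩, ⟨_, (A.presOn_alt hA).mono (by rw [eA]; omega)⟩⟩

theorem PresOn.add_trivial {G : Type*} [Group G] {r : ℕ} {gens : Fin 2 → G} (h : PresOn gens r) :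
    ∃ gens' : Fin 3 → G, PresOn gens' (r + 1) := by
  refine ⟨![gens 0, gens 1, 1], ?_⟩
  have htop : Subgroup.closure (Set.range gens) = ⊤ := by
    obtain ⟨rels, -, e, he⟩ := h
    have := congrArg (Subgroup.map e.toMonoidHom) (PresentedGroup.closure_range_of (↑rels : Set (FreeGroup (Fin 2))))
    rw [MonoidHom.map_closure, Subgroup.map_top_of_surjective _ e.surjective, ← Set.range_comp] at this
    rw [← this]
    congr 2
    exact (funext he).symm
  have := h.change ![gens 0, gens 1, 1] (by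
      rw [eq_top_iff, ← htop]
      refine Subgroup.closure_mono ?_
      rintro _ ⟨i, rfl⟩
      fin_cases i
      · exact ⟨0, rfl⟩
      · exact ⟨1, rfl⟩)
    ![some 0, some 1, none] (fun j i hj => by fin_cases j <;> simp at hj ⊢ <;> subst hj <;> rfl)
    (fun j j' i hj hj' => by fin_cases j <;> fin_cases j' <;> simp at hj hj' ⊢ <;> omega)
  refine this.mono (le_of_eq ?_)
  congr 1

theorem seven_all (n : ℕ) (hn : 5 ≤ n) :
    (∃ gens : Fin 3 → Perm (Fin n), PresOn gens 7) ∧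
      (∃ gens : Fin 3 → alternatingGroup (Fin n), PresOn gens 7) := by
  by_cases h : 10 ≤ n
  · obtain ⟨⟨g, a, -⟩, g', b, -⟩ := large_cases n h
    exact ⟨⟨g, a⟩, g', b⟩
  · obtain ⟨⟨g, a⟩, g', b⟩ := small_cases n (by omega) (by omega)
    obtain ⟨gg, aa⟩ := a.add_trivial
    obtain ⟨gg', bb⟩ := b.add_trivial
    exact ⟨⟨gg, aa.mono (by omega)⟩, gg', bb.mono (by omega)⟩

end Cfsg.Agent.KSG55.Pres
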