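import Cfsg.Agent.KSG55.Pres.Basic

set_option autoImplicit false

/-! Homomorphisms out of a presented group. -/

namespace Cfsg.Agent.KSG55.Pres

/-- A presentation as a list of relators with its universal property. -/
theorem PresOn.exists_hom {G : Type*} [Group G] {k r : ℕ} {gens : Fin k → G} (h : PresOn gens r) :
    ∃ L : List (FreeGroup (Fin k)), L.length ≤ r ∧ (∀ w ∈ L, FreeGroup.lift gens w = 1) ∧
      Subgroup.closure (Set.range gens) = ⊤ ∧
      ∀ (H : Type) [Group H] (U : Fin k → H), (∀ w ∈ L, FreeGroup.lift U w = 1) →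
        ∃ ψ : G →* H, ∀ i, ψ (gens i) = U i := by
  classical
  obtain ⟨rels, hc, e, he⟩ := h
  have heq : FreeGroup.lift gens = e.toMonoidHom.comp (PresentedGroup.mk _) :=
    FreeGroup.ext_hom _ _ fun i => by simp [← he i, PresentedGroup.of]
  refine ⟨rels.toList, by simpa using hc, fun w hw => ?_, ?_, fun H _ U hU => ?_⟩
  · rw [heq, MonoidHom.comp_apply, PresentedGroup.one_of_mem (Finset.mem_coe.mpr (Finset.mem_toList.mp hw)), map_one]
  · rw [← FreeGroup.range_lift_eq_closure, heq, MonoidHom.range_eq_top]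
    exact e.surjective.comp (PresentedGroup.mk_surjective _)
  · have hR : ∀ v ∈ (↑rels : Set (FreeGroup (Fin k))), FreeGroup.lift U v = 1 := fun v hv =>
      hU v (Finset.mem_toList.mpr hv)
    exact ⟨(PresentedGroup.toGroup hR).comp e.symm.toMonoidHom, fun i => by
      simp [← he i, PresentedGroup.toGroup.of]⟩

end Cfsg.Agent.KSG55.Pres

namespace Cfsg.Agent.KSG55.Pres

/-- The universal property, from the injectivity criterion. -/
theorem hom_of_inj {G : Type*} [Group G] {k : ℕ} (gens : Fin k → G) (rels : List (FreeGroup (Fin k)))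
    (hrel : ∀ w ∈ rels, FreeGroup.lift gens w = 1) (hgen : Subgroup.closure (Set.range gens) = ⊤)
    (hinj : ∀ (H : Type) [Group H] (U : Fin k → H) (φ : H →* G), Subgroup.closure (Set.range U) = ⊤ →
      (∀ w ∈ rels, FreeGroup.lift U w = 1) → (∀ i, φ (U i) = gens i) → ∀ x, φ x = 1 → x = 1)
    (H : Type) [Group H] (U : Fin k → H) (hU : ∀ w ∈ rels, FreeGroup.lift U w = 1) :
    ∃ ψ : G →* H, ∀ i, ψ (gens i) = U i := by
  classical
  have hR : ∀ w ∈ ({w | w ∈ rels} : Set (FreeGroup (Fin k))), FreeGroup.lift gens w = 1 := hrel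
  let φ := PresentedGroup.toGroup hR
  have hone : ∀ w ∈ rels,
      FreeGroup.lift (PresentedGroup.of (rels := ({w | w ∈ rels} : Set (FreeGroup (Fin k))))) w = 1 := by
    intro w hw
    have : FreeGroup.lift (PresentedGroup.of (rels := ({w | w ∈ rels} : Set (FreeGroup (Fin k))))) =
        PresentedGroup.mk _ := FreeGroup.ext_hom _ _ fun i => by simp [PresentedGroup.of]
    rw [this]
    exact PresentedGroup.one_of_mem hw
  have inj : Function.Injective φ := (injective_iff_map_eq_one φ).mpr
    (hinj _ PresentedGroup.of φ (PresentedGroup.closure_range_of _) hone fun i => PresentedGroup.toGroup.of hR)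
  have surj : Function.Surjective φ := by
    rw [← MonoidHom.range_eq_top, eq_top_iff, ← hgen, Subgroup.closure_le]
    rintro _ ⟨i, rfl⟩
    exact ⟨PresentedGroup.of i, PresentedGroup.toGroup.of hR⟩
  have hU' : ∀ w ∈ ({w | w ∈ rels} : Set (FreeGroup (Fin k))), FreeGroup.lift U w = 1 := hU
  refine ⟨(PresentedGroup.toGroup hU').comp (MulEquiv.ofBijective φ ⟨inj, surj⟩).symm.toMonoidHom, fun i => ?_⟩
  have : (MulEquiv.ofBijective φ ⟨inj, surj⟩).symm (gens i) = PresentedGroup.of i := by
    rw [MulEquiv.symm_apply_eq]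
    exact (PresentedGroup.toGroup.of hR).symm
  simp [this, PresentedGroup.toGroup.of]

/-- Renumbering the generators. -/
theorem PresOn.reindex {G : Type*} [Group G] {k l r : ℕ} {gens : Fin k → G} (h : PresOn gens r)
    (e : Fin l ≃ Fin k) : PresOn (gens ∘ e) r := by
  have htop : Subgroup.closure (Set.range gens) = ⊤ := by
    obtain ⟨L, -, -, ht, -⟩ := h.exists_hom
    exact ht
  have := h.change (gens ∘ e) (by rw [Set.range_comp, e.surjective.range_eq, Set.image_univ, htop])
    (fun j => some (e j)) (fun j i hj => by simp at hj; simp [hj])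
    (fun j j' i hj hj' => by simp at hj hj'; exact e.injective (hj.trans hj'.symm))
  simpa using this

/-- Transport along an isomorphism. -/
theorem PresOn.map {G G' : Type*} [Group G] [Group G'] {k r : ℕ} {gens : Fin k → G} (h : PresOn gens r)
    (f : G ≃* G') : PresOn (fun i => f (gens i)) r := by
  obtain ⟨rels, hc, e, he⟩ := h
  exact ⟨rels, hc, e.trans f, fun i => by simp [he i]⟩

end Cfsg.Agent.KSG55.Pres
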