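import Cfsg.Agent.KSG55.Pres.Carmichael

set_option autoImplicit false

/-! The alternating group on a subset. -/

namespace Cfsg.Agent.KSG55.Pres

open Equiv

variable {α : Type*} [Fintype α] [DecidableEq α]

/-- Even permutations supported in `T`. -/
def altOn (T : Finset α) : Subgroup (Perm α) where
  carrier := {σ | Perm.sign σ = 1 ∧ ∀ x, x ∉ T → σ x = x}
  one_mem' := ⟨map_one _, fun _ _ => rfl⟩
  mul_mem' := fun {σ τ} hσ hτ => ⟨by rw [map_mul, hσ.1, hτ.1, mul_one], fun x hx => by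
    rw [Perm.mul_apply, hτ.2 x hx, hσ.2 x hx]⟩
  inv_mem' := fun {σ} hσ => ⟨by rw [map_inv, hσ.1, inv_one], fun x hx => by
    rw [Perm.inv_eq_iff_eq]; exact (hσ.2 x hx).symm⟩

theorem mem_altOn {T : Finset α} {σ : Perm α} :
    σ ∈ altOn T ↔ Perm.sign σ = 1 ∧ ∀ x, x ∉ T → σ x = x := Iff.rfl

theorem altOn_mono {S T : Finset α} (h : S ⊆ T) : altOn S ≤ altOn T :=
  fun _ hσ => ⟨hσ.1, fun x hx => hσ.2 x fun hS => hx (h hS)⟩

theorem altOn_univ : altOn (Finset.univ : Finset α) = alternatingGroup α := by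
  ext σ
  simp [mem_altOn, Perm.mem_alternatingGroup]

theorem map_ofSubtype_alt (T : Finset α) :
    (alternatingGroup {x // x ∈ T}).map (Perm.ofSubtype : Perm {x // x ∈ T} →* Perm α) = altOn T := by
  ext σ
  constructor
  · rintro ⟨τ, hτ, rfl⟩
    exact ⟨by rw [Perm.sign_ofSubtype]; exact Perm.mem_alternatingGroup.mp hτ,
      fun x hx => Perm.ofSubtype_apply_of_not_mem τ hx⟩
  · rintro ⟨h1, h2⟩
    have hinv : ∀ x, σ x ∈ T ↔ x ∈ T := fun x => by
      by_cases hx : x ∈ T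
      · refine iff_of_true ?_ hx
        by_contra hc
        exact hc (by rw [σ.injective (h2 _ hc)]; exact hx)
      · rw [h2 x hx]
    have hof : Perm.ofSubtype (σ.subtypePerm hinv) = σ :=
      Perm.ofSubtype_subtypePerm hinv (fun x hx => by_contra fun hc => hx (h2 x hc))
    refine ⟨σ.subtypePerm hinv, ?_, hof⟩
    have := Perm.sign_ofSubtype (σ.subtypePerm hinv)
    rw [hof, h1] at this
    exact Perm.mem_alternatingGroup.mpr this.symm

theorem two_mul_card_altOn {T : Finset α} (hT : 2 ≤ T.card) : 2 * Nat.card (altOn T) = T.card.factorial := by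
  haveI : Nontrivial {x // x ∈ T} := Fintype.one_lt_card_iff_nontrivial.mp (by simp; omega)
  rw [← map_ofSubtype_alt, Subgroup.card_map_of_injective Perm.ofSubtype_injective,
    two_mul_nat_card_alternatingGroup, Nat.card_perm, Nat.card_eq_fintype_card, Fintype.card_coe]

theorem commute_of_disjoint {σ τ : Perm α} {S T : Finset α} (hσ : σ ∈ altOn S) (hτ : τ ∈ altOn T)
    (h : Disjoint S T) : Commute σ τ :=
  Perm.Disjoint.commute fun x => by
    by_cases hx : x ∈ S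
    · exact Or.inr (hτ.2 x (Finset.disjoint_left.mp h hx))
    · exact Or.inl (hσ.2 x hx)

theorem cyc3_mem_altOn {T : Finset α} {a b c : α} (hab : a ≠ b) (hbc : b ≠ c) (ha : a ∈ T) (hb : b ∈ T)
    (hc : c ∈ T) : cyc3 a b c ∈ altOn T :=
  ⟨sign_cyc3 hab hbc, fun x hx => cyc3_of_ne (fun e => hx (e ▸ ha)) (fun e => hx (e ▸ hb)) (fun e => hx (e ▸ hc))⟩

theorem cyc3_any_mem {H : Subgroup (Perm α)} {a b : α} (hab : a ≠ b) {T : Finset α}
    (h : ∀ j ∈ T, j ≠ a → j ≠ b → cyc3 a b j ∈ H) {i j l : α} (hi : i ∈ T) (hj : j ∈ T) (hl : l ∈ T)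
    (hij : i ≠ j) (hil : i ≠ l) (hjl : j ≠ l) : cyc3 i j l ∈ H := by
  have h' : ∀ j ∈ T, j ≠ a → j ≠ b → cyc3 b a j ∈ H := fun j hj ha hb => by
    rw [← cyc3_inv hab (Ne.symm ha) (Ne.symm hb)]; exact inv_mem (h j hj ha hb)
  have conj : ∀ {g : Perm α}, g ∈ H → ∀ {x y z : α}, cyc3 x y z ∈ H → cyc3 (g x) (g y) (g z) ∈ H :=
    fun {g} hg {x y z} hm => by rw [← cyc3_conj]; exact mul_mem (mul_mem hg hm) (inv_mem hg)
  -- `a` in first place
  have ha : ∀ i ∈ T, ∀ j ∈ T, i ≠ a → j ≠ a → i ≠ j → cyc3 a i j ∈ H := by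
    intro i hi j hj hia hja hij
    by_cases hib : i = b
    · subst hib; exact h j hj hja hij.symm
    by_cases hjb : j = b
    · subst hjb
      rw [← cyc3_cycle hab.symm hij.symm hia.symm]
      exact h' i hi hia hib
    have e := conj (h' i hi hia hib) (h' j hj hja hjb)
    rw [cyc3_left (Ne.symm hab) (Ne.symm hib), cyc3_mid (Ne.symm hib) (Ne.symm hia),
      cyc3_of_ne hjb hja (Ne.symm hij)] at e
    exact e
  by_cases hia : i = a
  · subst hia; exact ha j hj l hl hij.symm hil.symm hjl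
  by_cases hja : j = a
  · subst hja; rw [cyc3_cycle hij hil hjl]; exact ha l hl i hi hjl.symm hia hil.symm
  by_cases hla : l = a
  · subst hla; rw [← cyc3_cycle hil.symm hjl.symm hij]; exact ha i hi j hj hia hja hij
  -- move `a` to `l`
  have e := conj (ha l hl i hi hla hia hil.symm) (ha i hi j hj hia hja hij)
  rw [cyc3_left (Ne.symm hla) (Ne.symm hia), cyc3_right, cyc3_of_ne hja hjl hij.symm] at e
  -- `(l a j)`; move `a` to `i`
  have e2 := conj (ha i hi l hl hia hla hil) (ha j hj i hi hja hia hij.symm)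
  rw [cyc3_left (Ne.symm hia) (Ne.symm hla), cyc3_of_ne hja hij.symm hjl, cyc3_mid (Ne.symm hla) hil] at e2
  exact e2

theorem altOn_le {H : Subgroup (Perm α)} {a b : α} (hab : a ≠ b) {T : Finset α}
    (h : ∀ j ∈ T, j ≠ a → j ≠ b → cyc3 a b j ∈ H) : altOn T ≤ H := by
  rw [← map_ofSubtype_alt, ← Perm.closure_three_cycles_eq_alternating, MonoidHom.map_closure, Subgroup.closure_le]
  rintro _ ⟨τ, hτ, rfl⟩
  obtain ⟨x, hx⟩ : τ.support.Nonempty := Finset.card_pos.mp (by rw [hτ.card_support]; norm_num)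
  have hτ' := (hτ.eq_swap_mul_swap_iff_mem_support).mpr hx
  have hn := (hτ.nodup_iff_mem_support).mpr hx
  simp only [List.nodup_cons, List.mem_cons, List.not_mem_nil, or_false, not_or, List.nodup_nil, and_true,
    not_false_eq_true] at hn
  rw [hτ', map_mul, Perm.ofSubtype_swap_eq, Perm.ofSubtype_swap_eq]
  exact cyc3_any_mem hab h x.2 (τ x).2 (τ (τ x)).2 (fun e => hn.1.1 (Subtype.ext e))
    (fun e => hn.1.2 (Subtype.ext e)) (fun e => hn.2 (Subtype.ext e))

theorem commutator_altOn {T : Finset α} (hT : 5 ≤ T.card) : ⁅altOn T, altOn T⁆ = altOn T := by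
  rw [← map_ofSubtype_alt, ← Subgroup.map_commutator,
    commutator_alternatingGroup_eq_self (by rw [Nat.card_eq_fintype_card, Fintype.card_coe]; exact hT)]

/-- Moving the third point along a permutation that fixes the pair `{a, b}`. -/
theorem cyc3_step {H : Subgroup (Perm α)} {a b o : α} (hab : a ≠ b) (hoa : o ≠ a) (hob : o ≠ b)
    {q : Perm α} (hq : q ∈ H) (hfix : (q a = a ∧ q b = b) ∨ (q a = b ∧ q b = a)) (ho : cyc3 a b o ∈ H) :
    cyc3 a b (q o) ∈ H := by
  have e := mul_mem (mul_mem hq ho) (inv_mem hq)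
  rw [cyc3_conj] at e
  rcases hfix with ⟨h1, h2⟩ | ⟨h1, h2⟩
  · rwa [h1, h2] at e
  · rw [h1, h2] at e
    have ne1 : q o ≠ b := h1 ▸ fun e => hoa (q.injective e)
    have ne2 : q o ≠ a := h2 ▸ fun e => hob (q.injective e)
    rw [← cyc3_inv hab.symm ne1.symm ne2.symm]
    exact inv_mem e

theorem cyc3_orbit {H : Subgroup (Perm α)} {a b o : α} (hab : a ≠ b) (hoa : o ≠ a) (hob : o ≠ b)
    {q : Perm α} (hq : q ∈ H) (hfix : (q a = a ∧ q b = b) ∨ (q a = b ∧ q b = a)) (ho : cyc3 a b o ∈ H) :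
    ∀ k : ℕ, cyc3 a b ((q ^ k) o) ∈ H ∧ (q ^ k) o ≠ a ∧ (q ^ k) o ≠ b := by
  intro k
  induction k with
  | zero => exact ⟨ho, hoa, hob⟩
  | succ k ih =>
    rw [pow_succ', Perm.mul_apply]
    refine ⟨cyc3_step hab ih.2.1 ih.2.2 hq hfix ih.1, ?_, ?_⟩
    · rcases hfix with ⟨h1, h2⟩ | ⟨h1, h2⟩
      · exact fun e => ih.2.1 (q.injective (e.trans h1.symm))
      · exact fun e => ih.2.2 (q.injective (e.trans h2.symm))
    · rcases hfix with ⟨h1, h2⟩ | ⟨h1, h2⟩
      · exact fun e => ih.2.2 (q.injective (e.trans h2.symm))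
      · exact fun e => ih.2.1 (q.injective (e.trans h1.symm))

end Cfsg.Agent.KSG55.Pres
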