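import Mathlib

set_option autoImplicit false

/-! Presentations with few generators and relations: definition, criterion, change of generators. -/

namespace Cfsg.Agent.KSG55.Pres

/-- `gens` generate `G` and `G` has a presentation on them with at most `r` relations. -/
def PresOn {G : Type*} [Group G] {k : ℕ} (gens : Fin k → G) (r : ℕ) : Prop :=
  ∃ rels : Finset (FreeGroup (Fin k)), rels.card ≤ r ∧
    ∃ e : PresentedGroup (↑rels : Set (FreeGroup (Fin k))) ≃* G, ∀ i, e (PresentedGroup.of i) = gens i

theorem PresOn.mono {G : Type*} [Group G] {k r r' : ℕ} {gens : Fin k → G} (h : PresOn gens r) (hr : r ≤ r') :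
    PresOn gens r' := by
  obtain ⟨rels, hc, h⟩ := h
  exact ⟨rels, hc.trans hr, h⟩

theorem PresOn.exists_iso {G : Type*} [Group G] {k r : ℕ} {gens : Fin k → G} (h : PresOn gens r) :
    ∃ rels : Finset (FreeGroup (Fin k)), rels.card ≤ r ∧
      Nonempty (PresentedGroup (↑rels : Set (FreeGroup (Fin k))) ≃* G) := by
  obtain ⟨rels, hc, e, -⟩ := h
  exact ⟨rels, hc, ⟨e⟩⟩

/-- The criterion. -/
theorem presOn_of_inj {G : Type*} [Group G] {k r : ℕ} (gens : Fin k → G)
    (rels : List (FreeGroup (Fin k))) (hlen : rels.length ≤ r)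
    (hrel : ∀ w ∈ rels, FreeGroup.lift gens w = 1) (hgen : Subgroup.closure (Set.range gens) = ⊤)
    (hinj : ∀ (H : Type) [Group H] (U : Fin k → H) (φ : H →* G), Subgroup.closure (Set.range U) = ⊤ →
      (∀ w ∈ rels, FreeGroup.lift U w = 1) → (∀ i, φ (U i) = gens i) → ∀ x, φ x = 1 → x = 1) :
    PresOn gens r := by
  classical
  refine ⟨rels.toFinset, (List.toFinset_card_le rels).trans hlen, ?_⟩
  have hR : ∀ w ∈ (↑rels.toFinset : Set (FreeGroup (Fin k))), FreeGroup.lift gens w = 1 := fun w hw =>
    hrel w (List.mem_toFinset.mp hw)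
  let φ := PresentedGroup.toGroup hR
  have hU : ∀ w ∈ rels,
      FreeGroup.lift (PresentedGroup.of (rels := (↑rels.toFinset : Set (FreeGroup (Fin k))))) w = 1 := by
    intro w hw
    have : FreeGroup.lift (PresentedGroup.of (rels := (↑rels.toFinset : Set (FreeGroup (Fin k))))) =
        PresentedGroup.mk _ := FreeGroup.ext_hom _ _ fun i => by simp [PresentedGroup.of]
    rw [this]
    exact PresentedGroup.one_of_mem (List.mem_toFinset.mpr hw)
  have inj : Function.Injective φ := (injective_iff_map_eq_one φ).mpr
    (hinj _ PresentedGroup.of φ (PresentedGroup.closure_range_of _) hU fun i => PresentedGroup.toGroup.of hR)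
  have surj : Function.Surjective φ := by
    rw [← MonoidHom.range_eq_top, eq_top_iff, ← hgen, Subgroup.closure_le]
    rintro _ ⟨i, rfl⟩
    exact ⟨PresentedGroup.of i, PresentedGroup.toGroup.of hR⟩
  exact ⟨MulEquiv.ofBijective φ ⟨inj, surj⟩, fun i => PresentedGroup.toGroup.of hR⟩

/-- Change of generators: `extra` indexes the new generators that need a defining relation. -/
theorem PresOn.change {G : Type*} [Group G] {k r : ℕ} {gens : Fin k → G} (h : PresOn gens r)
    {l : ℕ} (new : Fin l → G) (hgen : Subgroup.closure (Set.range new) = ⊤)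
    (keep : Fin l → Option (Fin k)) (hkeep : ∀ j i, keep j = some i → new j = gens i)
    (hinj : ∀ j j' i, keep j = some i → keep j' = some i → j = j') :
    PresOn new (r + (Finset.univ.filter fun j => keep j = none).card) := by
  classical
  obtain ⟨rels, hc, e, he⟩ := h
  have hex : ∀ i, ∃ W : FreeGroup (Fin l), FreeGroup.lift new W = gens i ∧
      ∀ j, keep j = some i → W = FreeGroup.of j := fun i => by
    by_cases hi : ∃ j, keep j = some i
    · obtain ⟨j, hj⟩ := hi
      exact ⟨FreeGroup.of j, by rw [FreeGroup.lift_apply_of, hkeep j i hj],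
        fun j' hj' => by rw [hinj j' j i hj' hj]⟩
    · obtain ⟨W, hW⟩ : gens i ∈ (FreeGroup.lift new).range := by
        rw [FreeGroup.range_lift_eq_closure, hgen]; trivial
      exact ⟨W, hW, fun j hj => absurd ⟨j, hj⟩ hi⟩
  choose W hW hWkeep using hex
  have hA : ∀ j, ∃ A : FreeGroup (Fin k), FreeGroup.lift gens A = new j := fun j => by
    obtain ⟨x, hx⟩ := e.surjective (new j)
    obtain ⟨A, rfl⟩ := PresentedGroup.mk_surjective _ x
    refine ⟨A, hx ▸ ?_⟩
    have : FreeGroup.lift gens = e.toMonoidHom.comp (PresentedGroup.mk _) :=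
      FreeGroup.ext_hom _ _ fun i => by simp [← he i, PresentedGroup.of]
    rw [this]; rfl
  choose A hA using hA
  refine presOn_of_inj new
    ((rels.toList.map (FreeGroup.lift W)) ++ ((Finset.univ.filter fun j => keep j = none).toList.map
      fun j => FreeGroup.lift W (A j) * (FreeGroup.of j)⁻¹)) ?_ ?_ hgen ?_
  · simp [Finset.length_toList]; exact hc
  · have hc1 : ∀ w, FreeGroup.lift new (FreeGroup.lift W w) = FreeGroup.lift gens w := fun w => by
      rw [show FreeGroup.lift gens = (FreeGroup.lift new).comp (FreeGroup.lift W) from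
        FreeGroup.ext_hom _ _ fun i => by simp [hW i]]
      rfl
    intro w hw
    simp only [List.mem_append, List.mem_map, Finset.mem_toList] at hw
    rcases hw with ⟨v, hv, rfl⟩ | ⟨j, -, rfl⟩
    · rw [hc1, show FreeGroup.lift gens = e.toMonoidHom.comp (PresentedGroup.mk _) from
        FreeGroup.ext_hom _ _ fun i => by simp [← he i, PresentedGroup.of]]
      show e (PresentedGroup.mk _ v) = 1
      rw [PresentedGroup.one_of_mem (Finset.mem_coe.mpr hv), map_one]
    · rw [map_mul, hc1, hA, map_inv, FreeGroup.lift_apply_of, mul_inv_cancel]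
  · intro H _ U φ hU hrel hφ x hx
    have hR : ∀ v ∈ (↑rels : Set (FreeGroup (Fin k))),
        FreeGroup.lift (fun i => FreeGroup.lift U (W i)) v = 1 := by
      intro v hv
      rw [show FreeGroup.lift (fun i => FreeGroup.lift U (W i)) = (FreeGroup.lift U).comp (FreeGroup.lift W) from
        FreeGroup.ext_hom _ _ fun i => by simp]
      exact hrel _ (List.mem_append_left _ (List.mem_map_of_mem (Finset.mem_toList.mpr hv)))
    let ψ := PresentedGroup.toGroup hR
    have hcomp : φ.comp ψ = e.toMonoidHom := by
      refine PresentedGroup.ext fun i => ?_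
      simp only [MonoidHom.comp_apply, ψ, PresentedGroup.toGroup.of, MulEquiv.coe_toMonoidHom, he]
      rw [show φ (FreeGroup.lift U (W i)) = FreeGroup.lift new (W i) from
        DFunLike.congr_fun (FreeGroup.ext_hom (φ.comp (FreeGroup.lift U)) (FreeGroup.lift new)
          fun j => by simp [hφ j]) (W i), hW]
    have hsurj : ∀ j, U j ∈ ψ.range := fun j => by
      rcases hk : keep j with _ | i
      · refine ⟨PresentedGroup.mk _ (A j), ?_⟩
        have h1 := hrel (FreeGroup.lift W (A j) * (FreeGroup.of j)⁻¹) (List.mem_append_right _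
          (List.mem_map.mpr ⟨j, by simp [hk], rfl⟩))
        rw [map_mul, map_inv, FreeGroup.lift_apply_of, mul_inv_eq_one] at h1
        rw [← h1]
        exact DFunLike.congr_fun (FreeGroup.ext_hom (ψ.comp (PresentedGroup.mk _))
          ((FreeGroup.lift U).comp (FreeGroup.lift W))
          fun i => by
            simp only [MonoidHom.comp_apply, FreeGroup.lift_apply_of]
            exact PresentedGroup.toGroup.of hR) (A j)
      · exact ⟨PresentedGroup.of i, by simp [ψ, PresentedGroup.toGroup.of, hWkeep i j hk]⟩
    have hs : ψ.range = ⊤ := by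
      rw [eq_top_iff, ← hU, Subgroup.closure_le]
      rintro _ ⟨j, rfl⟩; exact hsurj j
    obtain ⟨y, rfl⟩ := (MonoidHom.range_eq_top.mp hs) x
    have : e y = 1 := by rw [← MulEquiv.coe_toMonoidHom, ← hcomp]; exact hx
    rw [e.map_eq_one_iff.mp this, map_one]

/-- Any generating pair. -/
theorem PresOn.pair {G : Type*} [Group G] {k r : ℕ} {gens : Fin k → G} (h : PresOn gens r) (a b : G)
    (hgen : Subgroup.closure ({a, b} : Set G) = ⊤) : PresOn ![a, b] (r + 2) := by
  have hr : Set.range ![a, b] = {a, b} := by simp [Matrix.range_cons, Matrix.range_empty, Set.pair_comm]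
  simpa using h.change ![a, b] (by rw [hr, hgen]) (fun _ => none) (by simp) (by simp)

/-- A generating pair containing one of the generators. -/
theorem PresOn.pair_keep {G : Type*} [Group G] {k r : ℕ} {gens : Fin k → G} (h : PresOn gens r) (i : Fin k) (b : G)
    (hgen : Subgroup.closure ({gens i, b} : Set G) = ⊤) : PresOn ![gens i, b] (r + 1) := by
  have hr : Set.range ![gens i, b] = {gens i, b} := by simp [Matrix.range_cons, Matrix.range_empty, Set.pair_comm]
  have := h.change ![gens i, b] (by rw [hr, hgen]) ![some i, none]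
    (fun j i' hj => by fin_cases j <;> simp at hj ⊢; rw [hj])
    (fun j j' i' hj hj' => by fin_cases j <;> fin_cases j' <;> simp at hj hj' ⊢)
  refine this.mono (le_of_eq ?_)
  rw [Finset.filter_congr (q := fun j => j = 1) (fun j _ => by fin_cases j <;> simp), Finset.filter_eq']
  simp

end Cfsg.Agent.KSG55.Pres
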