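import Mathlib

set_option autoImplicit false

/-! Carmichael's presentation of the alternating groups, as a bound on the order. -/

namespace Cfsg.Agent.KSG55.Pres

open Equiv

/-- The 3-cycle `a ↦ b ↦ c ↦ a`. -/
def cyc3 {α : Type*} [DecidableEq α] (a b c : α) : Perm α := swap a b * swap b c

section

variable {α : Type*} [DecidableEq α] {a b c : α}

theorem cyc3_left (hab : a ≠ b) (hac : a ≠ c) : cyc3 a b c a = b := by
  simp [cyc3, swap_apply_of_ne_of_ne hab hac]

theorem cyc3_mid (hac : a ≠ c) (hbc : b ≠ c) : cyc3 a b c b = c := by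
  simp [cyc3, swap_apply_of_ne_of_ne hac.symm hbc.symm]

theorem cyc3_right : cyc3 a b c c = a := by simp [cyc3]

theorem cyc3_of_ne {x : α} (ha : x ≠ a) (hb : x ≠ b) (hc : x ≠ c) : cyc3 a b c x = x := by
  simp [cyc3, swap_apply_of_ne_of_ne hb hc, swap_apply_of_ne_of_ne ha hb]

theorem cyc3_cycle (hab : a ≠ b) (hac : a ≠ c) (hbc : b ≠ c) : cyc3 a b c = cyc3 b c a := by
  ext x
  by_cases h1 : x = a
  · subst h1; rw [cyc3_left hab hac, cyc3_right]
  by_cases h2 : x = b
  · subst h2; rw [cyc3_mid hac hbc, cyc3_left hbc hab.symm]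
  by_cases h3 : x = c
  · subst h3; rw [cyc3_right, cyc3_mid hab.symm hac.symm]
  rw [cyc3_of_ne h1 h2 h3, cyc3_of_ne h2 h3 h1]

theorem cyc3_inv (hab : a ≠ b) (hac : a ≠ c) (hbc : b ≠ c) : (cyc3 a b c)⁻¹ = cyc3 b a c := by
  refine inv_eq_of_mul_eq_one_right (Equiv.ext fun x => ?_)
  simp only [Perm.mul_apply, Perm.one_apply]
  by_cases h1 : x = a
  · subst h1; rw [cyc3_mid hbc hac, cyc3_right]
  by_cases h2 : x = b
  · subst h2; rw [cyc3_left hab.symm hbc, cyc3_left hab hac]
  by_cases h3 : x = c
  · subst h3; rw [cyc3_right, cyc3_mid hac hbc]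
  simp [cyc3_of_ne h2 h1 h3, cyc3_of_ne h1 h2 h3]

theorem cyc3_conj (g : Perm α) : g * cyc3 a b c * g⁻¹ = cyc3 (g a) (g b) (g c) := by
  rw [cyc3, cyc3, swap_apply_apply, swap_apply_apply]
  group

theorem sign_cyc3 [Fintype α] (hab : a ≠ b) (hbc : b ≠ c) : Perm.sign (cyc3 a b c) = 1 := by
  simp [cyc3, Perm.sign_swap hab, Perm.sign_swap hbc]

theorem cyc3_cube (hab : a ≠ b) (hac : a ≠ c) (hbc : b ≠ c) : cyc3 a b c ^ 3 = 1 := by
  ext x
  simp only [pow_succ, pow_zero, one_mul, Perm.mul_apply, Perm.one_apply]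
  by_cases h1 : x = a
  · subst h1; rw [cyc3_left hab hac, cyc3_mid hac hbc, cyc3_right]
  by_cases h2 : x = b
  · subst h2; rw [cyc3_mid hac hbc, cyc3_right, cyc3_left hab hac]
  by_cases h3 : x = c
  · subst h3; rw [cyc3_right, cyc3_left hab hac, cyc3_mid hac hbc]
  simp [cyc3_of_ne h1 h2 h3]

theorem cyc3_pair {i j : α} (hab : a ≠ b) (hai : a ≠ i) (haj : a ≠ j) (hbi : b ≠ i) (hbj : b ≠ j) (hij : i ≠ j) :
    (cyc3 a b i * cyc3 a b j) ^ 2 = 1 := by
  ext x
  simp only [pow_two, Perm.mul_apply, Perm.one_apply]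
  by_cases h1 : x = a
  · subst h1; rw [cyc3_left hab haj, cyc3_mid hai hbi, cyc3_of_ne hai.symm hbi.symm hij, cyc3_right]
  by_cases h2 : x = b
  · subst h2; rw [cyc3_mid haj hbj, cyc3_of_ne haj.symm hbj.symm (Ne.symm hij), cyc3_right, cyc3_left hab hai]
  by_cases h3 : x = i
  · subst h3; rw [cyc3_of_ne hai.symm hbi.symm hij, cyc3_right, cyc3_left hab haj, cyc3_mid hai hbi]
  by_cases h4 : x = j
  · subst h4; rw [cyc3_right, cyc3_left hab hai, cyc3_mid haj hbj, cyc3_of_ne haj.symm hbj.symm (Ne.symm hij)]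
  simp [cyc3_of_ne h1 h2 h4, cyc3_of_ne h1 h2 h3]

end

variable {G : Type*} [Group G] {ι : Type*} [DecidableEq ι]

theorem exists_finset_closure (x : ι → G) (s : Finset ι) (h3 : ∀ i ∈ s, x i ^ 3 = 1)
    (h2 : ∀ i ∈ s, ∀ j ∈ s, i ≠ j → (x i * x j) ^ 2 = 1) :
    ∃ T : Finset G, (Subgroup.closure (x '' (s : Set ι)) : Set G) ⊆ T ∧ T.card * 2 ≤ (s.card + 2).factorial := by
  classical
  induction s using Finset.induction_on with
  | empty => exact ⟨{1}, by simp, by simp⟩
  | @insert k s hk ih =>
    obtain ⟨T, hT, hTc⟩ := ih (fun i hi => h3 i (Finset.mem_insert_of_mem hi))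
      (fun i hi j hj => h2 i (Finset.mem_insert_of_mem hi) j (Finset.mem_insert_of_mem hj))
    set H := Subgroup.closure (x '' (s : Set ι)) with hH
    set y := x k with hy
    have xin : ∀ i ∈ s, x i ∈ H := fun i hi => Subgroup.subset_closure ⟨i, hi, rfl⟩
    have y3 : y * y * y = 1 := by rw [← h3 k (Finset.mem_insert_self k s), hy]; simp [pow_succ]
    have yinv : y⁻¹ = y * y := inv_eq_of_mul_eq_one_right (by rw [← mul_assoc, y3])
    have x3 : ∀ i ∈ s, x i * x i * x i = 1 := fun i hi => by
      rw [← h3 i (Finset.mem_insert_of_mem hi)]; simp [pow_succ]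
    have xy : ∀ i ∈ s, x i * y = y⁻¹ * (x i)⁻¹ := fun i hi => by
      have h := h2 i (Finset.mem_insert_of_mem hi) k (Finset.mem_insert_self k s) (fun e => hk (e ▸ hi))
      rw [pow_two] at h
      rw [← mul_inv_rev]
      exact eq_inv_of_mul_eq_one_left h
    have yx : ∀ i ∈ s, y * x i = (x i)⁻¹ * y⁻¹ := fun i hi => by
      have h := h2 k (Finset.mem_insert_self k s) i (Finset.mem_insert_of_mem hi) (fun e => hk (e ▸ hi))
      rw [pow_two] at h
      rw [← mul_inv_rev]
      exact eq_inv_of_mul_eq_one_left h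
    let reps : Finset G := insert 1 (insert y (insert (y * y) (s.image fun i => y * y * x i)))
    let S : Set G := {g | ∃ h ∈ H, ∃ r ∈ reps, g = h * r}
    have r1 : (1 : G) ∈ reps := by simp [reps]
    have r2 : y ∈ reps := by simp [reps]
    have r3 : y * y ∈ reps := by simp [reps]
    have r4 : ∀ i ∈ s, y * y * x i ∈ reps := fun i hi => by
      simp only [reps, Finset.mem_insert, Finset.mem_image]
      exact Or.inr (Or.inr (Or.inr ⟨i, hi, rfl⟩))
    have step : ∀ g ∈ S, ∀ j ∈ insert k s, g * x j ∈ S := by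
      rintro _ ⟨h, hh, r, hr, rfl⟩ j hj
      simp only [reps, Finset.mem_insert, Finset.mem_image] at hr
      rcases Finset.mem_insert.mp hj with rfl | hj
      · rcases hr with rfl | rfl | rfl | ⟨i, hi, rfl⟩
        · exact ⟨h, hh, y, r2, by simp [hy]⟩
        · exact ⟨h, hh, y * y, r3, by simp [hy, mul_assoc]⟩
        · exact ⟨h, hh, 1, r1, by rw [mul_one, mul_assoc h, show y * y * x j = 1 from y3, mul_one]⟩
        · refine ⟨h * (x i)⁻¹, mul_mem hh (inv_mem (xin i hi)), y * y * x i, r4 i hi, ?_⟩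
          -- y⁻¹ x y = y⁻² x⁻¹ and y x⁻¹ = x⁻¹ y⁻¹ x
          have e : y * y * x i * y = (x i)⁻¹ * (y * y * x i) := by
            rw [mul_assoc (y * y), xy i hi, ← mul_assoc, mul_inv_cancel_right, ← yinv]
            have e2 : y * x i * x i = (x i)⁻¹ * (y⁻¹ * x i) := by rw [yx i hi, mul_assoc]
            rw [← e2, mul_assoc]
            congr 1
            exact inv_eq_of_mul_eq_one_left (x3 i hi)
          calc h * (y * y * x i) * x j = h * (y * y * x i * y) := by rw [hy, mul_assoc]
            _ = _ := by rw [e]; simp only [mul_assoc]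
      · rcases hr with rfl | rfl | rfl | ⟨i, hi, rfl⟩
        · exact ⟨h * x j, mul_mem hh (xin j hj), 1, r1, by simp⟩
        · refine ⟨h * (x j)⁻¹, mul_mem hh (inv_mem (xin j hj)), y * y, r3, ?_⟩
          rw [mul_assoc h, yx j hj, yinv]; group
        · exact ⟨h, hh, _, r4 j hj, by group⟩
        · by_cases hij : i = j
          · subst hij
            refine ⟨h * x i, mul_mem hh (xin i hi), y, r2, ?_⟩
            have e : y * y * x i * x i = x i * y := by
              rw [← yinv, mul_assoc, show x i * x i = (x i)⁻¹ from (inv_eq_of_mul_eq_one_left (x3 i hi)).symm, xy i hi]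
            rw [mul_assoc h, e, mul_assoc]
          · refine ⟨h * (x j * (x i)⁻¹), mul_mem hh (mul_mem (xin j hj) (inv_mem (xin i hi))), _, r4 i hi, ?_⟩
            have hp := h2 i (Finset.mem_insert_of_mem hi) j (Finset.mem_insert_of_mem hj) hij
            have w : x i * x j * (x i)⁻¹ = (x j)⁻¹ * x i := by
              rw [pow_two] at hp
              rw [eq_inv_of_mul_eq_one_left hp, mul_inv_rev, mul_assoc]
              congr 1
              rw [← mul_inv_rev, inv_eq_of_mul_eq_one_left]
              exact x3 i hi |> fun e => by rw [← mul_assoc]; exact e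
            have e : y * y * x i * x j = x j * (x i)⁻¹ * (y * y * x i) := by
              have e1 : y * y * x i * x j = y⁻¹ * (x i * x j * (x i)⁻¹) * x i := by rw [← yinv]; group
              rw [e1, w, show y⁻¹ * ((x j)⁻¹ * x i) * x i = (y⁻¹ * (x j)⁻¹) * (x i * x i) by group, ← xy j hj,
                show x i * x i = (x i)⁻¹ from (inv_eq_of_mul_eq_one_left (x3 i hi)).symm]
              rw [show x j * (x i)⁻¹ * (y * y * x i) = x j * ((x i)⁻¹ * y⁻¹ * x i) by rw [← yinv]; group,
                ← yx i hi, show y * x i * x i = y * (x i * x i) by group,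
                show x i * x i = (x i)⁻¹ from (inv_eq_of_mul_eq_one_left (x3 i hi)).symm]
              group
            rw [mul_assoc h, e]; group
    have hS : (Subgroup.closure (x '' ((insert k s : Finset ι) : Set ι)) : Set G) ⊆ S := by
      intro g hg
      induction hg using Subgroup.closure_induction_right with
      | one => exact ⟨1, one_mem _, 1, r1, by simp⟩
      | mul_right g z hg hz ih =>
        obtain ⟨j, hj, rfl⟩ := hz
        exact step g ih j hj
      | mul_inv_cancel g z hg hz ih =>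
        obtain ⟨j, hj, rfl⟩ := hz
        have : (x j)⁻¹ = x j * x j :=
          (inv_eq_of_mul_eq_one_left (by rw [← h3 j hj]; simp [pow_succ]))
        rw [this, ← mul_assoc]
        exact step _ (step g ih j hj) j hj
    refine ⟨(T ×ˢ reps).image fun p => p.1 * p.2, fun g hg => ?_, ?_⟩
    · obtain ⟨h, hh, r, hr, rfl⟩ := hS hg
      exact Finset.mem_image.mpr ⟨(h, r), Finset.mem_product.mpr ⟨hT hh, hr⟩, rfl⟩
    · have hr : reps.card ≤ s.card + 3 := by
        refine (Finset.card_insert_le _ _).trans (Nat.add_le_add_right ((Finset.card_insert_le _ _).trans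
          (Nat.add_le_add_right ((Finset.card_insert_le _ _).trans
            (Nat.add_le_add_right Finset.card_image_le 1)) 1)) 1)
      calc ((T ×ˢ reps).image fun p => p.1 * p.2).card * 2 ≤ (T ×ˢ reps).card * 2 :=
            Nat.mul_le_mul_right 2 Finset.card_image_le
        _ = T.card * 2 * reps.card := by rw [Finset.card_product]; ring
        _ ≤ (s.card + 2).factorial * (s.card + 3) := Nat.mul_le_mul hTc hr
        _ = _ := by rw [Finset.card_insert_of_notMem hk, show s.card + 1 + 2 = (s.card + 2) + 1 by omega,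
                      Nat.factorial_succ (s.card + 2)]; ring

/-- A homomorphism onto the 3-cycles `(a b i)` is injective on the group generated by such elements. -/
theorem carmichael {n : ℕ} [Fintype ι] (x : ι → G) (φ : G →* Perm (Fin n)) (a b : Fin n) (pt : ι → Fin n)
    (h3 : ∀ i, x i ^ 3 = 1) (h2 : ∀ i j, i ≠ j → (x i * x j) ^ 2 = 1)
    (hφ : ∀ i, φ (x i) = cyc3 a b (pt i))
    (himage : (Fintype.card ι + 2).factorial ≤ 2 * Nat.card (Subgroup.closure (Set.range fun i => cyc3 a b (pt i)))) :
    ∀ g ∈ Subgroup.closure (Set.range x), φ g = 1 → g = 1 := by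
  classical
  obtain ⟨T, hT, hTc⟩ := exists_finset_closure x Finset.univ (fun i _ => h3 i) (fun i _ j _ => h2 i j)
  rw [Finset.coe_univ, Set.image_univ] at hT
  rw [Finset.card_univ] at hTc
  set N := Subgroup.closure (Set.range x)
  have hfin : (N : Set G).Finite := T.finite_toSet.subset hT
  have : Finite N := hfin.to_subtype
  have hmap : N.map φ = Subgroup.closure (Set.range fun i => cyc3 a b (pt i)) := by
    rw [MonoidHom.map_closure, ← Set.range_comp]
    congr 1
    exact congrArg Set.range (funext hφ)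
  have h1 : Nat.card N ≤ T.card := by
    rw [← Nat.card_eq_finsetCard]
    exact Nat.card_le_card_of_injective (fun g => (⟨g.1, hT g.2⟩ : T)) (fun g g' e => Subtype.ext (by simpa using e))
  have hs : Function.Surjective (φ.subgroupMap N) := φ.subgroupMap_surjective N
  have h4 : Nat.card N = Nat.card (N.map φ) := le_antisymm (by rw [hmap]; omega) (Nat.card_le_card_of_surjective _ hs)
  have hinj : Function.Injective (φ.subgroupMap N) := (Nat.bijective_iff_surjective_and_card _).mpr ⟨hs, h4⟩ |>.1
  intro g hg h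
  have := @hinj ⟨g, hg⟩ 1 (Subtype.ext (by simpa using h))
  exact congrArg Subtype.val this

end Cfsg.Agent.KSG55.Pres
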