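import Cfsg.Agent.KSG55.Pres.Core

set_option autoImplicit false

/-! Gluing two copies of an alternating group along their overlap. -/

namespace Cfsg.Agent.KSG55.Pres

open Equiv

variable {G : Type*} [Group G] {n : ℕ} (φ : G →* Perm (Fin n))

theorem eq_of_inj {P : Subgroup G} (hP : ∀ x ∈ P, φ x = 1 → x = 1) {x y : G} (hx : x ∈ P) (hy : y ∈ P)
    (h : φ x = φ y) : x = y :=
  mul_inv_eq_one.mp (hP _ (mul_mem hx (inv_mem hy)) (by rw [map_mul, map_inv, h, mul_inv_cancel]))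

/-- A set of permutations: the shape of a gluing. -/
structure Shape (n : ℕ) where
  (Ω₁ Ω₂ S : Finset (Fin n))
  g : Perm (Fin n)
  (a b : Fin n)
  (σY σS q e f : Perm (Fin n))
  g_sq : g * g = 1
  g_map : ∀ x, g x ∈ Ω₂ ↔ x ∈ Ω₁
  cover : Ω₁ ∪ Ω₂ = Finset.univ
  S_le : S ⊆ Ω₁ ∩ Ω₂
  two_le_S : 2 ≤ S.card
  a_mem : a ∈ (Ω₁ ∩ Ω₂) \ S
  b_mem : b ∈ (Ω₁ ∩ Ω₂) \ S
  a_ne_b : a ≠ b
  five_le : 5 ≤ (Ω₁ \ S).card
  hσY : σY ∈ altOn ((Ω₁ ∩ Ω₂) \ S)
  hσS : σS ∈ altOn S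
  hq : q ∈ altOn (Ω₁ ∩ Ω₂)
  he : e ∈ altOn (Ω₁ \ S)
  hf : f ∈ altOn ((Ω₂ \ Ω₁) ∪ S)
  genX : altOn (Ω₁ \ S) ≤ Subgroup.closure {σY, e}
  genZ : altOn ((Ω₂ \ Ω₁) ∪ S) ≤ Subgroup.closure {σS, f}
  genM : altOn (Ω₁ ∩ Ω₂) ≤ Subgroup.closure {q, g * q * g}

variable {φ}

/-- The two copies. -/
structure Copies (φ : G →* Perm (Fin n)) (D : Shape n) (P : Subgroup G) (gg : G) : Prop where
  inj : ∀ x ∈ P, φ x = 1 → x = 1
  img : P.map φ = altOn D.Ω₁
  phi_gg : φ gg = D.g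

variable {D : Shape n} {P : Subgroup G} {gg : G}

/-- The second copy. -/
abbrev copy₂ (P : Subgroup G) (gg : G) : Subgroup G := P.map (MulAut.conj gg).toMonoidHom

theorem Copies.inj₂ (C : Copies φ D P gg) : ∀ x ∈ copy₂ P gg, φ x = 1 → x = 1 := by
  rintro _ ⟨y, hy, rfl⟩ h
  simp only [MulEquiv.coe_toMonoidHom, MulAut.conj_apply, map_mul, map_inv, conj_eq_one_iff] at h ⊢
  exact C.inj y hy h

theorem Copies.img₂ (C : Copies φ D P gg) : (copy₂ P gg).map φ = altOn D.Ω₂ := by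
  have hinv : D.g⁻¹ = D.g := inv_eq_of_mul_eq_one_right D.g_sq
  have hg2 : ∀ x, D.g (D.g x) = x := fun x => by rw [← Perm.mul_apply, D.g_sq, Perm.one_apply]
  ext σ
  constructor
  · rintro ⟨_, ⟨y, hy, rfl⟩, rfl⟩
    have h : φ y ∈ altOn D.Ω₁ := C.img ▸ Subgroup.mem_map_of_mem φ hy
    simp only [MulEquiv.coe_toMonoidHom, MulAut.conj_apply, map_mul, map_inv, C.phi_gg]
    refine ⟨by rw [map_mul, map_mul, h.1, map_inv, mul_one, mul_inv_cancel], fun x hx => ?_⟩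
    rw [hinv, Perm.mul_apply, Perm.mul_apply, h.2 (D.g x) (fun hm => hx (by simpa [hg2] using (D.g_map _).mpr hm)), hg2]
  · intro hσ
    have h : D.g * σ * D.g ∈ altOn D.Ω₁ := by
      refine ⟨by rw [map_mul, map_mul, hσ.1, mul_one, ← map_mul, D.g_sq, map_one], fun x hx => ?_⟩
      rw [Perm.mul_apply, Perm.mul_apply, hσ.2 (D.g x) (fun hm => hx ((D.g_map x).mp hm)), hg2]
    rw [← C.img] at h
    obtain ⟨y, hy, hφy⟩ := h
    refine ⟨gg * y * gg⁻¹, ⟨y, hy, rfl⟩, ?_⟩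
    rw [map_mul, map_mul, map_inv, C.phi_gg, hφy, hinv]
    simp only [← mul_assoc, D.g_sq, one_mul]
    rw [mul_assoc, D.g_sq, mul_one]

theorem Copies.lift₁ (C : Copies φ D P gg) {σ : Perm (Fin n)} (h : σ ∈ altOn D.Ω₁) : ∃ x ∈ P, φ x = σ := by
  rw [← C.img] at h; exact h

theorem Copies.lift₂ (C : Copies φ D P gg) {σ : Perm (Fin n)} (h : σ ∈ altOn D.Ω₂) :
    ∃ x ∈ copy₂ P gg, φ x = σ := by
  rw [← C.img₂] at h; exact h

theorem Shape.X_le (D : Shape n) : D.Ω₁ \ D.S ⊆ D.Ω₁ := Finset.sdiff_subset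
theorem Shape.Z_le (D : Shape n) : (D.Ω₂ \ D.Ω₁) ∪ D.S ⊆ D.Ω₂ :=
  Finset.union_subset Finset.sdiff_subset (D.S_le.trans Finset.inter_subset_right)
theorem Shape.disjoint (D : Shape n) : Disjoint (D.Ω₁ \ D.S) ((D.Ω₂ \ D.Ω₁) ∪ D.S) := by
  rw [Finset.disjoint_left]
  intro x hx hx'
  simp only [Finset.mem_union, Finset.mem_sdiff] at hx hx'
  tauto
theorem Shape.ovX (D : Shape n) : (D.Ω₁ ∩ D.Ω₂) \ D.S ⊆ D.Ω₁ \ D.S :=
  Finset.sdiff_subset_sdiff Finset.inter_subset_left le_rfl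

/-- The first commutation. -/
theorem Copies.comm (C : Copies φ D P gg) (hY : D.σY ∈ (P ⊓ copy₂ P gg).map φ) (hS : D.σS ∈ (P ⊓ copy₂ P gg).map φ)
    {ee ff : G} (hee : ee ∈ P) (hff : ff ∈ copy₂ P gg) (eφ : φ ee = D.e) (fφ : φ ff = D.f) (hef : Commute ee ff) :
    ∀ x ∈ P, φ x ∈ altOn (D.Ω₁ \ D.S) → ∀ y ∈ copy₂ P gg, φ y ∈ altOn ((D.Ω₂ \ D.Ω₁) ∪ D.S) → Commute x y := by
  -- everything of the first factor centralizes `ff`
  have h1 : ∀ x ∈ P, φ x ∈ altOn (D.Ω₁ \ D.S) → Commute x ff := by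
    intro x hx hφx
    have hle : altOn (D.Ω₁ \ D.S) ≤ (P ⊓ Subgroup.centralizer {ff}).map φ := by
      refine D.genX.trans ((Subgroup.closure_le _).mpr ?_)
      rintro _ (rfl | rfl)
      · obtain ⟨m, ⟨hm1, hm2⟩, hm⟩ := hY
        refine ⟨m, ⟨hm1, Subgroup.mem_centralizer_singleton_iff.mpr ?_⟩, hm⟩
        refine eq_of_inj φ C.inj₂ (mul_mem hm2 hff) (mul_mem hff hm2) ?_
        rw [map_mul, map_mul, hm, fφ, (commute_of_disjoint (altOn_mono D.ovX D.hσY) D.hf D.disjoint).eq]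
      · exact ⟨ee, ⟨hee, Subgroup.mem_centralizer_singleton_iff.mpr hef.eq⟩, eφ⟩
    obtain ⟨x', ⟨hx', hc⟩, hφ'⟩ := hle hφx
    rw [eq_of_inj φ C.inj hx hx' hφ'.symm]
    exact Subgroup.mem_centralizer_singleton_iff.mp hc
  intro x hx hφx y hy hφy
  have hle : altOn ((D.Ω₂ \ D.Ω₁) ∪ D.S) ≤ (copy₂ P gg ⊓ Subgroup.centralizer {x}).map φ := by
    refine D.genZ.trans ((Subgroup.closure_le _).mpr ?_)
    rintro _ (rfl | rfl)
    · obtain ⟨m, ⟨hm1, hm2⟩, hm⟩ := hS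
      refine ⟨m, ⟨hm2, Subgroup.mem_centralizer_singleton_iff.mpr ?_⟩, hm⟩
      refine eq_of_inj φ C.inj (mul_mem hm1 hx) (mul_mem hx hm1) ?_
      rw [map_mul, map_mul, hm, (commute_of_disjoint hφx (altOn_mono Finset.subset_union_right D.hσS) D.disjoint).eq]
    · exact ⟨ff, ⟨hff, Subgroup.mem_centralizer_singleton_iff.mpr (h1 x hx hφx).eq.symm⟩, fφ⟩
  obtain ⟨y', ⟨hy', hc⟩, hφ'⟩ := hle hφy
  rw [eq_of_inj φ C.inj₂ hy hy' hφ'.symm]
  exact (Subgroup.mem_centralizer_singleton_iff.mp hc).symm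

/-- An involution gives the whole overlap. -/
theorem Copies.overlap (C : Copies φ D P gg) (hgg : gg * gg = 1) {q₁ q₂ : G} (h1 : q₁ ∈ P) (h2 : q₂ ∈ P)
    (hq : gg * q₁ * gg⁻¹ = q₂) (qφ : φ q₂ = D.q) : altOn (D.Ω₁ ∩ D.Ω₂) ≤ (P ⊓ copy₂ P gg).map φ := by
  have hinv : gg⁻¹ = gg := inv_eq_of_mul_eq_one_right hgg
  have hq' : gg * q₂ * gg⁻¹ = q₁ := by
    rw [← hq, hinv]
    simp only [← mul_assoc, hgg, one_mul]
    rw [mul_assoc, hgg, mul_one]
  refine D.genM.trans ((Subgroup.closure_le _).mpr ?_)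
  rintro _ (rfl | rfl)
  · exact ⟨q₂, ⟨h2, q₁, h1, hq⟩, qφ⟩
  · refine ⟨q₁, ⟨h1, q₂, h2, hq'⟩, ?_⟩
    rw [← hq', map_mul, map_mul, map_inv, qφ, C.phi_gg, inv_eq_of_mul_eq_one_right D.g_sq]

/-- Carmichael's presentation applied to the two copies. -/
theorem Copies.alt_inj (C : Copies φ D P gg) (hM : altOn (D.Ω₁ ∩ D.Ω₂) ≤ (P ⊓ copy₂ P gg).map φ)
    (hcomm : ∀ x ∈ P, φ x ∈ altOn (D.Ω₁ \ D.S) → ∀ y ∈ copy₂ P gg,
      φ y ∈ altOn ((D.Ω₂ \ D.Ω₁) ∪ D.S) → Commute x y) :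
    ∀ x ∈ P ⊔ copy₂ P gg, φ x = 1 → x = 1 := by
  classical
  have ha := D.a_mem
  have hb := D.b_mem
  simp only [Finset.mem_sdiff, Finset.mem_inter] at ha hb
  let ι := {j : Fin n // j ≠ D.a ∧ j ≠ D.b}
  have hy : ∀ j : ι, ∃ y, φ y = cyc3 D.a D.b j.1 ∧ (j.1 ∈ D.Ω₁ → y ∈ P) ∧ (j.1 ∈ D.Ω₂ → y ∈ copy₂ P gg) := by
    intro j
    by_cases h1 : j.1 ∈ D.Ω₁
    · by_cases h2 : j.1 ∈ D.Ω₂
      · obtain ⟨m, hm, hm'⟩ := hM (cyc3_mem_altOn (T := D.Ω₁ ∩ D.Ω₂) D.a_ne_b j.2.2.symm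
          (by simp [ha.1]) (by simp [hb.1]) (by simp [h1, h2]))
        exact ⟨m, hm', fun _ => hm.1, fun _ => hm.2⟩
      · obtain ⟨y, hy, hy'⟩ := C.lift₁ (cyc3_mem_altOn D.a_ne_b j.2.2.symm ha.1.1 hb.1.1 h1)
        exact ⟨y, hy', fun _ => hy, fun h => absurd h h2⟩
    · have h2 : j.1 ∈ D.Ω₂ := by
        have := Finset.mem_univ j.1
        rw [← D.cover, Finset.mem_union] at this
        exact this.resolve_left h1
      obtain ⟨y, hy, hy'⟩ := C.lift₂ (cyc3_mem_altOn D.a_ne_b j.2.2.symm ha.1.2 hb.1.2 h2)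
      exact ⟨y, hy', fun h => absurd h h1, fun _ => hy⟩
  choose y yφ y1 y2 using hy
  have hne : ∀ j : ι, D.a ≠ j.1 ∧ D.b ≠ j.1 := fun j => ⟨j.2.1.symm, j.2.2.symm⟩
  have h3 : ∀ j, y j ^ 3 = 1 := fun j => by
    have e : φ (y j ^ 3) = 1 := by rw [map_pow, yφ, cyc3_cube D.a_ne_b (hne j).1 (hne j).2]
    rcases Finset.mem_union.mp (D.cover ▸ Finset.mem_univ j.1) with h | h
    · exact C.inj _ (pow_mem (y1 j h) 3) e
    · exact C.inj₂ _ (pow_mem (y2 j h) 3) e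
  have pφ : ∀ i j, i ≠ j → φ ((y i * y j) ^ 2) = 1 := fun i j hij => by
    rw [map_pow, map_mul, yφ, yφ, cyc3_pair D.a_ne_b (hne i).1 (hne j).1 (hne i).2 (hne j).2
      (fun e => hij (Subtype.ext e))]
  have mixed : ∀ i j : ι, i.1 ∈ D.Ω₁ → i.1 ∉ D.Ω₂ → j.1 ∉ D.Ω₁ → (y i * y j) ^ 2 = 1 := by
    intro i j hi hi' hj
    have hij : i ≠ j := fun e => hj (e ▸ hi)
    have hj2 : j.1 ∈ D.Ω₂ := (Finset.mem_union.mp (D.cover ▸ Finset.mem_univ j.1)).resolve_left hj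
    obtain ⟨s, hs, s', hs', hss⟩ := Finset.one_lt_card.mp D.two_le_S
    have hs1 := Finset.mem_inter.mp (D.S_le hs)
    have hs1' := Finset.mem_inter.mp (D.S_le hs')
    have hjs : j.1 ≠ s := fun e => hj (e ▸ hs1.1)
    have hjs' : j.1 ≠ s' := fun e => hj (e ▸ hs1'.1)
    obtain ⟨w, hw, hwφ⟩ := C.lift₂ (altOn_mono D.Z_le (cyc3_mem_altOn (T := (D.Ω₂ \ D.Ω₁) ∪ D.S) hjs hss
      (Finset.mem_union_left _ (Finset.mem_sdiff.mpr ⟨hj2, hj⟩)) (Finset.mem_union_right _ hs)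
      (Finset.mem_union_right _ hs')))
    let k : ι := ⟨s, fun e => ha.2 (e ▸ hs), fun e => hb.2 (e ▸ hs)⟩
    have hc : Commute (y i) w := by
      refine hcomm _ (y1 i hi) ?_ _ hw ?_
      · rw [yφ]
        exact cyc3_mem_altOn D.a_ne_b (hne i).2 (Finset.mem_sdiff.mpr ⟨ha.1.1, ha.2⟩)
          (Finset.mem_sdiff.mpr ⟨hb.1.1, hb.2⟩)
          (Finset.mem_sdiff.mpr ⟨hi, fun h => hi' (Finset.mem_inter.mp (D.S_le h)).2⟩)
      · rw [hwφ]
        exact cyc3_mem_altOn hjs hss (Finset.mem_union_left _ (Finset.mem_sdiff.mpr ⟨hj2, hj⟩))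
          (Finset.mem_union_right _ hs) (Finset.mem_union_right _ hs')
    have hk : w * y j * w⁻¹ = y k := by
      refine eq_of_inj φ C.inj₂ (mul_mem (mul_mem hw (y2 j hj2)) (inv_mem hw)) (y2 k hs1.2) ?_
      have fa : ∀ t : Fin n, t ∈ D.Ω₁ → t ∉ D.S → cyc3 j.1 s s' t = t := fun t ht hS =>
        cyc3_of_ne (fun e => hj (e ▸ ht)) (fun e => hS (e ▸ hs)) (fun e => hS (e ▸ hs'))
      rw [map_mul, map_mul, map_inv, hwφ, yφ, yφ, cyc3_conj, fa _ ha.1.1 ha.2, fa _ hb.1.1 hb.2,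
        cyc3_left hjs hjs']
    have h4 : (y i * y k) ^ 2 = 1 :=
      C.inj _ (pow_mem (mul_mem (y1 i hi) (y1 k hs1.1)) 2) (pφ i k (fun e => hi' (e ▸ hs1.2)))
    rw [← hk] at h4
    have h5 : y i * (w * y j * w⁻¹) = w * (y i * y j) * w⁻¹ := by
      rw [← mul_assoc, ← mul_assoc, hc.eq, mul_assoc w]
    rw [h5, conj_pow, conj_eq_one_iff] at h4
    exact h4
  have h2 : ∀ i j, i ≠ j → (y i * y j) ^ 2 = 1 := by
    intro i j hij
    have ci := Finset.mem_union.mp (D.cover ▸ Finset.mem_univ i.1)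
    have cj := Finset.mem_union.mp (D.cover ▸ Finset.mem_univ j.1)
    by_cases hi : i.1 ∈ D.Ω₁ <;> by_cases hj : j.1 ∈ D.Ω₁
    · exact C.inj _ (pow_mem (mul_mem (y1 i hi) (y1 j hj)) 2) (pφ i j hij)
    · by_cases hi2 : i.1 ∈ D.Ω₂
      · exact C.inj₂ _ (pow_mem (mul_mem (y2 i hi2) (y2 j (cj.resolve_left hj))) 2) (pφ i j hij)
      · exact mixed i j hi hi2 hj
    · by_cases hj2 : j.1 ∈ D.Ω₂
      · exact C.inj₂ _ (pow_mem (mul_mem (y2 i (ci.resolve_left hi)) (y2 j hj2)) 2) (pφ i j hij)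
      · have h := mixed j i hj hj2 hi
        rw [show y i * y j = (y j)⁻¹ * (y j * y i) * y j by group, pow_two] at *
        calc _ = (y j)⁻¹ * ((y j * y i) * (y j * y i)) * y j := by group
          _ = 1 := by rw [h]; group
    · exact C.inj₂ _ (pow_mem (mul_mem (y2 i (ci.resolve_left hi)) (y2 j (cj.resolve_left hj))) 2) (pφ i j hij)
  set N := Subgroup.closure (Set.range y)
  have hinj : ∀ x ∈ N, φ x = 1 → x = 1 := by
    refine carmichael y φ D.a D.b (fun j => j.1) h3 h2 yφ ?_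
    have hle : altOn Finset.univ ≤ Subgroup.closure (Set.range fun j : ι => cyc3 D.a D.b j.1) :=
      altOn_le D.a_ne_b fun j _ hja hjb => Subgroup.subset_closure ⟨⟨j, hja, hjb⟩, rfl⟩
    have hcard : Fintype.card ι + 2 = n := by
      rw [Fintype.card_subtype]
      have e : (Finset.univ.filter fun j : Fin n => j ≠ D.a ∧ j ≠ D.b) = Finset.univ \ {D.a, D.b} := by
        ext j; simp
      rw [e, Finset.card_sdiff_of_subset (Finset.subset_univ _), Finset.card_pair D.a_ne_b, Finset.card_univ,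
        Fintype.card_fin]
      have := Finset.card_le_univ ({D.a, D.b} : Finset (Fin n))
      rw [Finset.card_pair D.a_ne_b, Fintype.card_fin] at this
      omega
    have h2n : 2 ≤ n := by omega
    have := two_mul_card_altOn (T := (Finset.univ : Finset (Fin n))) (by simpa using h2n)
    rw [Finset.card_univ, Fintype.card_fin] at this
    rw [hcard, ← this]
    exact Nat.mul_le_mul_left 2 (Nat.card_le_card_of_injective _ (Subgroup.inclusion_injective hle))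
  have e1 : P ≤ N := by
    intro x hx
    have hle : altOn D.Ω₁ ≤ (P ⊓ N).map φ := altOn_le D.a_ne_b fun j hj hja hjb =>
      ⟨y ⟨j, hja, hjb⟩, ⟨y1 _ hj, Subgroup.subset_closure ⟨_, rfl⟩⟩, yφ _⟩
    obtain ⟨x', hx', e⟩ := hle (C.img ▸ Subgroup.mem_map_of_mem φ hx)
    rw [eq_of_inj φ C.inj hx hx'.1 e.symm]
    exact hx'.2
  have e2 : copy₂ P gg ≤ N := by
    intro x hx
    have hle : altOn D.Ω₂ ≤ (copy₂ P gg ⊓ N).map φ := altOn_le D.a_ne_b fun j hj hja hjb =>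
      ⟨y ⟨j, hja, hjb⟩, ⟨y2 _ hj, Subgroup.subset_closure ⟨_, rfl⟩⟩, yφ _⟩
    obtain ⟨x', hx', e⟩ := hle (C.img₂ ▸ Subgroup.mem_map_of_mem φ hx)
    rw [eq_of_inj φ C.inj₂ hx hx'.1 e.symm]
    exact hx'.2
  exact fun x hx => hinj x (sup_le e1 e2 hx)

/-- The odd extension. -/
theorem odd_inj (hgg : gg * gg = 1) (hgen : Subgroup.closure ((P : Set G) ∪ {gg}) = ⊤)
    (hsign : ∀ x ∈ P, Perm.sign (φ x) = 1) (hodd : Perm.sign (φ gg) = -1)
    (hinj : ∀ x ∈ P ⊔ copy₂ P gg, φ x = 1 → x = 1) : ∀ x, φ x = 1 → x = 1 := by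
  have hinv : gg⁻¹ = gg := inv_eq_of_mul_eq_one_right hgg
  set N := P ⊔ copy₂ P gg with hN
  have hconj : ∀ x ∈ N, gg * x * gg ∈ N := by
    intro x hx
    have hNN : N.map (MulAut.conj gg).toMonoidHom ≤ N := by
      rw [hN, Subgroup.map_sup, Subgroup.map_map]
      refine sup_le le_sup_right ?_
      rintro _ ⟨y, hy, rfl⟩
      simp only [MonoidHom.comp_apply, MulEquiv.coe_toMonoidHom, MulAut.conj_apply, hinv]
      rw [show gg * (gg * y * gg) * gg = y by simp only [← mul_assoc, hgg, one_mul]; rw [mul_assoc, hgg, mul_one]]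
      exact le_sup_left (α := Subgroup G) hy
    have := hNN ⟨x, hx, rfl⟩
    simpa [hinv] using this
  have hs : ∀ x ∈ N, Perm.sign (φ x) = 1 := by
    have : N ≤ (Perm.sign.comp φ).ker := sup_le (fun x hx => hsign x hx) (by
      rintro _ ⟨y, hy, rfl⟩
      show Perm.sign (φ (gg * y * gg⁻¹)) = 1
      rw [map_mul, map_mul, map_inv, map_mul, map_mul, map_inv, hsign y hy, mul_one, mul_inv_cancel])
    exact fun x hx => this hx
  let K : Subgroup G :=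
    { carrier := {x | x ∈ N ∨ x * gg ∈ N}
      one_mem' := Or.inl (one_mem _)
      mul_mem' := fun {x y} hx hy => by
        rcases hx with hx | hx <;> rcases hy with hy | hy
        · exact Or.inl (mul_mem hx hy)
        · exact Or.inr (by rw [mul_assoc]; exact mul_mem hx hy)
        · refine Or.inr ?_
          have := mul_mem hx (hconj y hy)
          rwa [← mul_assoc, ← mul_assoc, mul_assoc x, hgg, mul_one] at this
        · refine Or.inl ?_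
          have := mul_mem hx (hconj _ hy)
          rwa [show x * gg * (gg * (y * gg) * gg) = x * (gg * gg) * y * (gg * gg) by simp only [mul_assoc], hgg,
            mul_one, mul_one] at this
      inv_mem' := fun {x} hx => by
        rcases hx with hx | hx
        · exact Or.inl (inv_mem hx)
        · refine Or.inr ?_
          have := hconj _ (inv_mem hx)
          rwa [mul_inv_rev, ← mul_assoc, mul_inv_cancel, one_mul] at this }
  have hK : K = ⊤ := by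
    rw [eq_top_iff, ← hgen, Subgroup.closure_le]
    rintro x (hx | rfl)
    · exact Or.inl (le_sup_left (α := Subgroup G) hx)
    · exact Or.inr (by rw [hgg]; exact one_mem _)
  intro x hx
  rcases (show x ∈ K by rw [hK]; trivial) with h | h
  · exact hinj x h hx
  · have := hs _ h
    rw [map_mul, hx, one_mul, hodd] at this
    exact absurd this (by decide)

end Cfsg.Agent.KSG55.Pres
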