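import Cfsg.Agent.KSG55.Pres.Basic
import Cfsg.Agent.KSG55.Pres.Glue

set_option autoImplicit false

/-! Classical two generator presentations of small degree. -/

namespace Cfsg.Agent.KSG55.Pres

open Equiv

variable {G : Type*} [Group G]

/-- The inversion applied at each step. -/
def twist (ε : Bool) (g : G) : G := if ε = true then g⁻¹ else g

/-- The translates of `x`, twisted. -/
def yseq (ε : Bool) (t x : G) : ℕ → G
  | 0 => x
  | i + 1 => twist ε (t * yseq ε t x i * t⁻¹)

theorem map_yseq {H : Type*} [Group H] (φ : G →* H) (ε : Bool) (t x : G) (i : ℕ) :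
    φ (yseq ε t x i) = yseq ε (φ t) (φ x) i := by
  induction i with
  | zero => rfl
  | succ i ih =>
    show φ (twist ε _) = twist ε _
    cases ε <;> simp [twist, ih]

/-- What the relations give. -/
theorem yseq_rels {ε : Bool} {t x : G} {m : ℕ} (hm : 1 ≤ m) (h3 : x ^ 3 = 1) (hper : yseq ε t x m = x)
    (hpair : ∀ j, 1 ≤ j → j ≤ m / 2 → (x * yseq ε t x j) ^ 2 = 1) :
    (∀ i, yseq ε t x i ^ 3 = 1) ∧
      (∀ i j, i < j → j < m → (yseq ε t x i * yseq ε t x j) ^ 2 = 1) ∧
      ∀ g ∈ Subgroup.closure (Set.range fun i : Fin m => yseq ε t x i),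
        t * g * t⁻¹ ∈ Subgroup.closure (Set.range fun i : Fin m => yseq ε t x i) := by
  have p3 : ∀ i, yseq ε t x i ^ 3 = 1 := fun i => by
    induction i with
    | zero => exact h3
    | succ i ih =>
      show twist ε _ ^ 3 = 1
      unfold twist
      split_ifs
      · rw [inv_pow, conj_pow, ih]; simp
      · rw [conj_pow, ih]; simp
  have per : ∀ i, yseq ε t x (i + m) = yseq ε t x i := fun i => by
    induction i with
    | zero => rw [Nat.zero_add]; exact hper
    | succ i ih =>
      rw [Nat.add_right_comm]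
      show twist ε _ = twist ε _
      rw [ih]
  have sh : ∀ j, 1 ≤ j → j ≤ m / 2 → ∀ i,
      (yseq ε t x i * yseq ε t x (i + j)) ^ 2 = 1 ∧ (yseq ε t x (i + j) * yseq ε t x i) ^ 2 = 1 := by
    intro j h1 h2 i
    have sym : ∀ a b : G, (a * b) ^ 2 = 1 → (b * a) ^ 2 = 1 := fun a b h => sq_symm (Commute.one_left a) h
    induction i with
    | zero =>
      rw [Nat.zero_add]
      exact ⟨hpair j h1 h2, sym _ _ (hpair j h1 h2)⟩
    | succ i ih =>
      have key : (twist ε (t * yseq ε t x i * t⁻¹) * twist ε (t * yseq ε t x (i + j) * t⁻¹)) ^ 2 = 1 := by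
        cases ε <;> simp only [twist, Bool.false_eq_true, if_false, if_true]
        · rw [show t * yseq false t x i * t⁻¹ * (t * yseq false t x (i + j) * t⁻¹) =
            t * (yseq false t x i * yseq false t x (i + j)) * t⁻¹ by group, conj_pow, ih.1, mul_one, mul_inv_cancel]
        · rw [show (t * yseq true t x i * t⁻¹)⁻¹ * (t * yseq true t x (i + j) * t⁻¹)⁻¹ =
            (t * (yseq true t x (i + j) * yseq true t x i) * t⁻¹)⁻¹ by group, inv_pow, conj_pow, ih.2, mul_one,
            mul_inv_cancel, inv_one]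
      rw [Nat.add_right_comm]
      exact ⟨key, sym _ _ key⟩
  refine ⟨p3, fun i j hij hj => ?_, fun g hg => ?_⟩
  · by_cases hd : j - i ≤ m / 2
    · have := (sh (j - i) (by omega) hd i).1
      rwa [show i + (j - i) = j by omega] at this
    · have := (sh (i + m - j) (by omega) (by omega) j).2
      rwa [show j + (i + m - j) = i + m by omega, per] at this
  · induction hg using Subgroup.closure_induction with
    | mem g hg =>
      obtain ⟨i, rfl⟩ := hg
      have hs : yseq ε t x (i.1 + 1) ∈ Subgroup.closure (Set.range fun i : Fin m => yseq ε t x i) := by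
        by_cases h : i.1 + 1 < m
        · exact Subgroup.subset_closure ⟨⟨i.1 + 1, h⟩, rfl⟩
        · have e : i.1 + 1 = m := by have := i.2; omega
          rw [e, hper]
          exact Subgroup.subset_closure ⟨⟨0, by omega⟩, rfl⟩
      change twist ε (t * yseq ε t x i.1 * t⁻¹) ∈ _ at hs
      show t * yseq ε t x i.1 * t⁻¹ ∈ _
      cases ε
      · exact hs
      · exact inv_mem_iff.mp hs
    | one => simp
    | mul a b _ _ ha hb => rw [show t * (a * b) * t⁻¹ = (t * a * t⁻¹) * (t * b * t⁻¹) by group]; exact mul_mem ha hb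
    | inv a _ ha => rw [show t * a⁻¹ * t⁻¹ = (t * a * t⁻¹)⁻¹ by group]; exact inv_mem ha

/-- Concrete data for a small degree: everything here is checked by computation. -/
structure SmallData (n : ℕ) where
  m : ℕ
  hm : 1 ≤ m
  hn : m + 2 = n
  (a b : Fin n)
  hab : a ≠ b
  pt : Fin m → Fin n
  ε : Bool
  τ : Perm (Fin n)
  hy : ∀ i : Fin m, yseq ε τ (cyc3 a b (pt ⟨0, hm⟩)) i = cyc3 a b (pt i)
  hper : yseq ε τ (cyc3 a b (pt ⟨0, hm⟩)) m = cyc3 a b (pt ⟨0, hm⟩)
  hne : ∀ i, pt i ≠ a ∧ pt i ≠ b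
  hinj : Function.Injective pt
  hcov : ∀ j, j ≠ a → j ≠ b → ∃ i, pt i = j

namespace SmallData

variable {n : ℕ} (D : SmallData n)

/-- The three cycle generator. -/
def z : Perm (Fin n) := cyc3 D.a D.b (D.pt ⟨0, D.hm⟩)

theorem altOn_le_closure : altOn Finset.univ ≤ Subgroup.closure (Set.range fun i : Fin D.m => yseq D.ε D.τ D.z i) :=
  altOn_le D.hab fun j _ ha hb => by
    obtain ⟨i, rfl⟩ := D.hcov j ha hb
    exact Subgroup.subset_closure ⟨i, D.hy i⟩

/-- The relations of the cycle and pairs. -/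
def words : List (FreeGroup (Fin 2)) :=
  [FreeGroup.of 1 ^ 3, yseq D.ε (FreeGroup.of 0) (FreeGroup.of 1) D.m * (FreeGroup.of 1)⁻¹] ++
    (List.range (D.m / 2)).map fun j => (FreeGroup.of 1 * yseq D.ε (FreeGroup.of 0) (FreeGroup.of 1) (j + 1)) ^ 2

theorem words_length : D.words.length = D.m / 2 + 2 := by simp [words]

theorem words_hold : ∀ w ∈ D.words, FreeGroup.lift ![D.τ, D.z] w = 1 := by
  intro w hw
  simp only [words, List.mem_append, List.mem_cons, List.not_mem_nil, or_false, List.mem_map, List.mem_range] at hw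
  have hp := fun i => D.hne i
  rcases hw with (rfl | rfl) | ⟨j, hj, rfl⟩
  · simpa [z] using cyc3_cube D.hab (hp _).1.symm (hp _).2.symm
  · simp only [map_mul, map_inv, map_yseq, FreeGroup.lift_apply_of]
    exact mul_inv_eq_one.mpr D.hper
  · simp only [map_mul, map_pow, map_yseq, FreeGroup.lift_apply_of]
    show (D.z * yseq D.ε D.τ D.z (⟨j + 1, by omega⟩ : Fin D.m).1) ^ 2 = 1
    rw [show yseq D.ε D.τ D.z _ = _ from D.hy ⟨j + 1, by omega⟩]
    exact cyc3_pair D.hab (hp _).1.symm (hp _).1.symm (hp _).2.symm (hp _).2.symm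
      (fun e => by simpa [Fin.ext_iff] using D.hinj e)

theorem inj {H : Type*} [Group H] (U : Fin 2 → H) (φ : H →* Perm (Fin n)) (h0 : φ (U 0) = D.τ) (h1 : φ (U 1) = D.z)
    (hr : ∀ w ∈ D.words, FreeGroup.lift U w = 1) :
    (∀ g ∈ Subgroup.closure (Set.range fun i : Fin D.m => yseq D.ε (U 0) (U 1) i), φ g = 1 → g = 1) ∧
      ∀ g ∈ Subgroup.closure (Set.range fun i : Fin D.m => yseq D.ε (U 0) (U 1) i),
        U 0 * g * (U 0)⁻¹ ∈ Subgroup.closure (Set.range fun i : Fin D.m => yseq D.ε (U 0) (U 1) i) := by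
  have hm := D.hm
  obtain ⟨p3, pp, hn⟩ := yseq_rels (ε := D.ε) (t := U 0) (x := U 1) hm
    (by
      have := hr (FreeGroup.of 1 ^ 3) (by simp [words])
      rwa [map_pow, FreeGroup.lift_apply_of] at this)
    (by
      have := hr (yseq D.ε (FreeGroup.of 0) (FreeGroup.of 1) D.m * (FreeGroup.of 1)⁻¹) (by simp [words])
      rwa [map_mul, map_inv, map_yseq, FreeGroup.lift_apply_of, FreeGroup.lift_apply_of, mul_inv_eq_one] at this)
    (fun j h1 h2 => by
      have := hr ((FreeGroup.of 1 * yseq D.ε (FreeGroup.of 0) (FreeGroup.of 1) j) ^ 2)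
        (List.mem_append_right _ (List.mem_map.mpr ⟨j - 1, List.mem_range.mpr (by omega), by
          rw [Nat.sub_add_cancel h1]⟩))
      rwa [map_pow, map_mul, map_yseq, FreeGroup.lift_apply_of, FreeGroup.lift_apply_of] at this)
  refine ⟨?_, hn⟩
  refine carmichael (fun i : Fin D.m => yseq D.ε (U 0) (U 1) i) φ D.a D.b D.pt (fun i => p3 i) (fun i j hij => ?_)
    (fun i => by rw [map_yseq, h0, h1]; exact D.hy i) ?_
  · rcases lt_or_gt_of_ne (Fin.val_ne_iff.mpr hij) with h | h
    · exact pp i j h j.2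
    · exact sq_symm (Commute.one_left _) (pp j i h i.2)
  · have hle : altOn (Finset.univ : Finset (Fin n)) ≤ Subgroup.closure (Set.range fun i => cyc3 D.a D.b (D.pt i)) := by
      refine D.altOn_le_closure.trans (le_of_eq ?_)
      congr 2
      exact funext D.hy
    have := D.hn
    rw [Fintype.card_fin, D.hn]
    have := two_mul_card_altOn (T := (Finset.univ : Finset (Fin n))) (by simp; omega)
    rw [Finset.card_univ, Fintype.card_fin] at this
    rw [← this]
    exact Nat.mul_le_mul_left 2 (Nat.card_le_card_of_injective _ (Subgroup.inclusion_injective hle))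

theorem exists_word {σ : Perm (Fin n)} (h : Perm.sign σ = 1) :
    ∃ W ∈ Subgroup.closure (Set.range fun i : Fin D.m => yseq D.ε (FreeGroup.of (0 : Fin 2)) (FreeGroup.of 1) i),
      FreeGroup.lift ![D.τ, D.z] W = σ := by
  have : σ ∈ (Subgroup.closure (Set.range fun i : Fin D.m =>
      yseq D.ε (FreeGroup.of (0 : Fin 2)) (FreeGroup.of 1) i)).map (FreeGroup.lift ![D.τ, D.z]) := by
    rw [MonoidHom.map_closure, ← Set.range_comp]
    refine Subgroup.closure_mono ?_ (D.altOn_le_closure ⟨h, fun x hx => absurd (Finset.mem_univ x) hx⟩)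
    rintro _ ⟨i, rfl⟩
    exact ⟨i, by simp [map_yseq]⟩
  exact this

theorem mem_image {H : Type*} [Group H] (U : Fin 2 → H) {W : FreeGroup (Fin 2)}
    (hW : W ∈ Subgroup.closure (Set.range fun i : Fin D.m => yseq D.ε (FreeGroup.of (0 : Fin 2)) (FreeGroup.of 1) i)) :
    FreeGroup.lift U W ∈ Subgroup.closure (Set.range fun i : Fin D.m => yseq D.ε (U 0) (U 1) i) := by
  have := Subgroup.mem_map_of_mem (FreeGroup.lift U) hW
  rw [MonoidHom.map_closure, ← Set.range_comp] at this
  refine Subgroup.closure_mono ?_ this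
  rintro _ ⟨i, rfl⟩
  exact ⟨i, by simp [map_yseq]⟩

theorem z_even : Perm.sign D.z = 1 := sign_cyc3 D.hab (D.hne _).2.symm

theorem presOn_alt (hτ : Perm.sign D.τ = 1) :
    PresOn ![(⟨D.τ, Perm.mem_alternatingGroup.mpr hτ⟩ : alternatingGroup (Fin n)),
      ⟨D.z, Perm.mem_alternatingGroup.mpr D.z_even⟩] (D.m / 2 + 3) := by
  obtain ⟨W, mW, lW⟩ := D.exists_word hτ
  set gens : Fin 2 → alternatingGroup (Fin n) := ![⟨D.τ, Perm.mem_alternatingGroup.mpr hτ⟩,
    ⟨D.z, Perm.mem_alternatingGroup.mpr D.z_even⟩] with hg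
  have hgens : ∀ i, (gens i : Perm (Fin n)) = ![D.τ, D.z] i := fun i => by fin_cases i <;> rfl
  have hcomp : (alternatingGroup (Fin n)).subtype.comp (FreeGroup.lift gens) = FreeGroup.lift ![D.τ, D.z] :=
    FreeGroup.ext_hom _ _ fun i => by simp [hgens i]
  refine presOn_of_inj gens (D.words ++ [FreeGroup.of 0 * W⁻¹]) (by simp [D.words_length]) ?_ ?_ ?_
  · intro w hw
    refine Subtype.ext ?_
    show (alternatingGroup (Fin n)).subtype (FreeGroup.lift gens w) = 1
    rw [← MonoidHom.comp_apply, hcomp]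
    rcases List.mem_append.mp hw with h | h
    · exact D.words_hold w h
    · rw [List.mem_singleton] at h
      subst h
      simp [lW]
  · rw [eq_top_iff, ← Subgroup.map_le_map_iff_of_injective (alternatingGroup _).subtype_injective,
      ← MonoidHom.range_eq_map, MonoidHom.map_closure]
    refine ((Subgroup.range_subtype _).trans altOn_univ.symm).trans_le (D.altOn_le_closure.trans ?_)
    rw [Subgroup.closure_le]
    rintro _ ⟨i, rfl⟩
    have h0 : D.τ ∈ Subgroup.closure (⇑(alternatingGroup (Fin n)).subtype '' Set.range gens) :=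
      Subgroup.subset_closure ⟨gens 0, ⟨0, rfl⟩, hgens 0⟩
    have h1 : D.z ∈ Subgroup.closure (⇑(alternatingGroup (Fin n)).subtype '' Set.range gens) :=
      Subgroup.subset_closure ⟨gens 1, ⟨1, rfl⟩, hgens 1⟩
    obtain ⟨k, hk⟩ : ∃ k : ℕ, k = i.1 := ⟨_, rfl⟩
    show yseq D.ε D.τ D.z i.1 ∈ _
    rw [← hk]
    clear hk
    induction k with
    | zero => exact h1
    | succ k ih =>
      show twist D.ε _ ∈ _
      unfold twist
      split_ifs
      · exact inv_mem (mul_mem (mul_mem h0 ih) (inv_mem h0))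
      · exact mul_mem (mul_mem h0 ih) (inv_mem h0)
  · intro H _ U φ hU hr hφ x hx
    set Φ := (alternatingGroup (Fin n)).subtype.comp φ
    have e : ∀ i, Φ (U i) = ![D.τ, D.z] i := fun i => by simp [Φ, hφ i, hgens i]
    obtain ⟨inj, -⟩ := D.inj U Φ (e 0) (e 1) fun w hw => hr w (List.mem_append_left _ hw)
    set N := Subgroup.closure (Set.range fun i : Fin D.m => yseq D.ε (U 0) (U 1) i)
    have ht : U 0 ∈ N := by
      have := hr (FreeGroup.of 0 * W⁻¹) (by simp)
      rw [map_mul, map_inv, FreeGroup.lift_apply_of, mul_inv_eq_one] at this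
      rw [this]; exact D.mem_image U mW
    have : Subgroup.closure (Set.range U) ≤ N := by
      rw [Subgroup.closure_le]
      rintro _ ⟨i, rfl⟩
      fin_cases i
      · exact ht
      · exact Subgroup.subset_closure ⟨⟨0, D.hm⟩, rfl⟩
    rw [hU] at this
    exact inj x (this trivial) (by simp [Φ, hx])

theorem presOn_sym (hτ : Perm.sign D.τ = -1) : PresOn ![D.τ, D.z] (D.m / 2 + 3) := by
  obtain ⟨W, mW, lW⟩ := D.exists_word (σ := D.τ * D.τ) (by rw [map_mul, hτ]; rfl)
  refine presOn_of_inj _ (D.words ++ [FreeGroup.of 0 * FreeGroup.of 0 * W⁻¹]) (by simp [D.words_length]) ?_ ?_ ?_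
  · intro w hw
    rcases List.mem_append.mp hw with h | h
    · exact D.words_hold w h
    · rw [List.mem_singleton] at h
      subst h
      simp [lW]
  · rw [eq_top_iff]
    intro σ _
    set S := Subgroup.closure (Set.range ![D.τ, D.z])
    have h0 : D.τ ∈ S := Subgroup.subset_closure ⟨0, rfl⟩
    have hA : altOn Finset.univ ≤ S := by
      refine D.altOn_le_closure.trans ?_
      rw [Subgroup.closure_le]
      rintro _ ⟨i, rfl⟩
      obtain ⟨k, hk⟩ : ∃ k : ℕ, k = i.1 := ⟨_, rfl⟩
      show yseq D.ε D.τ D.z i.1 ∈ _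
      rw [← hk]
      clear hk
      induction k with
      | zero => exact Subgroup.subset_closure ⟨1, rfl⟩
      | succ k ih =>
        show twist D.ε _ ∈ _
        unfold twist
        split_ifs
        · exact inv_mem (mul_mem (mul_mem h0 ih) (inv_mem h0))
        · exact mul_mem (mul_mem h0 ih) (inv_mem h0)
    rcases Int.units_eq_one_or (Perm.sign σ) with h | h
    · exact hA ⟨h, fun x hx => absurd (Finset.mem_univ x) hx⟩
    · have : σ * D.τ⁻¹ ∈ S := hA ⟨by rw [map_mul, map_inv, h, hτ]; rfl, fun x hx => absurd (Finset.mem_univ x) hx⟩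
      simpa using mul_mem this h0
  · intro H _ U φ hU hr hφ x hx
    obtain ⟨inj, hn⟩ := D.inj U φ (hφ 0) (hφ 1) fun w hw => hr w (List.mem_append_left _ hw)
    set N := Subgroup.closure (Set.range fun i : Fin D.m => yseq D.ε (U 0) (U 1) i)
    have ht2 : U 0 * U 0 ∈ N := by
      have := hr (FreeGroup.of 0 * FreeGroup.of 0 * W⁻¹) (by simp)
      rw [map_mul, map_mul, map_inv, FreeGroup.lift_apply_of, mul_inv_eq_one] at this
      rw [this]; exact D.mem_image U mW
    have h1 : U 1 ∈ N := Subgroup.subset_closure ⟨⟨0, D.hm⟩, rfl⟩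
    have hN : N.Normal := by
      rw [← Subgroup.normalizer_eq_top_iff, eq_top_iff, ← hU, Subgroup.closure_le]
      rintro _ ⟨i, rfl⟩
      fin_cases i
      · refine Subgroup.mem_normalizer_iff.mpr fun g => ⟨hn g, fun hg => ?_⟩
        have := mul_mem (mul_mem (inv_mem ht2) (hn _ hg)) ht2
        simpa [mul_assoc] using this
      · exact Subgroup.le_normalizer h1
    have htop : x ∈ N ⊔ Subgroup.zpowers (U 0) := by
      have : Subgroup.closure (Set.range U) ≤ N ⊔ Subgroup.zpowers (U 0) := by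
        rw [Subgroup.closure_le]
        rintro _ ⟨i, rfl⟩
        fin_cases i
        · exact (le_sup_right (α := Subgroup H)) (Subgroup.mem_zpowers _)
        · exact (le_sup_left (α := Subgroup H)) h1
      rw [hU] at this
      exact this trivial
    obtain ⟨g, hg, y, hy, rfl⟩ := Subgroup.mem_sup_of_normal_left.mp htop
    obtain ⟨k, rfl⟩ := Subgroup.mem_zpowers_iff.mp hy
    have hs : Perm.sign (φ g) = 1 := by
      have : N ≤ (Perm.sign.comp φ).ker := by
        rw [Subgroup.closure_le]
        rintro _ ⟨i, rfl⟩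
        show Perm.sign (φ (yseq D.ε (U 0) (U 1) i)) = 1
        rw [map_yseq, hφ, hφ]
        exact (congrArg Perm.sign (D.hy i)).trans (sign_cyc3 D.hab (D.hne i).2.symm)
      exact this hg
    refine inj _ (mul_mem hg ?_) hx
    rcases Int.even_or_odd k with ⟨j, rfl⟩ | hk
    · rw [← two_mul, zpow_mul, zpow_two]
      exact zpow_mem ht2 j
    · exfalso
      have := congrArg Perm.sign hx
      rw [map_mul, map_mul, hs, one_mul, map_zpow, hφ, map_zpow, map_one] at this
      change Perm.sign D.τ ^ k = 1 at this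
      rw [hτ, hk.neg_one_zpow] at this
      exact absurd this (by decide)

end SmallData

end Cfsg.Agent.KSG55.Pres
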