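import Cfsg.Agent.KSG55.Pres.AltOn

set_option autoImplicit false

/-! The two generator core: `A_{p+2}`, up to a central involution. -/

namespace Cfsg.Agent.KSG55.Pres

variable {G : Type*} [Group G] {p : ℕ}

/-- The translates of `z`. -/
def xs (p : ℕ) (u z : G) (i : ZMod p) : G := u ^ i.val * z * (u ^ i.val)⁻¹

/-- The relations of the core. -/
structure CoreRel (p : ℕ) (γ : ZMod p) (s : ℕ) (u z h : G) : Prop where
  rel_u : u ^ p = h ^ (p - 1)
  rel_h : h * u ^ s * h⁻¹ = u ^ (s + 1)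
  rel_z : h * z * h⁻¹ = z⁻¹
  rel_pair : (z * (u * z * u⁻¹)) ^ 2 = z ^ 3
  mem : h ∈ Subgroup.closure (Set.range (xs p u z))

variable [Fact p.Prime] {γ : ZMod p} {s : ℕ} {u z h : G}

theorem CoreRel.pow_u (R : CoreRel p γ s u z h) : u ^ p = 1 := by
  have hc : h * u ^ p * h⁻¹ = u ^ p := by rw [R.rel_u, ← pow_succ', pow_succ, mul_inv_cancel_right]
  have e1 : h * u ^ (p * s) * h⁻¹ = u ^ (p * s + p) := by
    rw [mul_comm p s, pow_mul, ← conj_pow, R.rel_h, ← pow_mul, Nat.add_mul, one_mul]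
  rw [pow_mul, ← conj_pow, hc, ← pow_mul, pow_add] at e1
  exact mul_eq_left.mp e1.symm

theorem CoreRel.u_zpow (R : CoreRel p γ s u z h) {a b : ℕ} (hab : (a : ZMod p) = b) : u ^ a = u ^ b :=
  pow_eq_pow_of_modEq ((ZMod.natCast_eq_natCast_iff a b p).mp hab) R.pow_u

theorem CoreRel.h_u (R : CoreRel p γ s u z h) (hs : (γ - 1) * (s : ZMod p) = 1) (a : ZMod p) :
    h * u ^ a.val * h⁻¹ = u ^ (γ * a).val := by
  have h1 : u ^ a.val = (u ^ s) ^ ((γ - 1) * a).val := by
    rw [← pow_mul]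
    refine R.u_zpow ?_
    push_cast [ZMod.natCast_val, ZMod.cast_id]
    linear_combination -a * hs
  rw [h1, ← conj_pow, R.rel_h, ← pow_mul]
  refine R.u_zpow ?_
  push_cast [ZMod.natCast_val, ZMod.cast_id]
  linear_combination a * hs

theorem CoreRel.conj_u (R : CoreRel p γ s u z h) (i a : ZMod p) :
    u ^ a.val * xs p u z i * (u ^ a.val)⁻¹ = xs p u z (a + i) := by
  have e : u ^ a.val * u ^ i.val = u ^ (a + i).val := by
    rw [← pow_add]
    exact R.u_zpow (by push_cast [ZMod.natCast_val, ZMod.cast_id]; rfl)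
  rw [xs, xs, ← e]
  group

theorem CoreRel.conj_h (R : CoreRel p γ s u z h) (hs : (γ - 1) * (s : ZMod p) = 1) (i : ZMod p) :
    h * xs p u z i * h⁻¹ = (xs p u z (γ * i))⁻¹ := by
  calc h * xs p u z i * h⁻¹ = (h * u ^ i.val * h⁻¹) * (h * z * h⁻¹) * (h * u ^ i.val * h⁻¹)⁻¹ := by
        rw [xs]; group
    _ = _ := by rw [R.h_u hs i, R.rel_z, xs]; group

theorem xs_zero : xs p u z (0 : ZMod p) = z := by simp [xs]

theorem xs_one : xs p u z (1 : ZMod p) = u * z * u⁻¹ := by
  rw [xs, ZMod.val_one, pow_one]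

theorem sq_symm {x y c : G} (hc : Commute c x) (h : (x * y) ^ 2 = c) : (y * x) ^ 2 = c := by
  have e : (y * x) ^ 2 = x⁻¹ * (x * y) ^ 2 * x := by
    simp only [pow_two]; group
  rw [e, h, mul_assoc, hc.eq, inv_mul_cancel_left]

/-- Everything the core gives. -/
theorem CoreRel.main (R : CoreRel p γ s u z h) (hs : (γ - 1) * (s : ZMod p) = 1)
    (hgen : ∀ a : ZMod p, a ≠ 0 → ∃ l : ℕ, γ ^ l = a) :
    (z ^ 3) ^ 2 = 1 ∧ Commute (z ^ 3) u ∧ Commute (z ^ 3) z ∧ (∀ i, xs p u z i ^ 3 = z ^ 3) ∧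
      (∀ i j, i ≠ j → (xs p u z i * xs p u z j) ^ 2 = z ^ 3) ∧
      u ∈ Subgroup.closure (Set.range (xs p u z)) := by
  set c := z ^ 3 with hc
  set x := xs p u z with hx
  have c0 : Commute c z := (Commute.pow_self z 3)
  have hp01 : (x 0 * x 1) ^ 2 = c := by rw [hx, xs_zero, xs_one]; exact R.rel_pair
  have c1 : Commute c (x 1) := by
    have h1 : Commute c (x 0 * x 1) := hp01 ▸ (Commute.pow_self (x 0 * x 1) 2)
    have h2 : Commute c (x 0)⁻¹ := by rw [hx, xs_zero]; exact c0.inv_right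
    simpa using h2.mul_right h1
  -- conjugation by `h`
  have hch : h * c * h⁻¹ = c⁻¹ := by rw [hc, ← conj_pow, R.rel_z, inv_pow]
  have hcomm : ∀ l : ℕ, Commute c (x (γ ^ l)) := fun l => by
    induction l with
    | zero => simpa using c1
    | succ l ih =>
      have h1 : Commute (h * c * h⁻¹) (h * x (γ ^ l) * h⁻¹) := (Commute.conj_iff h).mpr ih
      rw [hch, hx, R.conj_h hs, ← pow_succ'] at h1
      exact Commute.inv_inv_iff.mp h1
  have call : ∀ i, Commute c (x i) := fun i => by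
    by_cases hi : i = 0
    · subst hi; rw [hx, xs_zero]; exact c0
    · obtain ⟨l, rfl⟩ := hgen i hi; exact hcomm l
  have cN : ∀ g ∈ Subgroup.closure (Set.range x), Commute c g := fun g hg => by
    have : Subgroup.closure (Set.range x) ≤ Subgroup.centralizer {c} := by
      rw [Subgroup.closure_le]
      rintro _ ⟨i, rfl⟩
      exact Subgroup.mem_centralizer_singleton_iff.mpr (call i).eq.symm
    exact ((Subgroup.mem_centralizer_singleton_iff.mp (this hg))).symm
  have c2 : c ^ 2 = 1 := by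
    have e : h * c * h⁻¹ = c := by rw [← (cN h R.mem).eq, mul_inv_cancel_right]
    rw [hch] at e
    rw [pow_two]
    exact (congrArg (c * ·) e).symm.trans (mul_inv_cancel c)
  have cinv : c⁻¹ = c := inv_eq_of_mul_eq_one_right (by rw [← pow_two, c2])
  -- the orbit of the pair `(0, 1)` under `h`
  have hpair : ∀ l : ℕ, (x 0 * x (γ ^ l)) ^ 2 = c := fun l => by
    induction l with
    | zero => simpa using hp01
    | succ l ih =>
      have h1 := congrArg (fun g => h * g * h⁻¹) ih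
      simp only [← conj_pow] at h1
      rw [show h * (x 0 * x (γ ^ l)) * h⁻¹ = (h * x 0 * h⁻¹) * (h * x (γ ^ l) * h⁻¹) by group, hx,
        R.conj_h hs, R.conj_h hs, ← pow_succ', mul_zero, hch, cinv, ← mul_inv_rev, inv_pow,
        inv_eq_iff_eq_inv, cinv, ← hx] at h1
      exact sq_symm (call _) h1
  have hpair' : ∀ j, j ≠ 0 → (x 0 * x j) ^ 2 = c := fun j hj => by
    obtain ⟨l, rfl⟩ := hgen j hj; exact hpair l
  -- translation
  have cu : Commute c u := by
    have h1 := congrArg (fun g => u * g * u⁻¹) (hpair' (-1) (neg_ne_zero.mpr one_ne_zero))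
    simp only [← conj_pow] at h1
    have e0 := R.conj_u 0 (1 : ZMod p)
    have e1 := R.conj_u (-1) (1 : ZMod p)
    rw [ZMod.val_one, pow_one] at e0 e1
    rw [show u * (x 0 * x (-1)) * u⁻¹ = (u * x 0 * u⁻¹) * (u * x (-1) * u⁻¹) by group, hx, e0, e1,
      add_zero, add_neg_cancel, ← hx, sq_symm (call _) hp01] at h1
    have : u * c = c * u := mul_inv_eq_iff_eq_mul.mp h1.symm
    exact this.symm
  have cpow : ∀ i, x i ^ 3 = c := fun i => by
    rw [hx, xs, conj_pow, ← hc, ← (cu.pow_right i.val).eq, mul_inv_cancel_right]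
  have hall : ∀ i j, i ≠ j → (x i * x j) ^ 2 = c := fun i j hij => by
    have h1 := congrArg (fun g => u ^ i.val * g * (u ^ i.val)⁻¹) (hpair' (j - i) (sub_ne_zero.mpr hij.symm))
    simp only [← conj_pow] at h1
    rw [show u ^ i.val * (x 0 * x (j - i)) * (u ^ i.val)⁻¹ =
      (u ^ i.val * x 0 * (u ^ i.val)⁻¹) * (u ^ i.val * x (j - i) * (u ^ i.val)⁻¹) by group, hx, R.conj_u, R.conj_u,
      add_zero, add_sub_cancel, ← (cu.pow_right i.val).eq, mul_inv_cancel_right] at h1
    exact h1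
  refine ⟨c2, cu, c0, cpow, hall, ?_⟩
  -- `u` lies in the normal subgroup
  set N := Subgroup.closure (Set.range x) with hN
  have hnorm : ∀ g ∈ N, u * g * u⁻¹ ∈ N := fun g hg => by
    induction hg using Subgroup.closure_induction with
    | mem g hg =>
      obtain ⟨i, rfl⟩ := hg
      have e := R.conj_u i (1 : ZMod p)
      rw [ZMod.val_one, pow_one] at e
      rw [hx, e]
      exact Subgroup.subset_closure ⟨_, rfl⟩
    | one => simp
    | mul a b _ _ ha hb =>
      rw [show u * (a * b) * u⁻¹ = (u * a * u⁻¹) * (u * b * u⁻¹) by group]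
      exact mul_mem ha hb
    | inv a _ ha =>
      rw [show u * a⁻¹ * u⁻¹ = (u * a * u⁻¹)⁻¹ by group]
      exact inv_mem ha
  have h2 : h * u * h⁻¹ * u⁻¹ ∈ N := by
    rw [show h * u * h⁻¹ * u⁻¹ = h * (u * h⁻¹ * u⁻¹) by group]
    exact mul_mem R.mem (hnorm _ (inv_mem R.mem))
  have hγ : γ - 1 ≠ 0 := fun e => by rw [e, zero_mul] at hs; exact zero_ne_one hs
  have e3 : h * u * h⁻¹ * u⁻¹ = u ^ (γ - 1).val := by
    have e4 : h * u * h⁻¹ = u ^ γ.val := by
      have := R.h_u hs 1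
      rwa [ZMod.val_one, pow_one, mul_one] at this
    have e5 : u ^ γ.val = u ^ (γ - 1).val * u := by
      rw [← pow_succ]
      exact R.u_zpow (by push_cast [ZMod.natCast_val, ZMod.cast_id]; ring)
    rw [e4, e5, mul_inv_cancel_right]
  rw [e3] at h2
  have : u = (u ^ (γ - 1).val) ^ ((γ - 1)⁻¹).val := by
    rw [← pow_mul]
    conv_lhs => rw [← pow_one u]
    exact R.u_zpow (by push_cast [ZMod.natCast_val, ZMod.cast_id]; rw [mul_inv_cancel₀ hγ])
  rw [this]
  exact pow_mem h2 _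

end Cfsg.Agent.KSG55.Pres
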