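import Cfsg.Agent.KSG55.Pres.Core

set_option autoImplicit false

/-! The permutations behind the core relations. -/

namespace Cfsg.Agent.KSG55.Pres

open Equiv

/-- A core inside `Fin n`. -/
structure CoreSet (n p : ℕ) where
  (a b : Fin n)
  pt : ZMod p → Fin n
  a_ne_b : a ≠ b
  pt_inj : Function.Injective pt
  pt_a : ∀ i, pt i ≠ a
  pt_b : ∀ i, pt i ≠ b

variable {n p : ℕ}

/-- The points of a core, as an embedding. -/
def CoreSet.emb (C : CoreSet n p) : ZMod p ⊕ Bool ↪ Fin n where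
  toFun := Sum.elim C.pt (fun t => cond t C.b C.a)
  inj' := by
    rintro (i | s) (j | t) h
    · exact congrArg Sum.inl (C.pt_inj h)
    · cases t
      · exact absurd h (C.pt_a i)
      · exact absurd h (C.pt_b i)
    · cases s
      · exact absurd h.symm (C.pt_a j)
      · exact absurd h.symm (C.pt_b j)
    · cases s <;> cases t
      · rfl
      · exact absurd h C.a_ne_b
      · exact absurd h.symm C.a_ne_b
      · rfl

variable [Fact p.Prime]

/-- The points of a core. -/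
def CoreSet.pts (C : CoreSet n p) : Finset (Fin n) := insert C.a (insert C.b (Finset.univ.image C.pt))

theorem CoreSet.a_mem (C : CoreSet n p) : C.a ∈ C.pts := by simp [CoreSet.pts]
theorem CoreSet.b_mem (C : CoreSet n p) : C.b ∈ C.pts := by simp [CoreSet.pts]
theorem CoreSet.pt_mem (C : CoreSet n p) (i : ZMod p) : C.pt i ∈ C.pts := by simp [CoreSet.pts]

theorem CoreSet.card_pts (C : CoreSet n p) : C.pts.card = p + 2 := by
  rw [CoreSet.pts, Finset.card_insert_of_notMem (by simp [C.a_ne_b, C.pt_a]),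
    Finset.card_insert_of_notMem (by simp [C.pt_b]), Finset.card_image_of_injective _ C.pt_inj, Finset.card_univ,
    ZMod.card]

theorem isCycle_mulLeft {γ : ZMod p} (hγ : ∀ a : ZMod p, a ≠ 0 → ∃ l : ℕ, γ ^ l = a) (h0 : γ ≠ 0)
    (h1 : γ ≠ 1) : (Equiv.mulLeft₀ γ h0).IsCycle := by
  refine ⟨1, by simpa using h1, fun y hy => ?_⟩
  obtain ⟨l, rfl⟩ := hγ y (fun e => hy (by simp [e]))
  refine ⟨(l : ℤ), ?_⟩
  rw [zpow_natCast]
  clear hy
  induction l with
  | zero => simp
  | succ l ih => rw [pow_succ' (Equiv.mulLeft₀ γ h0), Perm.mul_apply, ih, pow_succ']; simp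

theorem sign_mulLeft_generator (hp : p ≠ 2) {γ : ZMod p} (hγ : ∀ a : ZMod p, a ≠ 0 → ∃ l : ℕ, γ ^ l = a)
    (h0 : γ ≠ 0) (h1 : γ ≠ 1) : Perm.sign (Equiv.mulLeft₀ γ h0) = -1 := by
  rw [(isCycle_mulLeft hγ h0 h1).sign]
  have hs : (Equiv.mulLeft₀ γ h0).support = Finset.univ.erase 0 := by
    ext x
    simp [mul_left_eq_self₀, h1]
  rw [hs, Finset.card_erase_of_mem (Finset.mem_univ _), Finset.card_univ, ZMod.card]
  have : Even (p - 1) := (Fact.out : p.Prime).even_sub_one hp
  rw [this.neg_one_pow]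

/-- The images of the generators and of `h`. -/
theorem CoreSet.exists_model (C : CoreSet n p) (hp : p ≠ 2) {γ : ZMod p} {s : ℕ}
    (hγ : ∀ a : ZMod p, a ≠ 0 → ∃ l : ℕ, γ ^ l = a) (hs : (γ - 1) * (s : ZMod p) = 1) :
    ∃ ρ η : Perm (Fin n), ρ C.a = C.a ∧ ρ C.b = C.b ∧ (∀ i, ρ (C.pt i) = C.pt (i + 1)) ∧
      ρ ∈ altOn C.pts ∧ η ∈ altOn C.pts ∧ ρ ^ p = 1 ∧ η ^ (p - 1) = 1 ∧ η * ρ ^ s * η⁻¹ = ρ ^ (s + 1) ∧
      η * cyc3 C.a C.b (C.pt 0) * η⁻¹ = (cyc3 C.a C.b (C.pt 0))⁻¹ := by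
  have h0 : γ ≠ 0 := by
    intro e
    obtain ⟨l, hl⟩ := hγ (-1) (by simp)
    rcases l with _ | l
    · rw [pow_zero] at hl
      have : (2 : ZMod p) = 0 := by linear_combination hl
      exact hp ((Nat.prime_dvd_prime_iff_eq Fact.out Nat.prime_two).mp ((ZMod.natCast_eq_zero_iff 2 p).mp (by simpa)))
    · simp [e] at hl
  have h1 : γ ≠ 1 := fun e => by simp [e] at hs
  let A : Perm (ZMod p) := Equiv.addLeft 1
  let M : Perm (ZMod p) := Equiv.mulLeft₀ γ h0
  let L := Perm.viaEmbeddingHom C.emb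
  have Lsign : ∀ σ, Perm.sign (L σ) = Perm.sign σ := fun σ => by
    show Perm.sign (Perm.viaEmbedding σ C.emb) = _
    unfold Perm.viaEmbedding
    exact @Perm.sign_extendDomain _ _ _ _ _ _ σ _ (_) _
  have Lmem : ∀ σ, Perm.sign σ = 1 → L σ ∈ altOn C.pts := fun σ hσ => by
    refine ⟨by rw [Lsign, hσ], fun x hx => Perm.viaEmbedding_apply_of_notMem σ C.emb x ?_⟩
    rintro ⟨i | t, rfl⟩
    · exact hx (C.pt_mem i)
    · cases t
      · exact hx C.a_mem
      · exact hx C.b_mem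
  have Lapp : ∀ σ x, L σ (C.emb x) = C.emb (σ x) := fun σ x => Perm.viaEmbedding_apply σ C.emb x
  have Apow : ∀ (k : ℕ) (i : ZMod p), (A ^ k) i = k + i := fun k => by
    induction k with
    | zero => simp
    | succ k ih => intro i; rw [pow_succ', Perm.mul_apply, ih]; simp [A]; ring
  have Mpow : ∀ (k : ℕ) (i : ZMod p), (M ^ k) i = γ ^ k * i := fun k => by
    induction k with
    | zero => simp
    | succ k ih => intro i; rw [pow_succ' M, Perm.mul_apply, ih, pow_succ']; simp [M]; ring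
  have hA : A ^ p = 1 := Equiv.ext fun i => by simp [Apow]
  have hM : M ^ (p - 1) = 1 := Equiv.ext fun i => by simp [Mpow, ZMod.pow_card_sub_one_eq_one h0]
  let S : Perm (ZMod p) × Perm Bool →* Perm (Fin n) := L.comp (Perm.sumCongrHom _ _)
  refine ⟨S (A, 1), S (M, swap false true), ?_, ?_, ?_, ?_, ?_, ?_, ?_, ?_, ?_⟩
  · exact Lapp _ (Sum.inr false)
  · exact Lapp _ (Sum.inr true)
  · intro i
    have := Lapp (Perm.sumCongrHom _ _ (A, 1)) (Sum.inl i)
    rw [add_comm]
    exact this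
  · refine Lmem _ ?_
    show Perm.sign (Perm.sumCongr A 1) = 1
    rw [Perm.sign_sumCongr, map_one, mul_one]
    rcases Int.units_eq_one_or (Perm.sign A) with h | h
    · exact h
    · have e := congrArg Perm.sign hA
      rw [map_pow, h, ((Fact.out : p.Prime).odd_of_ne_two hp).neg_one_pow, map_one] at e
      exact absurd e (by decide)
  · refine Lmem _ ?_
    show Perm.sign (Perm.sumCongr M (swap false true)) = 1
    rw [Perm.sign_sumCongr, sign_mulLeft_generator hp hγ h0 h1, Perm.sign_swap (by decide)]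
    rfl
  · rw [← map_pow, Prod.pow_mk, hA, one_pow, Prod.mk_one_one, map_one]
  · rw [← map_pow, Prod.pow_mk, hM]
    obtain ⟨k, hk⟩ := (Fact.out : p.Prime).even_sub_one hp
    rw [hk, ← two_mul, pow_mul, pow_two, swap_mul_self, one_pow, Prod.mk_one_one, map_one]
  · rw [← map_pow, ← map_inv, ← map_mul, ← map_mul, ← map_pow]
    congr 1
    refine Prod.ext (Equiv.ext fun i => ?_) (by simp)
    simp only [Prod.fst_mul, Prod.pow_fst, Prod.fst_inv, Perm.mul_apply]
    obtain ⟨j, rfl⟩ : ∃ j, i = M j := ⟨M⁻¹ i, by simp⟩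
    rw [Perm.inv_def, Equiv.symm_apply_apply, Apow, Apow]
    simp only [M, Equiv.mulLeft₀_apply]
    push_cast
    linear_combination hs
  · have ea : S (M, swap false true) C.a = C.b := Lapp _ (Sum.inr false)
    have eb : S (M, swap false true) C.b = C.a := Lapp _ (Sum.inr true)
    have e0 : S (M, swap false true) (C.pt 0) = C.pt 0 := by
      have := Lapp (Perm.sumCongrHom _ _ (M, swap false true)) (Sum.inl 0)
      refine this.trans ?_
      show C.pt (M 0) = C.pt 0
      simp [M]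
    rw [cyc3_conj, ea, eb, e0, cyc3_inv C.a_ne_b (C.pt_a 0).symm (C.pt_b 0).symm]

end Cfsg.Agent.KSG55.Pres
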