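import Cfsg.Agent.KSG55.Pres.Glue
import Cfsg.Agent.KSG55.Pres.Model

set_option autoImplicit false

/-! From the relations to injectivity. -/

namespace Cfsg.Agent.KSG55.Pres

open Equiv

variable {G : Type*} [Group G] {n p : ℕ} [Fact p.Prime]

/-- The image of the generators of a copy. -/
theorem map_xs {φ : G →* Perm (Fin n)} (C : CoreSet n p) {u z : G} {ρ : Perm (Fin n)} (ha : ρ C.a = C.a)
    (hb : ρ C.b = C.b) (hpt : ∀ i, ρ (C.pt i) = C.pt (i + 1)) (φu : φ u = ρ) (φz : φ z = cyc3 C.a C.b (C.pt 0))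
    (i : ZMod p) : φ (xs p u z i) = cyc3 C.a C.b (C.pt i) := by
  have key : ∀ k : ℕ, (ρ ^ k) C.a = C.a ∧ (ρ ^ k) C.b = C.b ∧ (ρ ^ k) (C.pt 0) = C.pt k := by
    intro k
    induction k with
    | zero => simp
    | succ k ih =>
      rw [pow_succ', Perm.mul_apply, Perm.mul_apply, Perm.mul_apply, ih.1, ih.2.1, ih.2.2, ha, hb, hpt]
      exact ⟨rfl, rfl, by rw [Nat.cast_succ]⟩
  obtain ⟨k1, k2, k3⟩ := key i.val
  rw [xs, map_mul, map_mul, map_inv, map_pow, φu, φz, cyc3_conj, k1, k2, k3, ZMod.natCast_zmod_val]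

theorem closure_cyc3_eq (C : CoreSet n p) :
    Subgroup.closure (Set.range fun i => cyc3 C.a C.b (C.pt i)) = altOn C.pts := by
  refine le_antisymm ((Subgroup.closure_le _).mpr ?_) (altOn_le C.a_ne_b fun j hj ha hb => ?_)
  · rintro _ ⟨i, rfl⟩
    exact cyc3_mem_altOn C.a_ne_b (C.pt_b i).symm C.a_mem C.b_mem (C.pt_mem i)
  · simp only [CoreSet.pts, Finset.mem_insert, Finset.mem_image, Finset.mem_univ, true_and] at hj
    obtain rfl | rfl | ⟨i, rfl⟩ := hj
    · exact absurd rfl ha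
    · exact absurd rfl hb
    · exact Subgroup.subset_closure ⟨i, rfl⟩

theorem map_closure_xs {φ : G →* Perm (Fin n)} (C : CoreSet n p) {u z : G}
    (hx : ∀ i, φ (xs p u z i) = cyc3 C.a C.b (C.pt i)) :
    (Subgroup.closure (Set.range (xs p u z))).map φ = altOn C.pts := by
  rw [MonoidHom.map_closure, ← Set.range_comp, show ⇑φ ∘ xs p u z = fun i => cyc3 C.a C.b (C.pt i) from funext hx,
    closure_cyc3_eq]

/-- A copy is faithful up to the central involution. -/
theorem kernel_core {φ : G →* Perm (Fin n)} (C : CoreSet n p) (hn : p + 2 ≤ n) {γ : ZMod p} {s : ℕ} {u z h : G}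
    (R : CoreRel p γ s u z h) (hs : (γ - 1) * (s : ZMod p) = 1) (hγ : ∀ a : ZMod p, a ≠ 0 → ∃ l : ℕ, γ ^ l = a)
    (hx : ∀ i, φ (xs p u z i) = cyc3 C.a C.b (C.pt i)) :
    ∀ g ∈ Subgroup.closure (Set.range (xs p u z)), φ g = 1 → g = 1 ∨ g = z ^ 3 := by
  obtain ⟨c2, cu, cz, h3, hpair, -⟩ := R.main hs hγ
  set N := Subgroup.closure (Set.range (xs p u z)) with hN
  let x : ZMod p → N := fun i => ⟨xs p u z i, Subgroup.subset_closure ⟨i, rfl⟩⟩
  have hcN : z ^ 3 ∈ N := by
    rw [← h3 0]; exact pow_mem (x 0).2 3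
  let c : N := ⟨z ^ 3, hcN⟩
  have hcent : c ∈ Subgroup.center N := by
    have hle : N ≤ Subgroup.centralizer {z ^ 3} := by
      refine (Subgroup.closure_le _).mpr ?_
      rintro _ ⟨i, rfl⟩
      exact Subgroup.mem_centralizer_singleton_iff.mpr
        (((cu.pow_right i.val).mul_right cz).mul_right (cu.pow_right i.val).inv_right).eq.symm
    exact Subgroup.mem_center_iff.mpr fun g => Subtype.ext (Subgroup.mem_centralizer_singleton_iff.mp (hle g.2))
  have hZ : Subgroup.zpowers c ≤ Subgroup.center N := Subgroup.zpowers_le.mpr hcent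
  haveI : (Subgroup.zpowers c).Normal :=
    ⟨fun a ha g => by rw [Subgroup.mem_center_iff.mp (hZ ha) g, mul_inv_cancel_right]; exact ha⟩
  have hφc : φ (z ^ 3) = 1 := by
    rw [map_pow, ← xs_zero (p := p) (u := u) (z := z), hx, cyc3_cube C.a_ne_b (C.pt_a 0).symm (C.pt_b 0).symm]
  let φ' : N ⧸ Subgroup.zpowers c →* Perm (Fin n) :=
    QuotientGroup.lift _ (φ.comp N.subtype) (Subgroup.zpowers_le.mpr hφc)
  let xb : ZMod p → N ⧸ Subgroup.zpowers c := fun i => QuotientGroup.mk (x i)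
  have inj := carmichael xb φ' C.a C.b C.pt
    (fun i => by
      show QuotientGroup.mk (x i ^ 3) = 1
      rw [QuotientGroup.eq_one_iff, show x i ^ 3 = c from Subtype.ext (h3 i)]
      exact Subgroup.mem_zpowers c)
    (fun i j hij => by
      show QuotientGroup.mk ((x i * x j) ^ 2) = 1
      rw [QuotientGroup.eq_one_iff, show (x i * x j) ^ 2 = c from Subtype.ext (hpair i j hij)]
      exact Subgroup.mem_zpowers c)
    hx (by
      rw [closure_cyc3_eq, two_mul_card_altOn (by rw [C.card_pts]; omega), C.card_pts, ZMod.card])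
  intro g hg hφ
  have htop : Subgroup.closure (Set.range x) = ⊤ := by
    have e : Set.range x = N.subtype ⁻¹' Set.range (xs p u z) := by
      ext y
      exact ⟨fun ⟨i, hi⟩ => ⟨i, congrArg Subtype.val hi⟩, fun ⟨i, hi⟩ => ⟨i, Subtype.ext hi⟩⟩
    rw [e]
    exact Subgroup.closure_closure_coe_preimage
  have hmem : (QuotientGroup.mk ⟨g, hg⟩ : N ⧸ Subgroup.zpowers c) ∈ Subgroup.closure (Set.range xb) := by
    have : (Subgroup.closure (Set.range x)).map (QuotientGroup.mk' (Subgroup.zpowers c)) =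
        Subgroup.closure (Set.range xb) := by
      rw [MonoidHom.map_closure, ← Set.range_comp]; rfl
    rw [← this]
    exact Subgroup.mem_map_of_mem _ (by rw [htop]; trivial)
  obtain ⟨k, hk⟩ := Subgroup.mem_zpowers_iff.mp ((QuotientGroup.eq_one_iff _).mp (inj _ hmem hφ))
  have hk' : (z ^ 3) ^ k = g := congrArg Subtype.val hk
  have c2' : (z ^ 3) ^ (2 : ℤ) = 1 := by rw [zpow_two, ← pow_two, c2]
  rcases Int.even_or_odd k with ⟨j, rfl⟩ | ⟨j, rfl⟩
  · left
    rw [← hk', ← two_mul, zpow_mul, c2', one_zpow]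
  · right
    rw [← hk', zpow_add, zpow_mul, c2', one_zpow, one_mul, zpow_one]

end Cfsg.Agent.KSG55.Pres
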