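import Cfsg.Agent.KSG55.Pres.Kernel

set_option autoImplicit false

/-! Injectivity for the seven relations. -/

namespace Cfsg.Agent.KSG55.Pres

open Equiv
open scoped commutatorElement

variable {G : Type*} [Group G] {n p : ℕ} [Fact p.Prime]

/-- What makes the shape usable: either the shared element gives both factors directly, or the
involution comes for free. -/
inductive Kind (n : ℕ) (D : Shape n) {G : Type*} [Group G] (φ : G →* Perm (Fin n)) (P : Subgroup G) (gg : G) : Prop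
  | odd (hgg : gg * gg = 1) (hodd : Perm.sign D.g = -1) : Kind n D φ P gg
  | even (v₁ v₂ w : G) (h₁ : v₁ ∈ P) (h₂ : v₂ ∈ copy₂ P gg) (f₁ : φ v₁ * φ v₁ = 1) (f₂ : φ v₂ * φ v₂ = 1)
      (hg : gg = w * (v₁ * v₂) * w⁻¹)
      (hv : v₂ = 1 ∨ (D.σY ∈ Subgroup.zpowers D.q ∧ D.σS ∈ Subgroup.zpowers D.q ∧
        φ v₁ ∈ altOn (D.Ω₁ \ D.S) ∧ φ v₂ ∈ altOn ((D.Ω₂ \ D.Ω₁) ∪ D.S))) : Kind n D φ P gg

theorem glue_inj {φ : G →* Perm (Fin n)} {D : Shape n} {P : Subgroup G} {gg : G} (C : Copies φ D P gg)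
    {q₁ v ee ff : G} (hq₁ : q₁ ∈ P) (hv : v ∈ P) (φv : φ v = D.q) (amalgam : gg * q₁ * gg⁻¹ = v)
    (hee : ee ∈ P) (hff : ff ∈ copy₂ P gg) (φee : φ ee = D.e) (φff : φ ff = D.f) (hef : Commute ee ff)
    (hgen : Subgroup.closure ((P : Set G) ∪ {gg}) = ⊤) (K : Kind n D φ P gg) :
    ∀ x, φ x = 1 → x = 1 := by
  have hov : (D.Ω₁ ∩ D.Ω₂) \ D.S ⊆ D.Ω₁ ∩ D.Ω₂ := Finset.sdiff_subset
  have full : gg * gg = 1 → (altOn (D.Ω₁ ∩ D.Ω₂) ≤ (P ⊓ copy₂ P gg).map φ) ∧
      ∀ x ∈ P, φ x ∈ altOn (D.Ω₁ \ D.S) → ∀ y ∈ copy₂ P gg, φ y ∈ altOn ((D.Ω₂ \ D.Ω₁) ∪ D.S) → Commute x y :=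
    fun hgg =>
      have hM := C.overlap hgg hq₁ hv amalgam φv
      ⟨hM, C.comm (hM (altOn_mono hov D.hσY)) (hM (altOn_mono D.S_le D.hσS)) hee hff φee φff hef⟩
  cases K with
  | odd hgg hodd =>
    obtain ⟨hM, hc⟩ := full hgg
    refine odd_inj hgg hgen (fun x hx => ?_) (by rw [C.phi_gg, hodd]) (C.alt_inj hM hc)
    exact (C.img ▸ Subgroup.mem_map_of_mem φ hx : φ x ∈ altOn D.Ω₁).1
  | even v₁ v₂ w h₁ h₂ f₁ f₂ hg h =>
    have e₁ : v₁ * v₁ = 1 := C.inj _ (mul_mem h₁ h₁) (by rw [map_mul, f₁])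
    have e₂ : v₂ * v₂ = 1 := C.inj₂ _ (mul_mem h₂ h₂) (by rw [map_mul, f₂])
    have hc : Commute v₁ v₂ := by
      rcases h with rfl | ⟨hY, hS, m₁, m₂⟩
      · exact Commute.one_right v₁
      · have hq : D.q ∈ (P ⊓ copy₂ P gg).map φ := ⟨v, ⟨hv, q₁, hq₁, amalgam⟩, φv⟩
        exact C.comm (Subgroup.zpowers_le.mpr hq hY) (Subgroup.zpowers_le.mpr hq hS) hee hff φee φff hef _ h₁ m₁ _ h₂ m₂
    have hgg : gg * gg = 1 := by
      rw [hg, show w * (v₁ * v₂) * w⁻¹ * (w * (v₁ * v₂) * w⁻¹) = w * (v₁ * (v₂ * v₁) * v₂) * w⁻¹ by group,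
        ← hc.eq, show v₁ * (v₁ * v₂) * v₂ = v₁ * v₁ * (v₂ * v₂) by group, e₁, e₂, one_mul, mul_one, mul_inv_cancel]
    obtain ⟨hM, hcomm⟩ := full hgg
    set N := P ⊔ copy₂ P gg with hN
    have hnorm : N.Normal := by
      have hinv : gg⁻¹ = gg := inv_eq_of_mul_eq_one_right hgg
      have hconj : N.map (MulAut.conj gg).toMonoidHom ≤ N := by
        rw [hN, Subgroup.map_sup, Subgroup.map_map]
        refine sup_le le_sup_right ?_
        rintro _ ⟨y, hy, rfl⟩
        simp only [MonoidHom.comp_apply, MulEquiv.coe_toMonoidHom, MulAut.conj_apply, hinv]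
        rw [show gg * (gg * y * gg) * gg = gg * gg * y * (gg * gg) by simp only [mul_assoc], hgg, one_mul, mul_one]
        exact le_sup_left (α := Subgroup G) hy
      rw [← Subgroup.normalizer_eq_top_iff, eq_top_iff, ← hgen, Subgroup.closure_le]
      rintro x (hx | rfl)
      · exact Subgroup.le_normalizer (le_sup_left (α := Subgroup G) hx)
      · refine Subgroup.mem_normalizer_iff.mpr fun y => ⟨fun hy => hconj ⟨y, hy, rfl⟩, fun hy => ?_⟩
        have := hconj ⟨_, hy, rfl⟩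
        simp only [MulEquiv.coe_toMonoidHom, MulAut.conj_apply, hinv] at this
        rwa [show x * (x * y * x) * x = x * x * y * (x * x) by simp only [mul_assoc], hgg, one_mul, mul_one] at this
    have hggN : gg ∈ N := by
      rw [hg]
      exact hnorm.conj_mem _ (mul_mem (le_sup_left (α := Subgroup G) h₁) (le_sup_right (α := Subgroup G) h₂)) w
    have htop : ∀ x : G, x ∈ N := fun x => by
      have : Subgroup.closure ((P : Set G) ∪ {gg}) ≤ N := by
        rw [Subgroup.closure_le]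
        rintro y (hy | rfl)
        · exact le_sup_left (α := Subgroup G) hy
        · exact hggN
      rw [hgen] at this
      exact this trivial
    exact fun x => C.alt_inj hM hcomm x (htop x)

/-- The relations, at the level of a group with a homomorphism. -/
theorem main_inj {φ : G →* Perm (Fin n)} (C : CoreSet n p) (D : Shape n) (hn : p + 2 ≤ n)
    (hD : D.Ω₁ = C.pts) {γ : ZMod p} {s : ℕ} {u z gg h q₁ v ee ff : G} {l : ℕ}
    (R : CoreRel p γ s u z h) (hs : (γ - 1) * (s : ZMod p) = 1) (hγ : ∀ a : ZMod p, a ≠ 0 → ∃ l : ℕ, γ ^ l = a)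
    (hx : ∀ i, φ (xs p u z i) = cyc3 C.a C.b (C.pt i)) (φgg : φ gg = D.g)
    (hq₁ : q₁ ∈ Subgroup.closure (Set.range (xs p u z))) (hv : v ∈ Subgroup.closure (Set.range (xs p u z)))
    (hee : ee ∈ Subgroup.closure (Set.range (xs p u z)))
    (hff : ff ∈ copy₂ (Subgroup.closure (Set.range (xs p u z))) gg)
    (φv : φ v = D.q) (φee : φ ee = D.e) (φff : φ ff = D.f) (hl : Odd l) (hql : D.q ^ l = 1)
    (amalgam : gg * q₁ * gg⁻¹ = v ^ (l + 1) * z ^ 3) (comm : ee * ff * ee⁻¹ * ff⁻¹ = z ^ 3)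
    (hgen : Subgroup.closure ({u, z, gg} : Set G) = ⊤)
    (K : Kind n D φ (Subgroup.closure (Set.range (xs p u z))) gg) :
    ∀ x, φ x = 1 → x = 1 := by
  obtain ⟨c2, cu, cz, h3, -, hu⟩ := R.main hs hγ
  set P := Subgroup.closure (Set.range (xs p u z)) with hP
  set c := z ^ 3 with hc
  have ker : ∀ g ∈ P, φ g = 1 → g = 1 ∨ g = c := kernel_core C hn R hs hγ hx
  have hz : z ∈ P := Subgroup.subset_closure ⟨0, xs_zero⟩
  have hcP : c ∈ P := pow_mem hz 3
  have φc : φ c = 1 := by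
    rw [hc, map_pow, ← xs_zero (p := p) (u := u) (z := z), hx, cyc3_cube C.a_ne_b (C.pt_a 0).symm (C.pt_b 0).symm]
  have le2 : Even (l + 1) := hl.add_one
  have vl : (v ^ (l + 1)) ^ l = 1 := by
    rw [← pow_mul, mul_comm, pow_mul]
    rcases ker _ (pow_mem hv l) (by rw [map_pow, φv, hql]) with e | e <;> rw [e]
    · rw [one_pow]
    · obtain ⟨k, hk⟩ := le2; rw [hk, ← two_mul, pow_mul, c2, one_pow]
  -- the involution `c` is central
  have hvc : Commute v c := by
    have hle : P ≤ Subgroup.centralizer {c} := by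
      refine (Subgroup.closure_le _).mpr ?_
      rintro _ ⟨i, rfl⟩
      exact Subgroup.mem_centralizer_singleton_iff.mpr
        (((cu.pow_right i.val).mul_right cz).mul_right (cu.pow_right i.val).inv_right).eq.symm
    exact Subgroup.mem_centralizer_singleton_iff.mp (hle hv)
  have cl : c ^ l = c := by
    obtain ⟨k, hk⟩ := hl; rw [hk, pow_succ, pow_mul, c2, one_pow, one_mul]
  have am2 : gg * q₁ ^ l * gg⁻¹ = c := by
    rw [← conj_pow, amalgam, (hvc.pow_left (l + 1)).mul_pow, vl, one_mul, cl]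
  have φq₁ : φ (q₁ ^ l) = 1 := by
    have := congrArg φ am2
    rwa [map_mul, map_mul, map_inv, φc, mul_inv_eq_one, mul_eq_left] at this
  have cg : Commute gg c := by
    rcases ker _ (pow_mem hq₁ l) φq₁ with e | e <;> rw [e] at am2
    · rw [mul_one, mul_inv_cancel] at am2
      rw [← am2]; exact Commute.one_right gg
    · exact mul_inv_eq_iff_eq_mul.mp am2
  have hcent : c ∈ Subgroup.center G := by
    have : (⊤ : Subgroup G) ≤ Subgroup.centralizer {c} := by
      rw [← hgen, Subgroup.closure_le]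
      rintro x (rfl | rfl | rfl) <;> refine Subgroup.mem_centralizer_singleton_iff.mpr ?_
      exacts [cu.eq.symm, cz.eq.symm, cg.eq]
    exact Subgroup.mem_center_iff.mpr fun g => Subgroup.mem_centralizer_singleton_iff.mp (this trivial)
  haveI : (Subgroup.zpowers c).Normal :=
    ⟨fun a ha g => by
      rw [Subgroup.mem_center_iff.mp (Subgroup.zpowers_le.mpr hcent ha) g, mul_inv_cancel_right]; exact ha⟩
  let π := QuotientGroup.mk' (Subgroup.zpowers c)
  let φ' : G ⧸ Subgroup.zpowers c →* Perm (Fin n) :=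
    QuotientGroup.lift _ φ (Subgroup.zpowers_le.mpr φc)
  have hφ' : ∀ x, φ' (π x) = φ x := fun x => rfl
  have πc : π c = 1 := (QuotientGroup.eq_one_iff _).mpr (Subgroup.mem_zpowers c)
  have hcopy : (copy₂ P gg).map π = copy₂ (P.map π) (π gg) := by
    simp only [copy₂, Subgroup.map_map]
    congr 1
  have C' : Copies φ' D (P.map π) (π gg) := by
    refine ⟨?_, ?_, φgg⟩
    · rintro _ ⟨y, hy, rfl⟩ e
      rcases ker y hy e with rfl | rfl
      · exact map_one π
      · exact πc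
    · rw [Subgroup.map_map, show φ'.comp π = φ from MonoidHom.ext hφ', map_closure_xs C hx, hD]
  have hgen' : Subgroup.closure ((P.map π : Set (G ⧸ Subgroup.zpowers c)) ∪ {π gg}) = ⊤ := by
    rw [eq_top_iff, ← Subgroup.map_top_of_surjective π (QuotientGroup.mk'_surjective _), ← hgen,
      MonoidHom.map_closure, Subgroup.closure_le]
    rintro _ ⟨x, rfl | rfl | rfl, rfl⟩ <;> apply Subgroup.subset_closure
    exacts [Or.inl ⟨_, hu, rfl⟩, Or.inl ⟨_, hz, rfl⟩, Or.inr rfl]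
  have K' : Kind n D φ' (P.map π) (π gg) := by
    cases K with
    | odd hgg hodd => exact Kind.odd (by rw [← map_mul, hgg, map_one]) hodd
    | even v₁ v₂ w h₁ h₂ f₁ f₂ hg h =>
      refine Kind.even (π v₁) (π v₂) (π w) ⟨_, h₁, rfl⟩ (hcopy ▸ Subgroup.mem_map_of_mem π h₂) f₁ f₂
        (by rw [← map_mul, ← map_inv, ← map_mul, ← map_mul, ← hg]) ?_
      rcases h with rfl | h
      · exact Or.inl (map_one π)
      · exact Or.inr h
  have am' : π gg * π q₁ * (π gg)⁻¹ = π v := by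
    rw [← map_mul, ← map_inv, ← map_mul, amalgam, map_mul, πc, mul_one, map_pow, pow_succ]
    have : π v ^ l = 1 := C'.inj _ (pow_mem (Subgroup.mem_map_of_mem π hv) l) (by rw [map_pow, hφ', φv, hql])
    rw [this, one_mul]
  have hef : Commute (π ee) (π ff) := by
    have h1 := congrArg π comm
    rw [πc, map_mul, map_mul, map_mul, map_inv, map_inv, mul_inv_eq_one, mul_inv_eq_iff_eq_mul] at h1
    exact h1
  have inj := glue_inj C' (Subgroup.mem_map_of_mem π hq₁) (Subgroup.mem_map_of_mem π hv) φv am'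
    (Subgroup.mem_map_of_mem π hee) (hcopy ▸ Subgroup.mem_map_of_mem π hff) φee φff hef hgen' K'
  have kerG : ∀ x, φ x = 1 → x ∈ Subgroup.zpowers c := fun x hx => (QuotientGroup.eq_one_iff x).mp (inj (π x) hx)
  -- a commutator of the extension commutes with `ff`
  have c1 : c = 1 := by
    let K := P ⊓ (altOn (D.Ω₁ \ D.S)).comap φ
    have hK : ⁅K, K⁆ ≤ Subgroup.centralizer {ff} := by
      rw [Subgroup.commutator_le]
      intro x hx y hy
      have key : ∀ x ∈ K, ∃ d ∈ Subgroup.center G, ff * x * ff⁻¹ = x * d := fun x hx => by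
        refine ⟨x⁻¹ * (ff * x * ff⁻¹), Subgroup.zpowers_le.mpr hcent (kerG _ ?_), by group⟩
        have hxX : φ x ∈ altOn (D.Ω₁ \ D.S) := hx.2
        have hd : Commute (φ x) (φ ff) := commute_of_disjoint hxX (φff ▸ D.hf) D.disjoint
        rw [map_mul, map_mul, map_mul, map_inv, map_inv, ← hd.eq, mul_inv_cancel_right, inv_mul_cancel]
      obtain ⟨d, hd, hxd⟩ := key x hx
      obtain ⟨d', hd', hyd⟩ := key y hy
      have e : ff * ⁅x, y⁆ * ff⁻¹ = ⁅x * d, y * d'⁆ := by
        rw [← hxd, ← hyd, commutatorElement_def, commutatorElement_def]; group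
      have e2 : ⁅x * d, y * d'⁆ = ⁅x, y⁆ := by
        have c1 : ∀ g, d * g = g * d := fun g => (Subgroup.mem_center_iff.mp hd g).symm
        have c2 : ∀ g, d' * g = g * d' := fun g => (Subgroup.mem_center_iff.mp hd' g).symm
        simp only [commutatorElement_def, mul_inv_rev]
        rw [show x * d * (y * d') * (d⁻¹ * x⁻¹) * (d'⁻¹ * y⁻¹) = x * (d * (y * d')) * d⁻¹ * x⁻¹ * (d'⁻¹ * y⁻¹) by group,
          c1, show x * (y * d' * d) * d⁻¹ * x⁻¹ * (d'⁻¹ * y⁻¹) = x * y * (d' * x⁻¹) * d'⁻¹ * y⁻¹ by group, c2]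
        group
      rw [Subgroup.mem_centralizer_singleton_iff]
      rw [e2, mul_inv_eq_iff_eq_mul] at e
      exact e.symm
    have hXle : D.Ω₁ \ D.S ⊆ C.pts := hD ▸ Finset.sdiff_subset
    have hKm : K.map φ = altOn (D.Ω₁ \ D.S) := by
      refine le_antisymm (Subgroup.map_le_iff_le_comap.mpr inf_le_right) fun σ hσ => ?_
      obtain ⟨x, hx1, rfl⟩ := (map_closure_xs C hx).ge (altOn_mono hXle hσ)
      exact ⟨x, ⟨hx1, hσ⟩, rfl⟩
    obtain ⟨k, hk, hφk⟩ : D.e ∈ ⁅K, K⁆.map φ := by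
      rw [Subgroup.map_commutator, hKm, commutator_altOn D.five_le]; exact D.he
    have hd : k⁻¹ * ee ∈ Subgroup.center G :=
      Subgroup.zpowers_le.mpr hcent (kerG _ (by rw [map_mul, map_inv, hφk, φee, inv_mul_cancel]))
    have h1 : Commute ee ff := by
      have e1 : Commute k ff := Subgroup.mem_centralizer_singleton_iff.mp (hK hk)
      have e2 : Commute (k⁻¹ * ee) ff := (Subgroup.mem_center_iff.mp hd ff).symm
      have := e1.mul_left e2
      rwa [mul_inv_cancel_left] at this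
    rw [← comm, h1.eq]
    group
  intro x hx
  have := kerG x hx
  rwa [c1, Subgroup.zpowers_one_eq_bot, Subgroup.mem_bot] at this

end Cfsg.Agent.KSG55.Pres
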