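import Cfsg.Agent.KSG55.Pres.Seven
import Cfsg.Agent.KSG55.Pres.Tools

set_option autoImplicit false

/-! Degrees ten, eleven and twelve: shapes checked by computation. -/

namespace Cfsg.Agent.KSG55.Pres

open Equiv

variable {n : ℕ}

/-- A permutation from a list of cycles. -/
def cycList (L : List (List (Fin n))) : Perm (Fin n) := (L.map List.formPerm).prod

/-- The product along a word. -/
def wordProd {G : Type*} [Group G] (x y : G) (w : List Bool) : G := (w.map fun b => cond b x y).prod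

theorem wordProd_mem {G : Type*} [Group G] (x y : G) (w : List Bool) : wordProd x y w ∈ Subgroup.closure {x, y} := by
  refine Subgroup.list_prod_mem _ fun g hg => ?_
  obtain ⟨b, -, rfl⟩ := List.mem_map.mp hg
  cases b
  · exact Subgroup.subset_closure (Or.inr rfl)
  · exact Subgroup.subset_closure (Or.inl rfl)

theorem altOn_le_cert {T : Finset (Fin n)} {a b : Fin n} (hab : a ≠ b) {x y : Perm (Fin n)} (w : List (List Bool))
    (h : ∀ j ∈ T, j ≠ a → j ≠ b → wordProd x y (w.getD j.val []) = cyc3 a b j) :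
    altOn T ≤ Subgroup.closure {x, y} :=
  altOn_le hab fun j hj ha hb => h j hj ha hb ▸ wordProd_mem x y _

/-- Even and supported in `T`, in a form that can be computed. -/
abbrev EvenIn (σ : Perm (Fin n)) (T : Finset (Fin n)) : Prop :=
  Perm.sign σ = 1 ∧ ∀ x, x ∉ T → σ x = x

/-- The data in a small degree. -/
structure MidData (n : ℕ) [NeZero n] where
  (d k : ℕ)
  hn : n = 2 * d + k
  gC : List (List (Fin n))
  qC : List (List (Fin n))
  eC : List (List (Fin n))
  fC : List (List (Fin n))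
  (wX wZ wM : List (List Bool))
  g_sq : cycList gC * cycList gC = 1
  g_map : ∀ x : Fin n, ((cycList gC x).val < k ∨ k + d ≤ (cycList gC x).val) ↔ x.val < k + d
  hq : EvenIn (cycList qC) (Finset.univ.filter fun x : Fin n => x.val < k)
  he : EvenIn (cycList eC) (Finset.univ.filter fun x : Fin n => x.val < 2 ∨ (5 ≤ x.val ∧ x.val < k + d))
  hf : EvenIn (cycList fC) (Finset.univ.filter fun x : Fin n => (2 ≤ x.val ∧ x.val < 5) ∨ k + d ≤ x.val)
  hk6 : 6 ≤ k ∧ k + d = 9
  hX : ∀ j : Fin n, (j.val < 2 ∨ (5 ≤ j.val ∧ j.val < k + d)) → j ≠ 0 → j ≠ 1 →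
    wordProd (cyc3 (0 : Fin n) 1 5) (cycList eC) (wX.getD j.val []) = cyc3 (0 : Fin n) 1 j
  hZ : ∀ j : Fin n, ((2 ≤ j.val ∧ j.val < 5) ∨ k + d ≤ j.val) → j ≠ 2 → j ≠ 3 →
    wordProd (cyc3 (2 : Fin n) 3 4) (cycList fC) (wZ.getD j.val []) = cyc3 (2 : Fin n) 3 j
  hM : ∀ j : Fin n, j.val < k → j ≠ 0 → j ≠ 1 →
    wordProd (cycList qC) (cycList gC * cycList qC * cycList gC) (wM.getD j.val []) = cyc3 (0 : Fin n) 1 j

namespace MidData

variable [NeZero n] (M : MidData n)

theorem val_lit (h : 9 ≤ n) : (0 % n = 0 ∧ 1 % n = 1 ∧ 2 % n = 2) ∧ (3 % n = 3 ∧ 4 % n = 4 ∧ 5 % n = 5) := by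
  refine ⟨⟨?_, ?_, ?_⟩, ⟨?_, ?_, ?_⟩⟩ <;> exact Nat.mod_eq_of_lt (by omega)

include M in
theorem nine_le : 9 ≤ n := by have := M.hn; have := M.hk6; omega

/-- The set of the first copy. -/
def A : Finset (Fin n) := Finset.univ.filter fun x => x.val < M.k + M.d
/-- The set of the second copy. -/
def B : Finset (Fin n) := Finset.univ.filter fun x => x.val < M.k ∨ M.k + M.d ≤ x.val
/-- The second factor's part of the overlap. -/
def S (_M : MidData n) : Finset (Fin n) := Finset.univ.filter fun x => 2 ≤ x.val ∧ x.val < 5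

theorem eX : M.A \ M.S = Finset.univ.filter fun x => x.val < 2 ∨ (5 ≤ x.val ∧ x.val < M.k + M.d) := by
  have := M.hk6
  ext x; simp [A, S]; omega
theorem eZ : (M.B \ M.A) ∪ M.S = Finset.univ.filter fun x => (2 ≤ x.val ∧ x.val < 5) ∨ M.k + M.d ≤ x.val := by
  ext x; simp [A, B, S]; omega
theorem eM : M.A ∩ M.B = Finset.univ.filter fun x => x.val < M.k := by
  ext x; simp [A, B]; omega

/-- The shape. -/
def shape : Shape n where
  Ω₁ := M.A
  Ω₂ := M.B
  S := M.S
  g := cycList M.gC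
  a := 0
  b := 1
  σY := cyc3 0 1 5
  σS := cyc3 2 3 4
  q := cycList M.qC
  e := cycList M.eC
  f := cycList M.fC
  g_sq := M.g_sq
  g_map x := by simpa [A, B] using M.g_map x
  cover := by ext x; simp [A, B]; omega
  S_le x := by have := M.hk6; simp [A, B, S]; omega
  two_le_S := by
    obtain ⟨⟨h0, h1, h2⟩, h3, h4, h5⟩ := val_lit (n := n) M.nine_le
    exact Finset.one_lt_card.mpr ⟨2, by simp [S, Fin.val_ofNat, h2], 3, by simp [S, Fin.val_ofNat, h3], by simp [Fin.ext_iff, Fin.val_ofNat, h2, h3]⟩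
  a_mem := by
    obtain ⟨⟨h0, h1, h2⟩, h3, h4, h5⟩ := val_lit (n := n) M.nine_le
    have := M.hk6
    simp [A, B, S, Fin.val_ofNat, h0]; omega
  b_mem := by
    obtain ⟨⟨h0, h1, h2⟩, h3, h4, h5⟩ := val_lit (n := n) M.nine_le
    have := M.hk6
    simp [A, B, S, Fin.val_ofNat, h1]; omega
  a_ne_b := by
    obtain ⟨⟨h0, h1, h2⟩, h3, h4, h5⟩ := val_lit (n := n) M.nine_le
    simp [Fin.ext_iff, Fin.val_ofNat, h0, h1]
  five_le := by
    have := M.hk6; have := M.nine_le
    rw [← Finset.card_range 5]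
    refine Finset.card_le_card_of_injOn (fun i => ⟨min (if i < 2 then i else i + 3) (n - 1), by omega⟩)
      (fun i hi => ?_) (fun i hi j hj e => ?_)
    · simp only [Finset.coe_range, Set.mem_Iio] at hi
      simp [A, S]
      split_ifs <;> omega
    · simp only [Finset.coe_range, Set.mem_Iio] at hi hj
      simp [Fin.ext_iff] at e
      split_ifs at e <;> omega
  hσY := by
    obtain ⟨⟨h0, h1, h2⟩, h3, h4, h5⟩ := val_lit (n := n) M.nine_le
    have := M.hk6
    refine cyc3_mem_altOn (by simp [Fin.ext_iff, Fin.val_ofNat, h0, h1]) (by simp [Fin.ext_iff, Fin.val_ofNat, h1, h5]) ?_ ?_ ?_ <;>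
      simp [A, B, S, Fin.val_ofNat, h0, h1, h5] <;> omega
  hσS := by
    obtain ⟨⟨h0, h1, h2⟩, h3, h4, h5⟩ := val_lit (n := n) M.nine_le
    refine cyc3_mem_altOn (by simp [Fin.ext_iff, Fin.val_ofNat, h2, h3]) (by simp [Fin.ext_iff, Fin.val_ofNat, h3, h4]) ?_ ?_ ?_ <;>
      simp [S, Fin.val_ofNat, h2, h3, h4]
  hq := M.eM ▸ M.hq
  he := M.eX ▸ M.he
  hf := M.eZ ▸ M.hf
  genX := by
    obtain ⟨⟨h0, h1, h2⟩, h3, h4, h5⟩ := val_lit (n := n) M.nine_le
    refine altOn_le_cert (a := 0) (b := 1) (by simp [Fin.ext_iff, Fin.val_ofNat, h0, h1]) M.wX fun j hj => ?_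
    rw [M.eX] at hj; exact M.hX j (Finset.mem_filter.mp hj).2
  genZ := by
    obtain ⟨⟨h0, h1, h2⟩, h3, h4, h5⟩ := val_lit (n := n) M.nine_le
    refine altOn_le_cert (a := 2) (b := 3) (by simp [Fin.ext_iff, Fin.val_ofNat, h2, h3]) M.wZ fun j hj => ?_
    rw [M.eZ] at hj; exact M.hZ j (Finset.mem_filter.mp hj).2
  genM := by
    obtain ⟨⟨h0, h1, h2⟩, h3, h4, h5⟩ := val_lit (n := n) M.nine_le
    refine altOn_le_cert (a := 0) (b := 1) (by simp [Fin.ext_iff, Fin.val_ofNat, h0, h1]) M.wM fun j hj => ?_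
    rw [M.eM] at hj; exact M.hM j (Finset.mem_filter.mp hj).2

/-- The core. -/
def core (h : 9 ≤ n) : CoreSet n 7 where
  a := ⟨0, by omega⟩
  b := ⟨1, by omega⟩
  pt i := ⟨i.val + 2, by have := i.val_lt; omega⟩
  a_ne_b := by simp [Fin.ext_iff]
  pt_inj i j h := ZMod.val_injective _ (by simpa [Fin.ext_iff] using h)
  pt_a i := by simp [Fin.ext_iff]
  pt_b i := by simp [Fin.ext_iff]

theorem core_pts [Fact (Nat.Prime 7)] : M.shape.Ω₁ = (core (n := n) M.nine_le).pts := by
  have := M.hk6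
  ext x
  simp only [shape, A, CoreSet.pts, core, Finset.mem_filter, Finset.mem_univ, true_and, Finset.mem_insert,
    Finset.mem_image]
  constructor
  · intro h
    rcases Nat.lt_or_ge x.1 2 with h2 | h2
    · rcases (show x.1 = 0 ∨ x.1 = 1 by omega) with e | e
      · exact Or.inl (Fin.ext e)
      · exact Or.inr (Or.inl (Fin.ext e))
    · refine Or.inr (Or.inr ⟨((x.1 - 2 : ℕ) : ZMod 7), Fin.ext ?_⟩)
      show ((x.1 - 2 : ℕ) : ZMod 7).val + 2 = x.1
      rw [ZMod.val_natCast, Nat.mod_eq_of_lt (by omega)]; omega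
  · rintro (rfl | rfl | ⟨i, rfl⟩)
    · show (0 : ℕ) < _; omega
    · show (1 : ℕ) < _; omega
    · have := i.val_lt
      show i.val + 2 < _; omega

theorem presOn_sym (l : ℕ) (hl : Odd l) (hq : cycList M.qC ^ l = 1) (hodd : Perm.sign (cycList M.gC) = -1) :
    ∃ gens : Fin 3 → Perm (Fin n), PresOn gens 7 ∧
      gens 1 = cyc3 (core M.nine_le).a (core M.nine_le).b ((core (n := n) M.nine_le).pt 0) := by
  haveI : Fact (Nat.Prime 7) := ⟨by norm_num⟩
  exact Pres.presOn_sym (core M.nine_le) M.shape M.nine_le (by norm_num) M.core_pts hl hq hodd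

theorem presOn_alt (l : ℕ) (hl : Odd l) (hq : cycList M.qC ^ l = 1) (τ : List (List (Fin n)))
    (hτ : EvenIn (cycList τ) (Finset.univ.filter fun x : Fin n => x.val < M.k + M.d))
    (hτ2 : cycList τ * cycList τ = 1)
    (hc : (cycList τ).support.card = (cycList M.gC).support.card) (a b : Fin n) (hab : a ≠ b)
    (ha : cycList M.gC a = a) (hb : cycList M.gC b = b) :
    ∃ gens : Fin 3 → alternatingGroup (Fin n), PresOn gens 7 ∧ (gens 1 : Perm (Fin n)) =
      cyc3 (core M.nine_le).a (core M.nine_le).b ((core (n := n) M.nine_le).pt 0) := by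
  haveI : Fact (Nat.Prime 7) := ⟨by norm_num⟩
  obtain ⟨ω, hω, hg⟩ := exists_even_conj (isConj_of_invol hτ2 M.g_sq hc) hab ha hb
  exact Pres.presOn_alt (core M.nine_le) M.shape M.nine_le (by norm_num) M.core_pts hl hq (cycList τ) 1 ω hτ
    (one_mem _) hτ2 (one_mul 1) hω (by rw [mul_one]; exact hg) (Or.inl rfl)

end MidData

end Cfsg.Agent.KSG55.Pres
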