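import Mathlib

set_option autoImplicit false

/-! A prime a little above the half. -/

namespace Cfsg.Agent.KSG55.Pres

open Nat

theorem succ_pow_eight_le (r : ℕ) (hr : 45 ≤ r) : (r + 1) ^ 8 ≤ 2 ^ r := by
  induction r, hr using Nat.le_induction with
  | base => norm_num
  | succ r hr ih =>
    have h1 : (12 * (r + 2)) ^ 8 ≤ (13 * (r + 1)) ^ 8 := Nat.pow_le_pow_left (by omega) 8
    rw [mul_pow, mul_pow] at h1
    rw [pow_succ 2 r]
    show (r + 2) ^ 8 ≤ 2 ^ r * 2
    norm_num at h1
    omega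

theorem centralBinom_le_of_sparse (N : ℕ) (hN : 5 < N)
    (no_prime : ∀ p : ℕ, p.Prime → N + 5 < p → 2 * N < p) :
    centralBinom N ≤ (2 * N) ^ (sqrt (2 * N) + 5) * 4 ^ (2 * N / 3) := by
  have hpos : 1 ≤ 2 * N := by omega
  let S := {p ∈ Finset.range (2 * N + 1) | Nat.Prime p}
  let f x := x ^ N.centralBinom.factorization x
  have hS : ∏ x ∈ S, f x = centralBinom N := by
    rw [← N.prod_pow_factorization_centralBinom]
    refine Finset.prod_filter_of_ne fun p _ h => ?_
    contrapose h; dsimp only [f]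
    rw [factorization_eq_zero_of_not_prime N.centralBinom h, pow_zero]
  let A := Finset.Icc 1 (sqrt (2 * N)) ∪ Finset.Icc (N + 1) (N + 5)
  rw [← hS, ← Finset.prod_filter_mul_prod_filter_not S (· ∈ A)]
  apply mul_le_mul'
  · refine (Finset.prod_le_prod' fun p _ => (?_ : f p ≤ 2 * N)).trans ?_
    · exact pow_factorization_choose_le (by omega)
    rw [Finset.prod_const]
    refine pow_right_mono₀ hpos ((Finset.card_le_card (t := A) fun x hx => (Finset.mem_filter.1 hx).2).trans ?_)
    refine (Finset.card_union_le _ _).trans ?_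
    simp
  · refine le_trans ?_ (primorial_le_four_pow (2 * N / 3))
    rw [← Finset.prod_filter_of_ne (p := fun p => p ≤ 2 * N / 3)]
    · refine (Finset.prod_le_prod' fun p hp => (?_ : f p ≤ p)).trans ?_
      · simp only [Finset.mem_filter, S, A, Finset.mem_union, Finset.mem_Icc, not_or, not_and, not_le] at hp
        obtain ⟨⟨⟨-, hp⟩, h1, -⟩, -⟩ := hp
        refine (pow_right_mono₀ hp.one_lt.le ?_).trans (pow_one p).le
        exact Nat.factorization_choose_le_one (sqrt_lt'.mp (h1 hp.one_lt.le))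
      · refine Finset.prod_le_prod_of_subset_of_one_le' ?_ fun p hp _ => (Finset.mem_filter.1 hp).2.one_lt.le
        intro p hp
        simp only [Finset.mem_filter, S, Finset.mem_range] at hp ⊢
        exact ⟨by omega, hp.1.1.2⟩
    · intro p hp h
      simp only [Finset.mem_filter, S, A, Finset.mem_range, Finset.mem_union, Finset.mem_Icc, not_or, not_and,
        not_le] at hp
      obtain ⟨⟨hlt, hp⟩, -, h2⟩ := hp
      by_contra hc
      apply h
      have h3 : 2 * N < 3 * p := by omega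
      have hpN : p ≤ N := by
        by_contra hpN
        have := h2 (by omega)
        have := no_prime p hp (by omega)
        omega
      simp only [f]
      rw [factorization_centralBinom_of_two_mul_self_lt_three_mul (by omega) hpN h3, pow_zero]

theorem exists_prime_above_half (N : ℕ) (hN : 1020 ≤ N) : ∃ p : ℕ, p.Prime ∧ N + 5 < p ∧ p ≤ 2 * N := by
  by_contra hc
  push Not at hc
  have hb := centralBinom_le_of_sparse N (by omega) hc
  have h4 := Nat.four_pow_lt_mul_centralBinom N (by omega)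
  set r := sqrt (2 * N) with hr
  set e := N - 2 * N / 3 with he
  have r45 : 45 ≤ r := le_sqrt.mpr (by omega)
  have r2 : r * r ≤ 2 * N := sqrt_le _
  have r3 : 2 * N ≤ (r + 1) ^ 2 := (lt_succ_sqrt' (2 * N)).le
  have key : ((r + 1) ^ 2) ^ (r + 6) ≤ 4 ^ e := by
    refine (pow_le_pow_iff_left₀ (Nat.zero_le _) (Nat.zero_le _) (n := 4) (by norm_num)).mp ?_
    calc (((r + 1) ^ 2) ^ (r + 6)) ^ 4 = ((r + 1) ^ 8) ^ (r + 6) := by rw [← pow_mul, ← pow_mul, ← pow_mul]; congr 1; ring
      _ ≤ (2 ^ r) ^ (r + 6) := Nat.pow_le_pow_left (succ_pow_eight_le r r45) _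
      _ = 2 ^ (r * (r + 6)) := by rw [← pow_mul]
      _ ≤ 2 ^ (8 * e) := Nat.pow_le_pow_right (by norm_num) (by
          have : N ≤ 3 * e := by omega
          nlinarith)
      _ = (4 ^ e) ^ 4 := by rw [← pow_mul, show 4 = 2 ^ 2 by norm_num, ← pow_mul]; congr 1; ring
  have : N * centralBinom N ≤ 4 ^ N :=
    calc N * centralBinom N ≤ (2 * N) * ((2 * N) ^ (r + 5) * 4 ^ (2 * N / 3)) := Nat.mul_le_mul (by omega) hb
      _ = (2 * N) ^ (r + 6) * 4 ^ (2 * N / 3) := by ring
      _ ≤ 4 ^ e * 4 ^ (2 * N / 3) := Nat.mul_le_mul_right _ ((Nat.pow_le_pow_left r3 _).trans key)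
      _ = 4 ^ N := by rw [← pow_add]; congr 1; omega
  omega

/-- The prime used for `n` points. -/
theorem exists_prime_for_degree (n : ℕ) (hn : 14 ≤ n) :
    ∃ p : ℕ, p.Prime ∧ p + 2 ≤ n ∧ n + 10 ≤ 2 * (p + 2) := by
  by_cases h : 2100 ≤ n
  · obtain ⟨p, hp, h1, h2⟩ := exists_prime_above_half ((n - 2) / 2) (by omega)
    exact ⟨p, hp, by omega, by omega⟩
  by_cases n ≤ 16; · exact ⟨11, by norm_num, by omega, by omega⟩
  by_cases n ≤ 20; · exact ⟨13, by norm_num, by omega, by omega⟩
  by_cases n ≤ 28; · exact ⟨17, by norm_num, by omega, by omega⟩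
  by_cases n ≤ 40; · exact ⟨23, by norm_num, by omega, by omega⟩
  by_cases n ≤ 56; · exact ⟨31, by norm_num, by omega, by omega⟩
  by_cases n ≤ 100; · exact ⟨53, by norm_num, by omega, by omega⟩
  by_cases n ≤ 188; · exact ⟨97, by norm_num, by omega, by omega⟩
  by_cases n ≤ 356; · exact ⟨181, by norm_num, by omega, by omega⟩
  by_cases n ≤ 700; · exact ⟨353, by norm_num, by omega, by omega⟩
  by_cases n ≤ 1376; · exact ⟨691, by norm_num, by omega, by omega⟩
  exact ⟨1373, by norm_num, by omega, by omega⟩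

end Cfsg.Agent.KSG55.Pres
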