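import Cfsg.Agent.KSG55.Pres.Basic
import Cfsg.Agent.KSG55.Pres.Main

set_option autoImplicit false

/-! Seven relations on three generators. -/

namespace Cfsg.Agent.KSG55.Pres

open Equiv

variable {n p : ℕ} [Fact p.Prime]

/-- The words on `u`, `z` lying in the copy. -/
abbrev wordP (p : ℕ) : Subgroup (FreeGroup (Fin 3)) :=
  Subgroup.closure (Set.range (xs p (FreeGroup.of 0) (FreeGroup.of 1)))

theorem map_xs_hom {G H : Type*} [Group G] [Group H] (f : G →* H) (u z : G) (i : ZMod p) :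
    f (xs p u z i) = xs p (f u) (f z) i := by simp [xs]

theorem map_wordP {H : Type*} [Group H] (U : Fin 3 → H) :
    (wordP p).map (FreeGroup.lift U) = Subgroup.closure (Set.range (xs p (U 0) (U 1))) := by
  rw [MonoidHom.map_closure, ← Set.range_comp]
  congr 2
  ext i
  simp [map_xs_hom, FreeGroup.lift_apply_of]

theorem exists_wordP (C : CoreSet n p) {ρ g : Perm (Fin n)} (ha : ρ C.a = C.a) (hb : ρ C.b = C.b)
    (hpt : ∀ i, ρ (C.pt i) = C.pt (i + 1)) {σ : Perm (Fin n)} (hσ : σ ∈ altOn C.pts) :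
    ∃ W ∈ wordP p, FreeGroup.lift ![ρ, cyc3 C.a C.b (C.pt 0), g] W = σ := by
  have : (wordP p).map (FreeGroup.lift ![ρ, cyc3 C.a C.b (C.pt 0), g]) = altOn C.pts := by
    have h := map_closure_xs (φ := MonoidHom.id _) C (map_xs (φ := MonoidHom.id _) C ha hb hpt rfl rfl)
    rw [Subgroup.map_id] at h
    rw [map_wordP]
    exact h
  rw [← this] at hσ
  exact hσ

/-- Everything even is generated. -/
theorem altOn_univ_le (C : CoreSet n p) (D : Shape n) (hD : D.Ω₁ = C.pts) {ρ : Perm (Fin n)} (ha : ρ C.a = C.a)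
    (hb : ρ C.b = C.b) (hpt : ∀ i, ρ (C.pt i) = C.pt (i + 1)) {S : Subgroup (Perm (Fin n))}
    (hρ : ρ ∈ S) (hz : cyc3 C.a C.b (C.pt 0) ∈ S) (hg : D.g ∈ S) : altOn Finset.univ ≤ S := by
  have h := map_closure_xs (φ := MonoidHom.id _) C (map_xs (φ := MonoidHom.id _) C ha hb hpt rfl rfl)
  rw [Subgroup.map_id] at h
  have h1 : altOn D.Ω₁ ≤ S := by
    rw [hD, ← h, Subgroup.closure_le]
    rintro _ ⟨i, rfl⟩
    exact mul_mem (mul_mem (pow_mem hρ _) hz) (inv_mem (pow_mem hρ _))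
  have hA := D.a_mem
  have hB := D.b_mem
  simp only [Finset.mem_sdiff, Finset.mem_inter] at hA hB
  have gg : ∀ x, D.g (D.g x) = x := fun x => by rw [← Perm.mul_apply, D.g_sq, Perm.one_apply]
  refine altOn_le D.a_ne_b fun j _ hja hjb => ?_
  by_cases hj : j ∈ D.Ω₁
  · exact h1 (cyc3_mem_altOn D.a_ne_b hjb.symm hA.1.1 hB.1.1 hj)
  have hj2 : j ∈ D.Ω₂ := (Finset.mem_union.mp (D.cover ▸ Finset.mem_univ j)).resolve_left hj
  have back : ∀ x ∈ D.Ω₂, D.g x ∈ D.Ω₁ := fun x hx => (D.g_map _).mp (by rwa [gg])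
  have := mul_mem (mul_mem hg (h1 (cyc3_mem_altOn (a := D.g D.a) (b := D.g D.b) (c := D.g j)
    (fun e => D.a_ne_b (D.g.injective e)) (fun e => hjb (D.g.injective e).symm)
    (back _ hA.1.2) (back _ hB.1.2) (back _ hj2)))) (inv_mem hg)
  rwa [cyc3_conj, gg, gg, gg] at this

/-- The common six relations with a seventh. -/
theorem presOn_common {T : Type*} [Group T] (ι : T →* Perm (Fin n)) (hι : Function.Injective ι)
    (hA : altOn Finset.univ ≤ ι.range) (C : CoreSet n p) (D : Shape n) (hn : p + 2 ≤ n) (hp : p ≠ 2)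
    (hD : D.Ω₁ = C.pts) (hg : D.g ∈ ι.range) {l : ℕ} (hl : Odd l) (hql : D.q ^ l = 1)
    (hgen : ∀ S : Subgroup (Perm (Fin n)), altOn Finset.univ ≤ S → D.g ∈ S → ι.range ≤ S)
    (hK : ∀ ρ : Perm (Fin n), ρ C.a = C.a → ρ C.b = C.b → (∀ i, ρ (C.pt i) = C.pt (i + 1)) →
      ρ ∈ altOn C.pts →
      ∃ r₇, FreeGroup.lift ![ρ, cyc3 C.a C.b (C.pt 0), D.g] r₇ = 1 ∧
        ∀ (H : Type) [Group H] (U : Fin 3 → H) (φ : H →* Perm (Fin n)),
          φ.comp (FreeGroup.lift U) = FreeGroup.lift ![ρ, cyc3 C.a C.b (C.pt 0), D.g] →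
          FreeGroup.lift U r₇ = 1 → Kind n D φ (Subgroup.closure (Set.range (xs p (U 0) (U 1)))) (U 2)) :
    ∃ gens : Fin 3 → T, PresOn gens 7 ∧ ι (gens 1) = cyc3 C.a C.b (C.pt 0) := by
  obtain ⟨γu, hγu⟩ := IsCyclic.exists_generator (α := (ZMod p)ˣ)
  set γ : ZMod p := (γu : ZMod p) with hγdef
  have hγ : ∀ a : ZMod p, a ≠ 0 → ∃ l : ℕ, γ ^ l = a := fun a ha => by
    obtain ⟨k, hk⟩ := (mem_powers_iff_mem_zpowers.mpr (hγu (Units.mk0 a ha)))
    exact ⟨k, by simpa using congrArg Units.val hk⟩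
  have hγ1 : γ ≠ 1 := fun e => by
    obtain ⟨k, hk⟩ := hγ (-1) (by simp)
    rw [e, one_pow] at hk
    have : ((2 : ℕ) : ZMod p) = 0 := by push_cast; linear_combination hk
    exact hp ((Nat.prime_dvd_prime_iff_eq Fact.out Nat.prime_two).mp ((ZMod.natCast_eq_zero_iff 2 p).mp this))
  set s := ((γ - 1)⁻¹).val
  have hs : (γ - 1) * (s : ZMod p) = 1 := by
    rw [ZMod.natCast_zmod_val, mul_inv_cancel₀ (sub_ne_zero.mpr hγ1)]
  obtain ⟨ρ, η, ha, hb, hpt, hρ, hη, ρp, ηp, hηρ, hηz⟩ := C.exists_model hp hγ hs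
  obtain ⟨r₇, h7, hK⟩ := hK ρ ha hb hpt hρ
  set z0 := cyc3 C.a C.b (C.pt 0) with hz0
  have hz0A : z0 ∈ altOn C.pts := cyc3_mem_altOn C.a_ne_b (C.pt_b 0).symm C.a_mem C.b_mem (C.pt_mem 0)
  have inT : ∀ σ ∈ altOn C.pts, σ ∈ ι.range := fun σ h => hA (altOn_mono (Finset.subset_univ _) h)
  obtain ⟨tu, htu⟩ := inT ρ hρ
  obtain ⟨tz, htz⟩ := inT z0 hz0A
  obtain ⟨tg, htg⟩ := hg
  set P3 : Fin 3 → Perm (Fin n) := ![ρ, z0, D.g] with hP3
  have hgens : ∀ i, ι (![tu, tz, tg] i) = P3 i := fun i => by fin_cases i <;> simp [hP3, htu, htz, htg]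
  have hcomp : ι.comp (FreeGroup.lift ![tu, tz, tg]) = FreeGroup.lift P3 :=
    FreeGroup.ext_hom _ _ fun i => by simp [hgens i]
  -- words
  have gback : ∀ σ ∈ altOn D.Ω₂, D.g * σ * D.g ∈ altOn C.pts := fun σ hσ => by
    refine ⟨by rw [map_mul, map_mul, hσ.1, mul_one, ← map_mul, D.g_sq, map_one], fun x hx => ?_⟩
    rw [Perm.mul_apply, Perm.mul_apply, hσ.2 (D.g x) (fun hm => hx (hD ▸ (D.g_map x).mp hm)), ← Perm.mul_apply,
      D.g_sq, Perm.one_apply]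
  have word : ∀ σ ∈ altOn C.pts, ∃ W ∈ wordP p, FreeGroup.lift P3 W = σ := fun σ h =>
    exists_wordP C ha hb hpt h
  obtain ⟨Wh, mh, lh⟩ := word _ hη
  obtain ⟨Wv, mv, lv⟩ := word _ (hD ▸ altOn_mono Finset.inter_subset_left D.hq)
  obtain ⟨Wq, mq, lq⟩ := word _ (gback _ (altOn_mono Finset.inter_subset_right D.hq))
  obtain ⟨We, me, le'⟩ := word _ (hD ▸ altOn_mono D.X_le D.he)
  obtain ⟨Wf, mf, lf⟩ := word _ (gback _ (altOn_mono D.Z_le D.hf))
  let u : FreeGroup (Fin 3) := FreeGroup.of 0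
  let z : FreeGroup (Fin 3) := FreeGroup.of 1
  let g : FreeGroup (Fin 3) := FreeGroup.of 2
  let rels : List (FreeGroup (Fin 3)) :=
    [u ^ p * (Wh ^ (p - 1))⁻¹, Wh * u ^ s * Wh⁻¹ * (u ^ (s + 1))⁻¹, Wh * z * Wh⁻¹ * z,
      (z * (u * z * u⁻¹)) ^ 2 * (z ^ 3)⁻¹, g * Wq * g⁻¹ * (Wv ^ (l + 1) * z ^ 3)⁻¹,
      We * (g * Wf * g⁻¹) * We⁻¹ * (g * Wf * g⁻¹)⁻¹ * (z ^ 3)⁻¹, r₇]
  refine ⟨![tu, tz, tg], presOn_of_inj _ rels le_rfl ?_ ?_ ?_, htz⟩
  · have key : ∀ w ∈ rels, FreeGroup.lift P3 w = 1 := by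
      have eu : FreeGroup.lift P3 u = ρ := by simp [u, hP3]
      have ez : FreeGroup.lift P3 z = z0 := by simp [z, hP3]
      have eg : FreeGroup.lift P3 g = D.g := by simp [g, hP3]
      have z3 : z0 ^ 3 = 1 := cyc3_cube C.a_ne_b (C.pt_a 0).symm (C.pt_b 0).symm
      have ginv : D.g⁻¹ = D.g := inv_eq_of_mul_eq_one_right D.g_sq
      have gg : ∀ σ, D.g * (D.g * σ * D.g) * D.g = σ := fun σ => by
        rw [show D.g * (D.g * σ * D.g) * D.g = D.g * D.g * σ * (D.g * D.g) by simp only [mul_assoc], D.g_sq,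
          one_mul, mul_one]
      intro w hw
      simp only [rels, List.mem_cons, List.not_mem_nil, or_false] at hw
      rcases hw with rfl | rfl | rfl | rfl | rfl | rfl | rfl
      · simp only [map_mul, map_inv, map_pow, eu, lh, ρp, ηp, inv_one, one_mul]
      · simp only [map_mul, map_inv, map_pow, eu, lh, hηρ, mul_inv_cancel]
      · simp only [map_mul, map_inv, ez, lh, hηz, inv_mul_cancel]
      · simp only [map_mul, map_inv, map_pow, eu, ez, z3, inv_one, mul_one]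
        have e : ρ * z0 * ρ⁻¹ = cyc3 C.a C.b (C.pt 1) := by rw [hz0, cyc3_conj, ha, hb, hpt, zero_add]
        rw [e, hz0, cyc3_pair C.a_ne_b (C.pt_a 0).symm (C.pt_a 1).symm (C.pt_b 0).symm (C.pt_b 1).symm
          (fun e => zero_ne_one (C.pt_inj e))]
      · simp only [map_mul, map_inv, map_pow, eg, ez, lq, lv, z3, ginv, mul_one, gg]
        rw [pow_succ D.q, hql, one_mul, mul_inv_cancel]
      · simp only [map_mul, map_inv, map_pow, eg, ez, le', lf, z3, ginv, gg, inv_one, mul_one]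
        rw [(commute_of_disjoint D.he D.hf D.disjoint).eq, mul_inv_cancel_right, mul_inv_cancel]
      · exact h7
    exact fun w hw => hι (by rw [map_one, ← key w hw, ← hcomp, MonoidHom.comp_apply])
  · rw [eq_top_iff, ← Subgroup.map_le_map_iff_of_injective hι, ← MonoidHom.range_eq_map, MonoidHom.map_closure]
    have m : ∀ i, P3 i ∈ Subgroup.closure (ι '' Set.range ![tu, tz, tg]) := fun i =>
      Subgroup.subset_closure ⟨_, ⟨i, rfl⟩, hgens i⟩
    exact hgen _ (altOn_univ_le C D hD ha hb hpt (m 0) (m 1) (m 2)) (m 2)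
  · intro H _ U φ hU hrel hφ x hx
    set Φ := ι.comp φ with hΦ
    have hΦc : Φ.comp (FreeGroup.lift U) = FreeGroup.lift P3 :=
      FreeGroup.ext_hom _ _ fun i => by simp [hΦ, hφ i, hgens i]
    have ap : ∀ w, Φ (FreeGroup.lift U w) = FreeGroup.lift P3 w := fun w => DFunLike.congr_fun hΦc w
    have eU : ∀ i, FreeGroup.lift U (FreeGroup.of i) = U i := fun i => FreeGroup.lift_apply_of
    have Φ0 : Φ (U 0) = ρ := by simp [hΦ, hφ, htu]
    have Φ1 : Φ (U 1) = z0 := by simp [hΦ, hφ, htz]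
    have Φ2 : Φ (U 2) = D.g := by simp [hΦ, hφ, htg]
    have mP : ∀ {W}, W ∈ wordP p → FreeGroup.lift U W ∈ Subgroup.closure (Set.range (xs p (U 0) (U 1))) :=
      fun hW => map_wordP (p := p) U ▸ Subgroup.mem_map_of_mem _ hW
    simp only [rels, List.mem_cons, List.not_mem_nil, or_false, forall_eq_or_imp, forall_eq, map_mul, map_inv,
      map_pow, mul_inv_eq_one, eU, u, z, g] at hrel
    obtain ⟨r1, r2, r3, r4, r5, r6, r7⟩ := hrel
    have R : CoreRel p γ s (U 0) (U 1) (FreeGroup.lift U Wh) :=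
      ⟨r1, r2, eq_inv_of_mul_eq_one_left r3, r4, mP mh⟩
    refine main_inj (φ := Φ) C D hn hD (q₁ := FreeGroup.lift U Wq) (v := FreeGroup.lift U Wv)
      (ee := FreeGroup.lift U We) (ff := U 2 * FreeGroup.lift U Wf * (U 2)⁻¹) R hs hγ
      (map_xs C ha hb hpt Φ0 Φ1) Φ2 (mP mq) (mP mv) (mP me) ⟨_, mP mf, rfl⟩ (by rw [ap, lv]) (by rw [ap, le'])
      ?_ hl hql r5 r6 ?_ (hK H U Φ hΦc r7) x (by simp [hΦ, hx])
    · rw [map_mul, map_mul, map_inv, ap, lf, Φ2, inv_eq_of_mul_eq_one_right D.g_sq]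
      rw [show D.g * (D.g * D.f * D.g) * D.g = D.g * D.g * D.f * (D.g * D.g) by simp only [mul_assoc], D.g_sq,
        one_mul, mul_one]
    · rw [← hU]
      congr 1
      ext y
      constructor
      · rintro (rfl | rfl | rfl) <;> exact ⟨_, rfl⟩
      · rintro ⟨i, rfl⟩; fin_cases i <;> simp

/-- The symmetric group. -/
theorem presOn_sym (C : CoreSet n p) (D : Shape n) (hn : p + 2 ≤ n) (hp : p ≠ 2) (hD : D.Ω₁ = C.pts) {l : ℕ}
    (hl : Odd l) (hql : D.q ^ l = 1) (hodd : Perm.sign D.g = -1) :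
    ∃ gens : Fin 3 → Perm (Fin n), PresOn gens 7 ∧ gens 1 = cyc3 C.a C.b (C.pt 0) := by
  refine presOn_common (MonoidHom.id _) Function.injective_id (fun σ _ => ⟨σ, rfl⟩) C D hn hp hD ⟨_, rfl⟩ hl hql
    (fun S hS hg σ _ => ?_) fun ρ _ _ _ _ => ⟨FreeGroup.of 2 * FreeGroup.of 2, by simp [D.g_sq],
      fun H _ U φ hφ hr => Kind.odd (by simpa using hr) hodd⟩
  rcases Int.units_eq_one_or (Perm.sign σ) with h | h
  · exact hS ⟨h, fun x hx => absurd (Finset.mem_univ x) hx⟩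
  · have : σ * D.g⁻¹ ∈ S := hS ⟨by rw [map_mul, map_inv, h, hodd]; rfl, fun x hx => absurd (Finset.mem_univ x) hx⟩
    simpa using mul_mem this hg

/-- The alternating group. -/
theorem presOn_alt (C : CoreSet n p) (D : Shape n) (hn : p + 2 ≤ n) (hp : p ≠ 2) (hD : D.Ω₁ = C.pts) {l : ℕ}
    (hl : Odd l) (hql : D.q ^ l = 1) (τ₁ τ₂ ω : Perm (Fin n)) (h₁ : τ₁ ∈ altOn D.Ω₁) (h₂ : τ₂ ∈ altOn D.Ω₂)
    (e₁ : τ₁ * τ₁ = 1) (e₂ : τ₂ * τ₂ = 1) (hω : Perm.sign ω = 1) (hg : D.g = ω * (τ₁ * τ₂) * ω⁻¹)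
    (hv : τ₂ = 1 ∨ (D.σY ∈ Subgroup.zpowers D.q ∧ D.σS ∈ Subgroup.zpowers D.q ∧
      τ₁ ∈ altOn (D.Ω₁ \ D.S) ∧ τ₂ ∈ altOn ((D.Ω₂ \ D.Ω₁) ∪ D.S))) :
    ∃ gens : Fin 3 → alternatingGroup (Fin n), PresOn gens 7 ∧ (gens 1 : Perm (Fin n)) = cyc3 C.a C.b (C.pt 0) := by
  have hsg : Perm.sign D.g = 1 := by
    rw [hg, map_mul, map_mul, map_mul, map_inv, hω, h₁.1, h₂.1]; rfl
  have hr : (alternatingGroup (Fin n)).subtype.range = altOn Finset.univ := by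
    rw [Subgroup.range_subtype, altOn_univ]
  refine presOn_common (alternatingGroup (Fin n)).subtype (Subgroup.subtype_injective _) hr.ge C D hn hp hD
    (by rw [hr]; exact ⟨hsg, fun x hx => absurd (Finset.mem_univ x) hx⟩) hl hql (fun S hS _ => hr.trans_le hS)
    fun ρ ha hb hpt hρ => ?_
  set P3 : Fin 3 → Perm (Fin n) := ![ρ, cyc3 C.a C.b (C.pt 0), D.g] with hP3
  have ginv : D.g⁻¹ = D.g := inv_eq_of_mul_eq_one_right D.g_sq
  have word : ∀ σ ∈ altOn C.pts, ∃ W ∈ wordP p, FreeGroup.lift P3 W = σ := fun σ h =>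
    exists_wordP C ha hb hpt h
  obtain ⟨W₁, m₁, l₁⟩ := word _ (hD ▸ h₁)
  obtain ⟨W₂, m₂, l₂⟩ : ∃ W : FreeGroup (Fin 3), (∃ W' ∈ wordP p, W = FreeGroup.of 2 * W' * (FreeGroup.of 2)⁻¹) ∧
      FreeGroup.lift P3 W = τ₂ ∧ (τ₂ = 1 → W = 1) := by
    by_cases ht : τ₂ = 1
    · exact ⟨1, ⟨1, one_mem _, by group⟩, by rw [map_one, ht], fun _ => rfl⟩
    · have hσ : D.g * τ₂ * D.g ∈ altOn C.pts := by
        refine ⟨by rw [map_mul, map_mul, h₂.1, mul_one, ← map_mul, D.g_sq, map_one], fun x hx => ?_⟩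
        rw [Perm.mul_apply, Perm.mul_apply, h₂.2 (D.g x) (fun hm => hx (hD ▸ (D.g_map x).mp hm)), ← Perm.mul_apply,
          D.g_sq, Perm.one_apply]
      obtain ⟨W, m, lW⟩ := word _ hσ
      refine ⟨_, ⟨W, m, rfl⟩, ?_, fun h => absurd h ht⟩
      rw [map_mul, map_mul, map_inv, lW, FreeGroup.lift_apply_of, show P3 2 = D.g from rfl]
      rw [ginv]
      rw [show D.g * (D.g * τ₂ * D.g) * D.g = D.g * D.g * τ₂ * (D.g * D.g) by simp only [mul_assoc], D.g_sq,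
        one_mul, mul_one]
  obtain ⟨W₀, l₀⟩ : ω ∈ (FreeGroup.lift P3).range := by
    rw [FreeGroup.range_lift_eq_closure]
    exact altOn_univ_le C D hD ha hb hpt (Subgroup.subset_closure (k := Set.range P3) ⟨0, rfl⟩) (Subgroup.subset_closure (k := Set.range P3) ⟨1, rfl⟩)
      (Subgroup.subset_closure (k := Set.range P3) ⟨2, rfl⟩) ⟨hω, fun x hx => absurd (Finset.mem_univ x) hx⟩
  refine ⟨FreeGroup.of 2 * (W₀ * (W₁ * W₂) * W₀⁻¹)⁻¹, ?_, fun H _ U φ hφ hr => ?_⟩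
  · simp only [map_mul, map_inv, l₀, l₁, l₂.1, FreeGroup.lift_apply_of, mul_inv_eq_one]
    exact (show P3 2 = D.g from rfl).trans hg
  · have ap : ∀ w, φ (FreeGroup.lift U w) = FreeGroup.lift P3 w := fun w => DFunLike.congr_fun hφ w
    refine Kind.even (FreeGroup.lift U W₁) (FreeGroup.lift U W₂) (FreeGroup.lift U W₀)
      (map_wordP (p := p) U ▸ Subgroup.mem_map_of_mem _ m₁) ?_ (by rw [ap, l₁, e₁]) (by rw [ap, l₂.1, e₂]) ?_ ?_
    · obtain ⟨W', mW, rfl⟩ := m₂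
      exact ⟨_, map_wordP (p := p) U ▸ Subgroup.mem_map_of_mem _ mW, by simp⟩
    · rw [map_mul, map_inv, mul_inv_eq_one] at hr
      simpa using hr
    · rcases hv with h | ⟨hY, hS, n₁, n₂⟩
      · exact Or.inl (by rw [l₂.2 h, map_one])
      · exact Or.inr ⟨hY, hS, by rw [ap, l₁]; exact n₁, by rw [ap, l₂.1]; exact n₂⟩

end Cfsg.Agent.KSG55.Pres
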